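import Cfsg.Agent.Lib.TensorSymp93.Fusion

/-!
An involution of the symplectic factor is fused into the stabiliser only by the stabiliser.
-/

set_option autoImplicit false
set_option linter.unusedSectionVars false
set_option linter.unusedSimpArgs false

namespace CfsgLib.TensorSymp93

open Matrix Module
open CfsgLib.GeomClasses.TensorMax (V2 M2 pl pr pr_eq C D C_pl D_pl ext_pl eq_sum exists_dot_eq_one)

variable {F : Type*} [Field F] [Fintype F] {a b : ℕ}

/-- A symmetric form in dimension at least three has a non-zero isotropic vector. -/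
theorem exists_isotropic_symm {n : ℕ} (hn : 3 ≤ n) (h2 : (2 : F) ≠ 0)
    (Q : LinearMap.BilinForm F (Fin n → F)) (hQ : ∀ x y, Q x y = Q y x) : ∃ x, x ≠ 0 ∧ Q x x = 0 := by
  have hperp : ∀ x y, ∃ z, z ≠ 0 ∧ Q x z = 0 ∧ Q y z = 0 := fun x y => by
    have hlt : finrank F (F × F) < finrank F (Fin n → F) := by
      rw [Module.finrank_prod, Module.finrank_self, Module.finrank_fin_fun]; omega
    obtain ⟨z, hz, hz0⟩ := (Submodule.ne_bot_iff _).1
      (LinearMap.ker_ne_bot_of_finrank_lt (f := (Q x).prod (Q y)) hlt)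
    rw [LinearMap.mem_ker] at hz
    exact ⟨z, hz0, congrArg Prod.fst hz, congrArg Prod.snd hz⟩
  obtain ⟨x₁, h10, -, -⟩ := hperp 0 0
  by_cases h1 : Q x₁ x₁ = 0
  · exact ⟨x₁, h10, h1⟩
  obtain ⟨x₂, h20, h12, -⟩ := hperp x₁ 0
  by_cases h22 : Q x₂ x₂ = 0
  · exact ⟨x₂, h20, h22⟩
  obtain ⟨x₃, h30, h13, h23⟩ := hperp x₁ x₂
  by_cases h3 : Q x₃ x₃ = 0
  · exact ⟨x₃, h30, h3⟩
  obtain ⟨s, t, hst⟩ := CfsgLib.TensorSympMax.exists_binary h2 h1 h22 (-Q x₃ x₃)
  refine ⟨s • x₁ + t • x₂ + x₃, fun h0 => h3 ?_, ?_⟩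
  · have h := congrArg (fun z => Q z x₃) h0
    simpa [h13, h23] using h
  · simp [hQ x₂ x₁, hQ x₃ x₁, hQ x₃ x₂, h12, h13, h23]
    linear_combination hst

namespace Data

variable {S : Data F a b} {H : Subgroup (GL (Fin a × Fin b) F)}

/-- An isometry involution with both eigenvalues. -/
structure Inv₁ (S : Data F a b) (σ : GL (Fin a) F) : Prop where
  iso : ∀ x y, S.f₁ (ap σ x) (ap σ y) = S.f₁ x y
  sq : σ * σ = 1
  pos : ∃ u, u ≠ 0 ∧ ap σ u = u
  neg : ∃ v, v ≠ 0 ∧ ap σ v = -v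

/-- The centraliser of an involution of the symplectic factor. -/
theorem Over.cent_inv (hO : S.Over H) {σ : GL (Fin a) F} (hσ : S.Inv₁ σ) {h : GL (Fin a × Fin b) F}
    (hh : h ∈ H) (hc : h * kr (σ, (1 : GL (Fin b) F)) = kr (σ, (1 : GL (Fin b) F)) * h) : h ∈ S.T := by
  obtain ⟨u, hu, hσu⟩ := hσ.pos
  obtain ⟨v, hv, hσv⟩ := hσ.neg
  refine hO.fus hh hu (hO.fix_right (H.mul_mem (H.mul_mem hh (hO.tensor (rootL_mem S u))) (H.inv_mem hh)) hv
    fun w => ?_)
  set t := kr (σ, (1 : GL (Fin b) F)) with ht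
  set z := ap h⁻¹ (pl w v) with hz
  have htz : ap t z = -z := by
    have hc' : t * h⁻¹ = h⁻¹ * t := by
      calc t * h⁻¹ = h⁻¹ * (h * t) * h⁻¹ := by group
        _ = h⁻¹ * (t * h) * h⁻¹ := by rw [hc]
        _ = h⁻¹ * t := by group
    rw [hz, ← ap_mul, hc', ap_mul, ht, ap_kr, hσv, ap_one, map_neg, map_neg]
  have hd : S.du u z = 0 := by
    have e := S.du_kr (p := (σ, (1 : GL (Fin b) F))) (μ := 1) (fun x y => by rw [hσ.iso, one_mul]) u z
    rw [hσu, ← ht, htz, map_neg, one_smul, ap_one] at e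
    exact (smul_eq_zero.1 (show (2 : F) • S.du u z = 0 by
      rw [two_smul]; linear_combination (norm := abel) -e)).resolve_left S.two
  rw [ap_mul, ap_mul, ← hz, ap_rootL, hd, pl_zero_right, add_zero, hz, ap_ap_inv]

/-- A vector `u` with `f₁(u, e u) = 0` on which the symmetrised root map does not vanish. -/
theorem exists_root_vector (S : Data F a b) {e : GL (Fin a) F} {μ c : F} (hμ : μ ≠ 0) (hc : c ≠ 0)
    (hsim : ∀ x y, S.f₁ (ap e x) (ap e y) = μ * S.f₁ x y) (hsq : ∀ x, ap e (ap e x) = c • x) :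
    ∃ u x, S.f₁ u (ap e u) = 0 ∧ S.f₁ u x • u + (μ⁻¹ * S.f₁ (ap e u) x) • ap e u ≠ 0 := by
  have hadj : ∀ x y, μ * S.f₁ x (ap e y) = c * S.f₁ (ap e x) y := fun x y => by
    rw [← hsim x (ap e y), hsq, map_smul, smul_eq_mul]
  have hne : ∀ u, u ≠ 0 → (∀ t : F, ap e u ≠ t • u) →
      ∃ x, S.f₁ u x • u + (μ⁻¹ * S.f₁ (ap e u) x) • ap e u ≠ 0 := by
    intro u hu hind
    obtain ⟨x, hx⟩ := S.exists_f₁_one hu
    refine ⟨x, fun h0 => ?_⟩
    rw [hx, one_smul] at h0
    by_cases hz : μ⁻¹ * S.f₁ (ap e u) x = 0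
    · rw [hz, zero_smul, add_zero] at h0; exact hu h0
    · refine hind (-(μ⁻¹ * S.f₁ (ap e u) x)⁻¹) ?_
      rw [neg_smul, eq_neg_iff_add_eq_zero, add_comm]
      have := congrArg (((μ⁻¹ * S.f₁ (ap e u) x)⁻¹) • ·) h0
      simp only [smul_zero] at this
      rwa [smul_add, smul_smul, inv_mul_cancel₀ hz, one_smul] at this
  have hcμ : c = μ ∨ c = -μ := by
    obtain ⟨x, y, hxy⟩ := S.exists_f₁
    have e1 := hsim (ap e x) (ap e y)
    rw [hsim x y, hsq, hsq, map_smul, map_smul, LinearMap.smul_apply, smul_eq_mul, smul_eq_mul, hxy] at e1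
    exact mul_self_eq_mul_self_iff.1 (by linear_combination e1)
  rcases hcμ with rfl | hcμ
  · -- self-adjoint
    obtain ⟨u, hu, -, -⟩ := S.exists_perp₁ 0 0
    have hu0 : S.f₁ u (ap e u) = 0 := by
      have h1 := hadj u u
      rw [S.skew u (ap e u)] at h1
      exact (mul_eq_zero.1 (show (2 * c) * S.f₁ u (ap e u) = 0 by linear_combination h1)).resolve_left
        (mul_ne_zero S.two hc)
    by_cases hind : ∀ t : F, ap e u ≠ t • u
    · obtain ⟨x, hx⟩ := hne u hu hind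
      exact ⟨u, x, hu0, hx⟩
    push Not at hind
    obtain ⟨t, ht⟩ := hind
    have htc : t * t = c := by
      have h1 := hsq u
      rw [ht, map_smul, ht, smul_smul] at h1
      exact smul_left_injective F hu h1
    obtain ⟨x, hx⟩ := S.exists_f₁_one hu
    refine ⟨u, x, hu0, ?_⟩
    rw [ht, map_smul, LinearMap.smul_apply, hx, smul_smul, ← add_smul]
    refine smul_ne_zero ?_ hu
    intro h0
    apply S.two
    rw [smul_eq_mul, mul_one, mul_assoc, htc, inv_mul_cancel₀ hc] at h0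
    linear_combination h0
  -- skew-adjoint
  have hskew : ∀ x y, S.f₁ x (ap e y) = -S.f₁ (ap e x) y := fun x y => by
    refine mul_left_cancel₀ hμ ?_
    rw [hadj, hcμ]; ring
  have hQ : ∀ x y, S.f₁ x (ap e y) = S.f₁ y (ap e x) := fun x y => by rw [hskew, S.skew y (ap e x), neg_neg]
  obtain ⟨u, hu, hu0⟩ := exists_isotropic_symm (n := a) (by have := S.ha; omega) S.two
    (S.f₁.compl₂ (ap e)) (fun x y => hQ x y)
  replace hu0 : S.f₁ u (ap e u) = 0 := hu0
  by_cases hind : ∀ t : F, ap e u ≠ t • u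
  · obtain ⟨x, hx⟩ := hne u hu hind
    exact ⟨u, x, hu0, hx⟩
  push Not at hind
  obtain ⟨t, ht⟩ := hind
  have htc : t * t = c := by
    have h1 := hsq u
    rw [ht, map_smul, ht, smul_smul] at h1
    exact smul_left_injective F hu h1
  have ht0 : t ≠ 0 := fun h0 => hc (by rw [← htc, h0, mul_zero])
  obtain ⟨x, hxu, hxt⟩ : ∃ x, S.f₁ u x = 0 ∧ ap e x ≠ t • x := by
    by_contra hall
    push Not at hall
    obtain ⟨u'', hu''⟩ := S.exists_f₁_one hu
    have hiso : ∀ x y, S.f₁ u x = 0 → S.f₁ u y = 0 → S.f₁ x y = 0 := by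
      intro x y hx hy
      have h1 := hsim x y
      rw [hall x hx, hall y hy, map_smul, map_smul, LinearMap.smul_apply, smul_eq_mul, smul_eq_mul,
        ← mul_assoc, htc, hcμ] at h1
      exact (mul_eq_zero.1 (show (2 * μ) * S.f₁ x y = 0 by linear_combination -h1)).resolve_left
        (mul_ne_zero S.two hμ)
    obtain ⟨z, hz, hzu, hzu''⟩ := S.exists_perp₁ u u''
    refine hz (S.nd₁ z fun y => ?_)
    have h1 := hiso z (y - S.f₁ u y • u'') hzu (by rw [map_sub, map_smul, hu'', smul_eq_mul, mul_one, sub_self])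
    rwa [map_sub, map_smul, S.skew u'' z, hzu'', neg_zero, smul_zero, sub_zero] at h1
  set v := ap e x - t • x with hv
  have hv0 : v ≠ 0 := sub_ne_zero.2 hxt
  have hev : ap e v = (-t) • v := by
    rw [hv, map_sub, map_smul, hsq, ← htc]
    module
  have huv : S.f₁ u v = 0 := by
    rw [hv, map_sub, map_smul, hskew, ht, map_smul, LinearMap.smul_apply, hxu, smul_zero, neg_zero, sub_zero]
  have hvu : S.f₁ v u = 0 := by rw [S.skew, huv, neg_zero]
  have hw : ∀ s : F, ap e (u + v) ≠ s • (u + v) := by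
    intro s hs
    rw [map_add, ht, hev] at hs
    have h2 := congrArg (ap e) hs
    simp only [map_add, map_smul, ht, hev] at h2
    have h3 : (2 * t * (t - s)) • u = 0 := by linear_combination (norm := module) t • hs + h2
    have h4 : s = t := by
      rcases mul_eq_zero.1 ((smul_eq_zero.1 h3).resolve_right hu) with h | h
      · exact absurd h (mul_ne_zero S.two ht0)
      · exact (sub_eq_zero.1 h).symm
    rw [h4] at hs
    have h5 : (2 * t) • v = 0 := by linear_combination (norm := module) -hs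
    exact mul_ne_zero S.two ht0 ((smul_eq_zero.1 h5).resolve_right hv0)
  have huv0 : u + v ≠ 0 := fun h0 => hw 0 (by rw [h0, map_zero, smul_zero])
  obtain ⟨x', hx'⟩ := hne _ huv0 hw
  refine ⟨u + v, x', ?_, hx'⟩
  rw [map_add (ap e), ht, hev]
  simp [S.alt, huv, hvu]

/-- Fusion of an involution of the symplectic factor. -/
theorem Over.fus_inv (hO : S.Over H) {σ : GL (Fin a) F} (hσ : S.Inv₁ σ) {h : GL (Fin a × Fin b) F}
    (hh : h ∈ H) (hr : h * kr (σ, (1 : GL (Fin b) F)) * h⁻¹ ∈ S.T) : h ∈ S.T := by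
  set t := kr (σ, (1 : GL (Fin b) F)) with ht
  obtain ⟨⟨e, g⟩, hp⟩ := S.exists_kr hr
  have hsq1 : kr ((e, g) : GL (Fin a) F × GL (Fin b) F) * kr (e, g) = 1 := by
    rw [← hp]
    have : t * t = 1 := by rw [ht, ← kr_mul, Prod.mk_mul_mk, hσ.sq, one_mul, Prod.mk_one_one, kr_one]
    calc h * t * h⁻¹ * (h * t * h⁻¹) = h * (t * t) * h⁻¹ := by group
      _ = 1 := by rw [this]; group
  obtain ⟨μ, ν, hμν, h1, -⟩ := exists_sim (S := S) (p := (e, g)) (hp ▸ hr.2)
  obtain ⟨c, hc0, hesq⟩ : ∃ c : F, c ≠ 0 ∧ ∀ x, ap e (ap e x) = c • x := by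
    obtain ⟨w, hw⟩ := S.exists_ne₂
    obtain ⟨φ, hφ⟩ := exists_dot_eq_one hw
    have e2 : ∀ x, (φ ⬝ᵥ ap g (ap g w)) • ap e (ap e x) = x := fun x => by
      have := congrArg (fun t => C φ (ap t (pl w x))) hsq1
      simpa only [ap_mul, ap_kr, ap_one, C_pl, hφ, one_smul] using this
    have hs : φ ⬝ᵥ ap g (ap g w) ≠ 0 := fun h0 => by
      obtain ⟨x, hx, -, -⟩ := S.exists_perp₁ 0 0
      have := e2 x
      rw [h0, zero_smul] at this
      exact hx this.symm
    exact ⟨_, inv_ne_zero hs, fun x => (inv_smul_eq_iff₀ hs).2 (e2 x).symm |>.symm⟩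
  obtain ⟨u, x0, hu0, hne⟩ := S.exists_root_vector (left_ne_zero_of_mul_eq_one hμν) hc0 h1 hesq
  have hu : u ≠ 0 := fun h0 => hne (by simp [h0])
  set E0 := S.tr u 1 * S.tr (ap e u) μ⁻¹ with hE0
  have hE0a : ∀ x, ap E0 x = x + S.f₁ u x • u + (μ⁻¹ * S.f₁ (ap e u) x) • ap e u := fun x => by
    simp only [hE0, ap_mul, S.ap_tr, map_add, map_smul, hu0, smul_zero, add_zero, one_mul]
    abel
  set y0 : GL (Fin a × Fin b) F := kr (E0, (1 : GL (Fin b) F)) with hy0
  have hy0T : y0 ∈ S.T := S.krL_mem fun x y => by simp only [hE0, ap_mul, S.tr_isometry]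
  have hμ0 := left_ne_zero_of_mul_eq_one hμν
  have hadj : ∀ x y, μ * S.f₁ x (ap e y) = c * S.f₁ (ap e x) y := fun x y => by
    rw [← h1 x (ap e y), hesq, map_smul, smul_eq_mul]
  have hcomm : y0 * (h * t * h⁻¹) = (h * t * h⁻¹) * y0 := by
    rw [hp, hy0, ← kr_mul, ← kr_mul]
    refine kr_eq_of fun x w => ?_
    simp only [Prod.mk_mul_mk, ap_kr, ap_mul, ap_one, one_mul, mul_one, hE0a, map_add, map_smul]
    rw [h1, hesq]
    have e1 : S.f₁ u (ap e x) = μ⁻¹ * c * S.f₁ (ap e u) x := by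
      rw [mul_assoc, ← hadj, ← mul_assoc, inv_mul_cancel₀ hμ0, one_mul]
    rw [e1, ← mul_assoc, inv_mul_cancel₀ hμ0, one_mul, map_smul (pl (ap g w)) c u]
    module
  set z := h⁻¹ * y0 * h with hz
  have hzT : z ∈ S.T := by
    refine hO.cent_inv hσ (H.mul_mem (H.mul_mem (H.inv_mem hh) (hO.tensor hy0T)) hh) ?_
    calc z * t = h⁻¹ * (y0 * (h * t * h⁻¹)) * h := by rw [hz]; group
      _ = h⁻¹ * ((h * t * h⁻¹) * y0) * h := by rw [hcomm]
      _ = t * z := by rw [hz]; group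
  have hE0sq : ∀ x, ap E0 (ap E0 x - x) = ap E0 x - x := fun x => by
    have e1 : S.f₁ (ap e u) u = 0 := by rw [S.skew, hu0, neg_zero]
    simp [hE0a, map_add, map_sub, S.alt, hu0, e1]
  have hfix : ∀ z, ap (rootL S u) (ap y0 z - z) = ap y0 z - z := by
    have : ((ap (rootL S u)).comp (ap y0 - LinearMap.id) : V2 F a b →ₗ[F] V2 F a b) = ap y0 - LinearMap.id :=
      ext_pl fun x w => by
        rw [LinearMap.comp_apply, LinearMap.sub_apply, LinearMap.id_apply, hy0, ap_kr, ap_one, ← map_sub,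
          ap_rootL, S.du_pl, hE0a]
        simp [S.alt, hu0, pl_zero_right]
    exact fun z => LinearMap.congr_fun this z
  have hsqy : ∀ z, ap y0 (ap y0 z - z) = ap y0 z - z := by
    have : ((ap y0).comp (ap y0 - LinearMap.id) : V2 F a b →ₗ[F] V2 F a b) = ap y0 - LinearMap.id :=
      ext_pl fun x w => by
        rw [LinearMap.comp_apply, LinearMap.sub_apply, LinearMap.id_apply, hy0, ap_kr, ap_one, ← map_sub,
          ap_kr, ap_one, hE0sq]
    exact fun z => LinearMap.congr_fun this z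
  have himg : ∀ v, ap z v - v = ap h⁻¹ (ap y0 (ap h v) - ap h v) := fun v => by
    rw [hz, ap_mul, ap_mul, map_sub, ap_inv_ap]
  have hconj : h⁻¹ * rootL S u * h⁻¹⁻¹ ∈ S.T := by
    rw [inv_inv]
    refine hO.move hzT (fun v => ?_) ?_ (H.mul_mem (H.mul_mem (H.inv_mem hh) (hO.tensor (rootL_mem S u))) hh)
      fun v => ?_
    · rw [himg, hz, ap_mul, ap_mul, ap_ap_inv, hsqy]
    · intro h0
      have h1y : y0 = 1 := by
        calc y0 = h * z * h⁻¹ := by rw [hz]; group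
          _ = 1 := by rw [h0]; group
      obtain ⟨w, hw⟩ := S.exists_ne₂
      have e1 := congrArg (fun t => ap t (pl w x0)) h1y
      simp only [hy0, ap_kr, ap_one] at e1
      have e2 := pl_inj hw e1
      rw [hE0a, add_assoc, add_eq_left] at e2
      exact hne e2
    · rw [himg, ap_mul, ap_mul, ap_ap_inv, hfix]
  exact inv_inv h ▸ S.T.inv_mem (hO.fus (H.inv_mem hh) hu hconj)

end Data

end CfsgLib.TensorSymp93
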