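import Cfsg.Agent.Lib.GeomClasses.TensorMaximal

/-!
The tensor product of a symplectic space and an orthogonal space in odd characteristic: contractions,
Kronecker pairs, and the standard elements of the stabiliser.
-/

set_option autoImplicit false
set_option linter.unusedSectionVars false
set_option linter.unusedSimpArgs false
set_option linter.unnecessarySeqFocus false

namespace CfsgLib.TensorSymp93

open Matrix Module
open scoped Kronecker
open CfsgLib.GeomClasses.TensorMax (V2 M2 pl C D C_pl D_pl ext_pl eq_sum)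

variable {F : Type*} [Field F] {a b : ℕ}

attribute [-simp] Matrix.coe_units_inv

section gl

variable {κ : Type} [Fintype κ] [DecidableEq κ]

/-- The linear map of an invertible matrix. -/
def ap (g : GL κ F) : (κ → F) →ₗ[F] (κ → F) := Matrix.mulVecLin (g : Matrix κ κ F)

theorem ap_apply (g : GL κ F) (x : κ → F) : ap g x = (g : Matrix κ κ F) *ᵥ x := rfl

@[simp] theorem ap_mul (g h : GL κ F) (x : κ → F) : ap (g * h) x = ap g (ap h x) := by
  simp [ap_apply, Matrix.mulVec_mulVec]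

@[simp] theorem ap_one (x : κ → F) : ap (1 : GL κ F) x = x := by simp [ap_apply]

@[simp] theorem ap_inv_ap (g : GL κ F) (x : κ → F) : ap g⁻¹ (ap g x) = x := by
  rw [← ap_mul, inv_mul_cancel, ap_one]

@[simp] theorem ap_ap_inv (g : GL κ F) (x : κ → F) : ap g (ap g⁻¹ x) = x := by
  rw [← ap_mul, mul_inv_cancel, ap_one]

theorem ap_inj (g : GL κ F) : Function.Injective (ap g) :=
  Function.LeftInverse.injective (g := ap g⁻¹) (ap_inv_ap g)

theorem ap_surj (g : GL κ F) : Function.Surjective (ap g) :=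
  Function.RightInverse.surjective (g := ap g⁻¹) (ap_ap_inv g)

theorem gext {g h : GL κ F} (H : ∀ x, ap g x = ap h x) : g = h :=
  Units.ext (Matrix.ext_of_mulVec_single fun _ => H _)

/-- The invertible matrix of an injective linear map. -/
noncomputable def glMk (L : (κ → F) →ₗ[F] (κ → F)) (h : Function.Injective L) : GL κ F :=
  (Matrix.mulVec_injective_iff_isUnit.1 (show Function.Injective (LinearMap.toMatrix' L).mulVec from
    fun x y e => h (by simpa [LinearMap.toMatrix'_mulVec] using e))).unit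

theorem ap_glMk (L : (κ → F) →ₗ[F] (κ → F)) (h : Function.Injective L) (x : κ → F) : ap (glMk L h) x = L x := by
  rw [ap_apply, glMk, IsUnit.unit_spec, LinearMap.toMatrix'_mulVec]

end gl

/-! ### Kronecker pairs -/

/-- `E ⊗ G`. -/
def kr (p : GL (Fin a) F × GL (Fin b) F) : GL (Fin a × Fin b) F :=
  ⟨(p.1 : Matrix _ _ F) ⊗ₖ (p.2 : Matrix _ _ F),
    ((p.1⁻¹ : GL (Fin a) F) : Matrix _ _ F) ⊗ₖ ((p.2⁻¹ : GL (Fin b) F) : Matrix _ _ F),
    by rw [← Matrix.mul_kronecker_mul, ← Units.val_mul, ← Units.val_mul, mul_inv_cancel, mul_inv_cancel,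
      Units.val_one, Units.val_one, Matrix.one_kronecker_one],
    by rw [← Matrix.mul_kronecker_mul, ← Units.val_mul, ← Units.val_mul, inv_mul_cancel, inv_mul_cancel,
      Units.val_one, Units.val_one, Matrix.one_kronecker_one]⟩

@[simp] theorem ap_kr (p : GL (Fin a) F × GL (Fin b) F) (u : Fin a → F) (w : Fin b → F) :
    ap (kr p) (pl w u) = pl (ap p.2 w) (ap p.1 u) :=
  CfsgLib.GeomClasses.TensorMax.kronecker_mulVec_pl _ _ u w

/-- `E ⊗ G` as a homomorphism. -/
def krHom : GL (Fin a) F × GL (Fin b) F →* GL (Fin a × Fin b) F where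
  toFun := kr
  map_one' := Units.ext (by simp [kr])
  map_mul' p q := Units.ext (by simp [kr, Matrix.mul_kronecker_mul])

theorem kr_mul (p q : GL (Fin a) F × GL (Fin b) F) : kr (p * q) = kr p * kr q := krHom.map_mul p q

theorem kr_inv (p : GL (Fin a) F × GL (Fin b) F) : kr p⁻¹ = (kr p)⁻¹ := krHom.map_inv p

theorem kr_one : kr (1 : GL (Fin a) F × GL (Fin b) F) = 1 := krHom.map_one

/-- The data of the tensor product of a symplectic space `F^a` and an orthogonal space `F^b`, `q` odd. -/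
structure Data (F : Type*) [Field F] (a b : ℕ) where
  f₁ : LinearMap.BilinForm F (Fin a → F)
  f₂ : LinearMap.BilinForm F (Fin b → F)
  B : LinearMap.BilinForm F (V2 F a b)
  alt : ∀ u, f₁ u u = 0
  symm : ∀ w w', f₂ w w' = f₂ w' w
  nd₁ : ∀ u, (∀ x, f₁ u x = 0) → u = 0
  nd₂ : ∀ w, (∀ x, f₂ w x = 0) → w = 0
  B_pl : ∀ u u' w w', B (pl w u) (pl w' u') = f₁ u u' * f₂ w w'
  two : (2 : F) ≠ 0
  ha : 3 ≤ a
  hb : 4 ≤ b

namespace Data

variable (S : Data F a b)

theorem skew (u u' : Fin a → F) : S.f₁ u' u = -S.f₁ u u' := by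
  have h := S.alt (u + u')
  simp only [map_add, LinearMap.add_apply, S.alt] at h
  linear_combination h

/-- Contraction with a vector of the right factor. -/
noncomputable def cw (w : Fin b → F) : V2 F a b →ₗ[F] (Fin a → F) :=
  C (fun j => S.f₂ (Pi.single j 1) w)

/-- Contraction with a vector of the left factor. -/
noncomputable def du (u : Fin a → F) : V2 F a b →ₗ[F] (Fin b → F) :=
  D (fun i => S.f₁ u (Pi.single i 1))

theorem cw_pl (w w' : Fin b → F) (u : Fin a → F) : S.cw w (pl w' u) = S.f₂ w' w • u := by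
  rw [cw, C_pl]
  congr 1
  conv_rhs => rw [pi_eq_sum_univ' w']
  simp [dotProduct, map_sum, mul_comm]

theorem du_pl (u u' : Fin a → F) (w : Fin b → F) : S.du u (pl w u') = S.f₁ u u' • w := by
  rw [du, D_pl]
  congr 1
  conv_rhs => rw [pi_eq_sum_univ' u']
  simp [dotProduct, map_sum, mul_comm]

theorem cw_add (w w' : Fin b → F) (z : V2 F a b) : S.cw (w + w') z = S.cw w z + S.cw w' z := by
  ext i; simp [cw, C, mul_add, Finset.sum_add_distrib]

theorem cw_smul (t : F) (w : Fin b → F) (z : V2 F a b) : S.cw (t • w) z = t • S.cw w z := by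
  ext i; simp [cw, C, Finset.mul_sum, mul_left_comm]

theorem cw_sub (w w' : Fin b → F) (z : V2 F a b) : S.cw (w - w') z = S.cw w z - S.cw w' z := by
  ext i; simp [cw, C, mul_sub, Finset.sum_sub_distrib]

theorem du_add (u u' : Fin a → F) (z : V2 F a b) : S.du (u + u') z = S.du u z + S.du u' z := by
  ext i; simp [du, D, add_mul, Finset.sum_add_distrib]

theorem du_smul (t : F) (u : Fin a → F) (z : V2 F a b) : S.du (t • u) z = t • S.du u z := by
  ext i; simp [du, D, Finset.mul_sum, mul_assoc]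

theorem du_sub (u u' : Fin a → F) (z : V2 F a b) : S.du (u - u') z = S.du u z - S.du u' z := by
  ext i; simp [du, D, sub_mul, Finset.sum_sub_distrib]

theorem B_left (u : Fin a → F) (w : Fin b → F) (z : V2 F a b) :
    S.B (pl w u) z = S.f₁ u (S.cw w z) := by
  have h : (S.B (pl w u) : V2 F a b →ₗ[F] F) = (S.f₁ u).comp (S.cw w) := ext_pl fun u' w' => by
    rw [LinearMap.comp_apply, S.cw_pl, map_smul, smul_eq_mul, S.B_pl, S.symm w]; ring
  exact LinearMap.congr_fun h z

theorem B_left' (u : Fin a → F) (w : Fin b → F) (z : V2 F a b) :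
    S.B (pl w u) z = S.f₂ w (S.du u z) := by
  have h : (S.B (pl w u) : V2 F a b →ₗ[F] F) = (S.f₂ w).comp (S.du u) := ext_pl fun u' w' => by
    rw [LinearMap.comp_apply, S.du_pl, map_smul, smul_eq_mul, S.B_pl]
  exact LinearMap.congr_fun h z

theorem B_skew (z z' : V2 F a b) : S.B z' z = -S.B z z' := by
  have h : S.B.flip = -S.B := ext_pl fun u w => ext_pl fun u' w' => by
    simp [S.B_pl, S.skew u' u, S.symm w w', LinearMap.neg_apply]
  exact LinearMap.congr_fun (LinearMap.congr_fun h z) z'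

theorem B_self (z : V2 F a b) : S.B z z = 0 := by
  have h := S.B_skew z z
  exact (mul_eq_zero.1 (show (2 : F) * S.B z z = 0 by linear_combination h)).resolve_left S.two

theorem B_right (u : Fin a → F) (w : Fin b → F) (z : V2 F a b) :
    S.B z (pl w u) = S.f₁ (S.cw w z) u := by
  rw [S.B_skew (pl w u) z, S.B_left, S.skew (S.cw w z) u, neg_neg]

theorem B_right' (u : Fin a → F) (w : Fin b → F) (z : V2 F a b) :
    S.B z (pl w u) = -S.f₂ w (S.du u z) := by
  rw [S.B_skew (pl w u) z, S.B_left']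

theorem eq_zero_of_cw {z : V2 F a b} (h : ∀ w, S.cw w z = 0) : z = 0 := by
  have h2 : ∀ z', S.B z z' = 0 := fun z' => by
    rw [eq_sum z', map_sum]
    exact Finset.sum_eq_zero fun j _ => by rw [S.B_right, h, map_zero, LinearMap.zero_apply]
  have h3 : ∀ u, S.du u z = 0 := fun u => S.nd₂ _ fun w => by
    rw [S.symm, ← S.B_left', S.B_skew z, h2, neg_zero]
  refine CfsgLib.GeomClasses.TensorMax.eq_zero_of_C fun φ => S.nd₁ _ fun x => ?_
  have hx := h3 x
  have : S.f₁ x (C φ z) = φ ⬝ᵥ S.du x z := by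
    have hh : (S.f₁ x).comp (C φ) = ((dotProductBilin F F φ).comp (S.du x) : V2 F a b →ₗ[F] F) :=
      ext_pl fun u w => by
        simp [C_pl, S.du_pl, mul_comm]
    exact LinearMap.congr_fun hh z
  rw [S.skew, this, hx, dotProduct_zero, neg_zero]

theorem B_nondeg {z : V2 F a b} (h : ∀ z', S.B z z' = 0) : z = 0 :=
  S.eq_zero_of_cw fun w => S.nd₁ _ fun u => by rw [← S.B_right, h]

/-- The isometries of the tensor form. -/
def G : Subgroup (GL (Fin a × Fin b) F) where
  carrier := {g | ∀ x y, S.B (ap g x) (ap g y) = S.B x y}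
  one_mem' := by intro x y; simp
  mul_mem' := by intro g h hg hh x y; rw [ap_mul, ap_mul, hg, hh]
  inv_mem' := by intro g hg x y; rw [← hg, ap_ap_inv, ap_ap_inv]

theorem mem_G {g : GL (Fin a × Fin b) F} : g ∈ S.G ↔ ∀ x y, S.B (ap g x) (ap g y) = S.B x y := Iff.rfl

/-- The stabiliser of the tensor decomposition among the isometries. -/
def T : Subgroup (GL (Fin a × Fin b) F) := Cfsg.Geo.kroneckerSubgroup a b F ⊓ S.G

theorem exists_kr {g : GL (Fin a × Fin b) F} (hg : g ∈ S.T) : ∃ p, g = kr p := by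
  obtain ⟨⟨A, B, h⟩, -⟩ := hg
  exact ⟨(A, B), Units.ext h⟩

theorem kr_mem_G {p : GL (Fin a) F × GL (Fin b) F} {μ ν : F} (hμν : μ * ν = 1)
    (h₁ : ∀ x y, S.f₁ (ap p.1 x) (ap p.1 y) = μ * S.f₁ x y)
    (h₂ : ∀ x y, S.f₂ (ap p.2 x) (ap p.2 y) = ν * S.f₂ x y) : kr p ∈ S.G := by
  have h : (S.B.compl₁₂ (ap (kr p)) (ap (kr p))) = S.B := ext_pl fun u w => ext_pl fun u' w' => by
    rw [LinearMap.compl₁₂_apply, ap_kr, ap_kr, S.B_pl, S.B_pl, h₁, h₂]
    linear_combination (S.f₁ u u' * S.f₂ w w') * hμν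
  exact fun x y => LinearMap.congr_fun (LinearMap.congr_fun h x) y

theorem kr_mem_T {p : GL (Fin a) F × GL (Fin b) F} {μ ν : F} (hμν : μ * ν = 1)
    (h₁ : ∀ x y, S.f₁ (ap p.1 x) (ap p.1 y) = μ * S.f₁ x y)
    (h₂ : ∀ x y, S.f₂ (ap p.2 x) (ap p.2 y) = ν * S.f₂ x y) : kr p ∈ S.T :=
  ⟨⟨p.1, p.2, rfl⟩, S.kr_mem_G hμν h₁ h₂⟩

/-! ### Factor elements -/

/-- `u' ↦ f₁(u, u') u`. -/
noncomputable def nu (u : Fin a → F) : (Fin a → F) →ₗ[F] (Fin a → F) :=
  (S.f₁ u).smulRight u

theorem nu_apply (u x : Fin a → F) : S.nu u x = S.f₁ u x • u := rfl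

theorem tr_inj (u : Fin a → F) (c : F) : Function.Injective (LinearMap.id + c • S.nu u : (Fin a → F) →ₗ[F] _) := by
  rw [← LinearMap.ker_eq_bot, LinearMap.ker_eq_bot']
  intro x hx
  simp only [LinearMap.add_apply, LinearMap.id_apply, LinearMap.smul_apply, S.nu_apply] at hx
  have h := congrArg (S.f₁ u) hx
  simp only [map_add, map_smul, S.alt, smul_eq_mul, mul_zero, add_zero, map_zero] at h
  rw [h, zero_smul, smul_zero, add_zero] at hx
  exact hx

/-- The transvection `x ↦ x + c f₁(u, x) u`. -/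
noncomputable def tr (u : Fin a → F) (c : F) : GL (Fin a) F := glMk _ (S.tr_inj u c)

theorem ap_tr (u x : Fin a → F) (c : F) : ap (S.tr u c) x = x + (c * S.f₁ u x) • u := by
  rw [tr, ap_glMk, LinearMap.add_apply, LinearMap.id_apply, LinearMap.smul_apply, S.nu_apply, smul_smul]

theorem tr_isometry (u x y : Fin a → F) (c : F) :
    S.f₁ (ap (S.tr u c) x) (ap (S.tr u c) y) = S.f₁ x y := by
  simp only [S.ap_tr, map_add, map_smul, LinearMap.add_apply, LinearMap.smul_apply, S.alt, smul_eq_mul,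
    mul_zero, add_zero]
  rw [S.skew u x]; ring

theorem tr_inv (u : Fin a → F) (c : F) : (S.tr u c)⁻¹ = S.tr u (-c) := by
  refine inv_eq_of_mul_eq_one_right (gext fun x => ?_)
  simp only [ap_mul, S.ap_tr, ap_one, map_add, map_smul, S.alt, smul_eq_mul, mul_zero, add_zero]
  module

/-- The Siegel map of an isotropic `k` and `m ⊥ k`. -/
noncomputable def rhoMap (k m : Fin b → F) : (Fin b → F) →ₗ[F] (Fin b → F) :=
  LinearMap.id + (S.f₂ k).smulRight m - (S.f₂ m).smulRight k -
    (S.f₂ k).smulRight ((S.f₂ m m / 2) • k)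

theorem rhoMap_apply (k m x : Fin b → F) :
    S.rhoMap k m x = x + S.f₂ k x • m - S.f₂ m x • k - (S.f₂ k x * (S.f₂ m m / 2)) • k := by
  simp [rhoMap, smul_smul]

theorem rhoMap_add {k m n : Fin b → F} (hk : S.f₂ k k = 0) (hm : S.f₂ k m = 0) (hn : S.f₂ k n = 0)
    (x : Fin b → F) : S.rhoMap k m (S.rhoMap k n x) = S.rhoMap k (m + n) x := by
  have h2 := S.two
  simp only [S.rhoMap_apply, map_add, map_sub, map_smul, hk, hm, hn, S.symm m k, smul_eq_mul, mul_zero,
    add_zero, sub_zero, LinearMap.add_apply, S.symm n m]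
  match_scalars <;> field_simp <;> ring

theorem rhoMap_zero (k x : Fin b → F) : S.rhoMap k 0 x = x := by simp [S.rhoMap_apply]

open Classical in
/-- The Siegel element, for `k` isotropic and `m ⊥ k`. -/
noncomputable def rho (k m : Fin b → F) : GL (Fin b) F :=
  if h : Function.Injective (S.rhoMap k m) then glMk _ h else 1

theorem ap_rho {k m : Fin b → F} (hk : S.f₂ k k = 0) (hm : S.f₂ k m = 0) (x : Fin b → F) :
    ap (S.rho k m) x = S.rhoMap k m x := by
  have h : Function.Injective (S.rhoMap k m) :=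
    Function.LeftInverse.injective (g := S.rhoMap k (-m)) fun y => by
      rw [S.rhoMap_add hk (by simp [hm]) hm, neg_add_cancel, S.rhoMap_zero]
  rw [rho, dif_pos h, ap_glMk]

theorem rho_mul {k m n : Fin b → F} (hk : S.f₂ k k = 0) (hm : S.f₂ k m = 0) (hn : S.f₂ k n = 0) :
    S.rho k m * S.rho k n = S.rho k (m + n) := gext fun x => by
  rw [ap_mul, S.ap_rho hk hm, S.ap_rho hk hn, S.rhoMap_add hk hm hn,
    S.ap_rho hk (by simp [hm, hn])]

theorem rho_inv {k m : Fin b → F} (hk : S.f₂ k k = 0) (hm : S.f₂ k m = 0) :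
    (S.rho k m)⁻¹ = S.rho k (-m) := by
  refine inv_eq_of_mul_eq_one_right (gext fun x => ?_)
  rw [S.rho_mul hk hm (by simp [hm]), add_neg_cancel, S.ap_rho hk (map_zero _), S.rhoMap_zero, ap_one]

theorem rho_isometry {k m : Fin b → F} (hk : S.f₂ k k = 0) (hm : S.f₂ k m = 0) (x y : Fin b → F) :
    S.f₂ (ap (S.rho k m) x) (ap (S.rho k m) y) = S.f₂ x y := by
  have h2 := S.two
  simp only [S.ap_rho hk hm, S.rhoMap_apply, map_add, map_sub, map_smul, LinearMap.add_apply,
    LinearMap.sub_apply, LinearMap.smul_apply, hk, hm, S.symm m k, S.symm x k, S.symm x m, smul_eq_mul,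
    mul_zero, add_zero, sub_zero, zero_sub]
  field_simp
  ring

theorem refl_inj (w : Fin b → F) : Function.Injective
    (LinearMap.id - (2 / S.f₂ w w) • (S.f₂ w).smulRight w : (Fin b → F) →ₗ[F] (Fin b → F)) := by
  rw [← LinearMap.ker_eq_bot, LinearMap.ker_eq_bot']
  intro x hx
  simp only [LinearMap.sub_apply, LinearMap.id_apply, LinearMap.smul_apply, LinearMap.smulRight_apply,
    smul_smul] at hx
  rcases eq_or_ne (S.f₂ w w) 0 with h0 | h0
  · rw [h0, div_zero, zero_mul, zero_smul, sub_zero] at hx; exact hx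
  have h := congrArg (S.f₂ w) hx
  simp only [map_sub, map_smul, smul_eq_mul, map_zero] at h
  field_simp at h
  have hwx : S.f₂ w x = 0 := by linear_combination -h
  rw [hwx, mul_zero, zero_smul, sub_zero] at hx
  exact hx

/-- The reflection in an anisotropic `w`. -/
noncomputable def refl (w : Fin b → F) : GL (Fin b) F := glMk _ (S.refl_inj w)

theorem ap_refl (w x : Fin b → F) : ap (S.refl w) x = x - (2 / S.f₂ w w * S.f₂ w x) • w := by
  simp [refl, ap_glMk, smul_smul]

theorem refl_isometry {w : Fin b → F} (hw : S.f₂ w w ≠ 0) (x y : Fin b → F) :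
    S.f₂ (ap (S.refl w) x) (ap (S.refl w) y) = S.f₂ x y := by
  simp only [S.ap_refl, map_sub, map_smul, LinearMap.sub_apply, LinearMap.smul_apply, smul_eq_mul,
    S.symm x w]
  field_simp
  ring

theorem refl_mul_self {w : Fin b → F} (hw : S.f₂ w w ≠ 0) : S.refl w * S.refl w = 1 := gext fun x => by
  rw [ap_mul, ap_one, S.ap_refl, S.ap_refl]
  simp only [map_sub, map_smul, smul_eq_mul]
  match_scalars <;> field_simp <;> ring

theorem krL_mem {E : GL (Fin a) F} (h : ∀ x y, S.f₁ (ap E x) (ap E y) = S.f₁ x y) : kr (E, (1 : GL (Fin b) F)) ∈ S.T :=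
  S.kr_mem_T (one_mul 1) (fun x y => by rw [h, one_mul]) fun x y => by simp

theorem krR_mem {G : GL (Fin b) F} (h : ∀ x y, S.f₂ (ap G x) (ap G y) = S.f₂ x y) : kr ((1 : GL (Fin a) F), G) ∈ S.T :=
  S.kr_mem_T (one_mul 1) (fun x y => by simp) fun x y => by rw [h, one_mul]

theorem tr_mem (u : Fin a → F) (c : F) : kr (S.tr u c, (1 : GL (Fin b) F)) ∈ S.T :=
  S.krL_mem fun x y => S.tr_isometry u x y c

theorem rho_mem {k m : Fin b → F} (hk : S.f₂ k k = 0) (hm : S.f₂ k m = 0) :
    kr ((1 : GL (Fin a) F), S.rho k m) ∈ S.T :=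
  S.krR_mem (S.rho_isometry hk hm)

theorem refl_mem {w : Fin b → F} (hw : S.f₂ w w ≠ 0) : kr ((1 : GL (Fin a) F), S.refl w) ∈ S.T :=
  S.krR_mem (S.refl_isometry hw)

/-- Contractions commute with pairs of similitudes. -/
theorem cw_kr {p : GL (Fin a) F × GL (Fin b) F} {ν : F}
    (h₂ : ∀ x y, S.f₂ (ap p.2 x) (ap p.2 y) = ν * S.f₂ x y) (w : Fin b → F) (z : V2 F a b) :
    S.cw (ap p.2 w) (ap (kr p) z) = ν • ap p.1 (S.cw w z) := by
  have h : (S.cw (ap p.2 w)).comp (ap (kr p)) = ν • (ap p.1).comp (S.cw w) := ext_pl fun u w' => by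
    simp [S.cw_pl, h₂, smul_smul]
  exact LinearMap.congr_fun h z

theorem du_kr {p : GL (Fin a) F × GL (Fin b) F} {μ : F}
    (h₁ : ∀ x y, S.f₁ (ap p.1 x) (ap p.1 y) = μ * S.f₁ x y) (u : Fin a → F) (z : V2 F a b) :
    S.du (ap p.1 u) (ap (kr p) z) = μ • ap p.2 (S.du u z) := by
  have h : (S.du (ap p.1 u)).comp (ap (kr p)) = μ • (ap p.2).comp (S.du u) := ext_pl fun u' w => by
    simp [S.du_pl, h₁, smul_smul]
  exact LinearMap.congr_fun h z

theorem ap_kr_rho {k m : Fin b → F} (hk : S.f₂ k k = 0) (hm : S.f₂ k m = 0) (z : V2 F a b) :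
    ap (kr ((1 : GL (Fin a) F), S.rho k m)) z =
      z + pl m (S.cw k z) - pl k (S.cw m z) - pl k ((S.f₂ m m / 2) • S.cw k z) := by
  have h : ap (kr ((1 : GL (Fin a) F), S.rho k m)) = (LinearMap.id + (pl m).comp (S.cw k) -
      (pl k).comp (S.cw m) - (pl k).comp ((S.f₂ m m / 2) • S.cw k) : V2 F a b →ₗ[F] V2 F a b) :=
    ext_pl fun u w => by
      rw [ap_kr, ap_one, S.ap_rho hk hm, S.rhoMap_apply]
      simp only [LinearMap.sub_apply, LinearMap.add_apply, LinearMap.id_apply, LinearMap.comp_apply,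
        LinearMap.smul_apply, S.cw_pl, map_smul, S.symm w k, S.symm w m]
      ext i
      simp [pl, mul_sub, mul_add]
      ring
  exact LinearMap.congr_fun h z

theorem ap_kr_refl (w : Fin b → F) (z : V2 F a b) :
    ap (kr ((1 : GL (Fin a) F), S.refl w)) z = z - pl w ((2 / S.f₂ w w) • S.cw w z) := by
  have h : ap (kr ((1 : GL (Fin a) F), S.refl w)) =
      (LinearMap.id - (pl w).comp ((2 / S.f₂ w w) • S.cw w) : V2 F a b →ₗ[F] V2 F a b) :=
    ext_pl fun u w' => by
      rw [ap_kr, ap_one, S.ap_refl]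
      simp only [LinearMap.sub_apply, LinearMap.id_apply, LinearMap.comp_apply, LinearMap.smul_apply,
        S.cw_pl, map_smul, S.symm w' w]
      ext i
      simp [pl, mul_sub]
      ring
  exact LinearMap.congr_fun h z

/-! ### Vectors -/

theorem nondeg₂ : S.f₂.Nondegenerate :=
  ⟨fun w h => S.nd₂ w h, fun w h => S.nd₂ w fun x => by rw [S.symm]; exact h x⟩

theorem exists_f₁_one {u : Fin a → F} (hu : u ≠ 0) : ∃ x, S.f₁ u x = 1 := by
  obtain ⟨x, hx⟩ := not_forall.1 fun h => hu (S.nd₁ u h)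
  exact ⟨(S.f₁ u x)⁻¹ • x, by rw [map_smul, smul_eq_mul, inv_mul_cancel₀ hx]⟩

theorem exists_f₂_one {w : Fin b → F} (hw : w ≠ 0) : ∃ x, S.f₂ w x = 1 := by
  obtain ⟨x, hx⟩ := not_forall.1 fun h => hw (S.nd₂ w h)
  exact ⟨(S.f₂ w x)⁻¹ • x, by rw [map_smul, smul_eq_mul, inv_mul_cancel₀ hx]⟩

/-- A hyperbolic pair of the right factor. -/
structure Pair (S : Data F a b) (k k' : Fin b → F) : Prop where
  q₁ : S.f₂ k k = 0
  q₂ : S.f₂ k' k' = 0
  one : S.f₂ k k' = 1

theorem exists_pair {k : Fin b → F} (hk : S.f₂ k k = 0) (hk0 : k ≠ 0) : ∃ k', S.Pair k k' := by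
  obtain ⟨x, hx⟩ := S.exists_f₂_one hk0
  refine ⟨x - (S.f₂ x x / 2) • k, hk, ?_, ?_⟩
  · have h2 := S.two
    simp only [map_sub, map_smul, LinearMap.sub_apply, LinearMap.smul_apply, smul_eq_mul, hk, hx,
      S.symm x k]
    field_simp
    ring
  · rw [map_sub, map_smul, hk, smul_zero, sub_zero, hx]

namespace Pair

variable {S} {k k' : Fin b → F}

/-- The orthogonal complement of the pair. -/
def Mid (S : Data F a b) (k k' s : Fin b → F) : Prop := S.f₂ k s = 0 ∧ S.f₂ k' s = 0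

/-- The projection on the complement of the pair. -/
noncomputable def proj (_ : S.Pair k k') : (Fin b → F) →ₗ[F] (Fin b → F) :=
  LinearMap.id - (S.f₂ k').smulRight k - (S.f₂ k).smulRight k'

variable (P : S.Pair k k')
include P

theorem one' : S.f₂ k' k = 1 := by rw [S.symm, P.one]

theorem ne : k ≠ 0 := fun h => one_ne_zero (α := F) (by rw [← P.one, h, map_zero, LinearMap.zero_apply])

theorem swap : S.Pair k' k := ⟨P.q₂, P.q₁, P.one'⟩

theorem proj_apply (x : Fin b → F) : P.proj x = x - S.f₂ k' x • k - S.f₂ k x • k' := rfl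

theorem proj_mid (x : Fin b → F) : Mid S k k' (P.proj x) := by
  constructor <;> simp [P.proj_apply, P.q₁, P.q₂, P.one, P.one']

theorem proj_of_mid {s : Fin b → F} (h : Mid S k k' s) : P.proj s = s := by
  simp [P.proj_apply, h.1, h.2]

theorem f₂_proj {s : Fin b → F} (h : Mid S k k' s) (x : Fin b → F) : S.f₂ s (P.proj x) = S.f₂ s x := by
  simp [P.proj_apply, S.symm s k, S.symm s k', h.1, h.2]

theorem mid_nondeg {t : Fin b → F} (ht : Mid S k k' t) (h : ∀ s, Mid S k k' s → S.f₂ t s = 0) : t = 0 :=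
  S.nd₂ t fun x => by rw [← P.f₂_proj ht, h _ (P.proj_mid x)]

/-- A property of the complement which holds for anisotropic vectors and is preserved by differences holds
everywhere. -/
theorem aniso_induction {Q : (Fin b → F) → Prop} (h0 : Q 0) (hsub : ∀ x y, Q x → Q y → Q (x - y))
    (h : ∀ s, Mid S k k' s → S.f₂ s s ≠ 0 → Q s) {s : Fin b → F} (hs : Mid S k k' s) : Q s := by
  by_cases hs1 : S.f₂ s s ≠ 0
  · exact h s hs hs1
  push Not at hs1
  by_cases hs0 : s = 0
  · rw [hs0]; exact h0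
  obtain ⟨t, ht, hst⟩ : ∃ t, Mid S k k' t ∧ S.f₂ s t ≠ 0 := by
    by_contra hc
    push Not at hc
    exact hs0 (P.mid_nondeg hs hc)
  obtain ⟨t, ht, hst, htt⟩ : ∃ t, Mid S k k' t ∧ S.f₂ s t ≠ 0 ∧ S.f₂ t t ≠ 0 := by
    by_cases htt : S.f₂ t t ≠ 0
    · exact ⟨t, ht, hst, htt⟩
    push Not at htt
    refine ⟨t + s, ⟨by simp [ht.1, hs.1], by simp [ht.2, hs.2]⟩, by simp [hs1, hst], ?_⟩
    simp only [map_add, LinearMap.add_apply, hs1, htt, S.symm t s, zero_add, add_zero]
    rw [← two_mul]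
    exact mul_ne_zero S.two hst
  have key : S.f₂ (s + t) (s + t) ≠ 0 ∨ S.f₂ (s - t) (s - t) ≠ 0 := by
    by_contra hc
    push Not at hc
    simp only [map_add, map_sub, LinearMap.add_apply, LinearMap.sub_apply, hs1, S.symm t s] at hc
    refine mul_ne_zero (mul_ne_zero S.two S.two) hst ?_
    linear_combination hc.1 - hc.2
  rcases key with k1 | k1
  · have := hsub _ _ (h _ ⟨by simp [hs.1, ht.1], by simp [hs.2, ht.2]⟩ k1) (h t ht htt)
    rwa [add_sub_cancel_right] at this
  · have := hsub _ _ (h _ ⟨by simp [hs.1, ht.1], by simp [hs.2, ht.2]⟩ k1)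
      (hsub _ _ h0 (h t ht htt))
    rwa [zero_sub, sub_neg_eq_add, sub_add_cancel] at this

/-- Vectors killed by all contractions with the hyperplane `k⊥` lie over `k`. -/
theorem eq_pl {z : V2 F a b} (hk : S.cw k z = 0) (h : ∀ s, Mid S k k' s → S.cw s z = 0) :
    z = pl k (S.cw k' z) := by
  refine sub_eq_zero.1 (S.eq_zero_of_cw fun w => ?_)
  have e : S.cw w z = S.cw (P.proj w) z + S.f₂ k w • S.cw k' z + S.f₂ k' w • S.cw k z := by
    rw [← S.cw_smul, ← S.cw_smul, ← S.cw_add, ← S.cw_add, P.proj_apply]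
    congr 1
    abel_nf
  rw [map_sub, e, h _ (P.proj_mid w), hk, smul_zero, add_zero, zero_add, S.cw_pl, sub_self]

end Pair

/-- An overgroup of the stabiliser containing no transvection with pure singular centre. -/
structure Over (S : Data F a b) (H : Subgroup (GL (Fin a × Fin b) F)) : Prop where
  le : H ≤ S.G
  tensor : S.T ≤ H
  noTv : ∀ g ∈ H, ∀ (u : Fin a → F) (k : Fin b → F) (c : F), u ≠ 0 → k ≠ 0 → S.f₂ k k = 0 →
    (∀ x, ap g x = x + (c * S.B (pl k u) x) • pl k u) → c = 0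

end Data

end CfsgLib.TensorSymp93
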