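import Cfsg.Agent.Lib.TensorSymp93.Fusion2

/-!
Descent on centralisers of groups of commuting involutions: an overgroup without pure transvections is the
stabiliser of the decomposition.
-/

set_option autoImplicit false
set_option linter.unusedSectionVars false
set_option linter.unusedSimpArgs false

namespace CfsgLib.TensorSymp93

open Matrix Module
open CfsgLib.GeomClasses.TensorMax (V2 M2 pl pr pr_eq C D C_pl D_pl ext_pl eq_sum exists_dot_eq_one)

variable {F : Type*} [Field F] {a b : ℕ}

/-- Commuting involutions have a spanning set of common eigenvectors. -/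
theorem mem_span_eig {X : Type*} [AddCommGroup X] [Module F X] (h2 : (2 : F) ≠ 0)
    (s : Finset (X →ₗ[F] X)) :
    (∀ f ∈ s, ∀ x, f (f x) = x) → (∀ f ∈ s, ∀ g ∈ s, ∀ x, f (g x) = g (f x)) →
      ∀ x, x ∈ Submodule.span F {y : X | ∀ f ∈ s, f y = y ∨ f y = -y} := by
  classical
  induction s using Finset.induction_on with
  | empty => exact fun _ _ x => Submodule.subset_span fun f hf => absurd hf (Finset.notMem_empty f)
  | insert f s hf ih =>
    intro hinv hcomm x
    have hx := ih (fun g hg => hinv g (Finset.mem_insert_of_mem hg))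
      (fun g hg g' hg' => hcomm g (Finset.mem_insert_of_mem hg) g' (Finset.mem_insert_of_mem hg')) x
    refine Submodule.span_induction (fun y hy => ?_) (Submodule.zero_mem _)
      (fun y z _ _ hy hz => Submodule.add_mem _ hy hz) (fun c y _ hy => Submodule.smul_mem _ c hy) hx
    have hf' := Finset.mem_insert_self f s
    have hplus : y + f y ∈ {y : X | ∀ g ∈ insert f s, g y = y ∨ g y = -y} := by
      intro g hg
      rcases Finset.mem_insert.1 hg with rfl | hg'
      · left; rw [map_add, hinv _ hf', add_comm]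
      · rw [map_add, hcomm g hg f hf']
        rcases hy g hg' with e | e
        · left; rw [e]
        · right; rw [e, map_neg, neg_add]
    have hminus : y - f y ∈ {y : X | ∀ g ∈ insert f s, g y = y ∨ g y = -y} := by
      intro g hg
      rcases Finset.mem_insert.1 hg with rfl | hg'
      · right; rw [map_sub, hinv _ hf', neg_sub]
      · rw [map_sub, hcomm g hg f hf']
        rcases hy g hg' with e | e
        · left; rw [e]
        · right; rw [e, map_neg]; abel
    have := Submodule.smul_mem _ (2 : F)⁻¹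
      (Submodule.add_mem _ (Submodule.subset_span hplus) (Submodule.subset_span hminus))
    rwa [show y + f y + (y - f y) = (2 : F) • y by rw [two_smul]; abel, inv_smul_smul₀ h2] at this

theorem kr_left_eq {E E' : GL (Fin a) F} {G' : GL (Fin b) F} {x : Fin a → F} (hx : x ≠ 0)
    (h : kr (E, (1 : GL (Fin b) F)) = kr (E', G')) : ∃ c : F, ∀ w, ap G' w = c • w := by
  obtain ⟨θ, hθ⟩ := exists_dot_eq_one
    (show ap E x ≠ 0 from fun h0 => hx (ap_inj E (by rw [h0, map_zero])))
  refine ⟨(θ ⬝ᵥ ap E' x)⁻¹, fun w => ?_⟩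
  have e := congrArg (fun t => D θ (ap t (pl w x))) h
  simp only [ap_kr, ap_one, D_pl, hθ, one_smul] at e
  by_cases h0 : θ ⬝ᵥ ap E' x = 0
  · rw [h0, zero_smul] at e
    rw [e, map_zero, smul_zero]
  · nth_rw 2 [e]
    rw [inv_smul_smul₀ h0]

theorem kr_right_eq {E' : GL (Fin a) F} {G G' : GL (Fin b) F} {w : Fin b → F} (hw : w ≠ 0)
    (h : kr ((1 : GL (Fin a) F), G) = kr (E', G')) : ∃ c : F, ∀ x, ap E' x = c • x := by
  obtain ⟨φ, hφ⟩ := exists_dot_eq_one
    (show ap G w ≠ 0 from fun h0 => hw (ap_inj G (by rw [h0, map_zero])))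
  refine ⟨(φ ⬝ᵥ ap G' w)⁻¹, fun x => ?_⟩
  have e := congrArg (fun t => C φ (ap t (pl w x))) h
  simp only [ap_kr, ap_one, C_pl, hφ, one_smul] at e
  by_cases h0 : φ ⬝ᵥ ap G' w = 0
  · rw [h0, zero_smul] at e
    rw [e, map_zero, smul_zero]
  · nth_rw 2 [e]
    rw [inv_smul_smul₀ h0]

namespace Data

variable {S : Data F a b}

/-- A group of commuting involutive pairs of isometries. -/
structure Adm (S : Data F a b) (V : Subgroup (GL (Fin a) F × GL (Fin b) F)) : Prop where
  iso₁ : ∀ p ∈ V, ∀ x y, S.f₁ (ap p.1 x) (ap p.1 y) = S.f₁ x y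
  iso₂ : ∀ p ∈ V, ∀ x y, S.f₂ (ap p.2 x) (ap p.2 y) = S.f₂ x y
  sq : ∀ p ∈ V, p * p = 1
  comm : ∀ p ∈ V, ∀ q ∈ V, p * q = q * p

theorem Adm.adjoin {V : Subgroup (GL (Fin a) F × GL (Fin b) F)} (hV : S.Adm V)
    {z : GL (Fin a) F × GL (Fin b) F} (h1 : ∀ x y, S.f₁ (ap z.1 x) (ap z.1 y) = S.f₁ x y)
    (h2 : ∀ x y, S.f₂ (ap z.2 x) (ap z.2 y) = S.f₂ x y) (hz : z * z = 1)
    (hc : ∀ p ∈ V, p * z = z * p) (hmem : z ∉ V) :
    ∃ V', S.Adm V' ∧ V < V' ∧ ∀ p ∈ V', ∃ v ∈ V, p = v ∨ p = v * z := by
  let V' : Subgroup (GL (Fin a) F × GL (Fin b) F) :=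
    { carrier := {p | ∃ v ∈ V, p = v ∨ p = v * z}
      one_mem' := ⟨1, V.one_mem, Or.inl rfl⟩
      mul_mem' := by
        rintro p q ⟨v, hv, hp⟩ ⟨v', hv', hq⟩
        refine ⟨v * v', V.mul_mem hv hv', ?_⟩
        rcases hp with rfl | rfl <;> rcases hq with rfl | rfl
        · exact Or.inl rfl
        · exact Or.inr (by rw [mul_assoc])
        · exact Or.inr (by rw [mul_assoc, ← hc _ hv', ← mul_assoc])
        · exact Or.inl (by
            rw [mul_assoc, ← mul_assoc z, ← hc v' hv', mul_assoc, hz, mul_one])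
      inv_mem' := by
        rintro p ⟨v, hv, hp⟩
        refine ⟨v, hv, ?_⟩
        rcases hp with rfl | rfl
        · exact Or.inl (inv_eq_of_mul_eq_one_right (hV.sq _ hv))
        · refine Or.inr (inv_eq_of_mul_eq_one_right ?_)
          rw [mul_assoc, ← mul_assoc z, ← hc v hv, mul_assoc, hz, mul_one, hV.sq v hv] }
  have hle : V ≤ V' := fun v hv => ⟨v, hv, Or.inl rfl⟩
  refine ⟨V', ⟨?_, ?_, ?_, ?_⟩, lt_of_le_of_ne hle fun e => hmem ?_, fun p hp => hp⟩
  · rintro p ⟨v, hv, rfl | rfl⟩ x y
    · exact hV.iso₁ _ hv x y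
    · rw [Prod.fst_mul, ap_mul, ap_mul, hV.iso₁ v hv, h1]
  · rintro p ⟨v, hv, rfl | rfl⟩ x y
    · exact hV.iso₂ _ hv x y
    · rw [Prod.snd_mul, ap_mul, ap_mul, hV.iso₂ v hv, h2]
  · rintro p ⟨v, hv, rfl | rfl⟩
    · exact hV.sq _ hv
    · rw [mul_assoc, ← mul_assoc z, ← hc v hv, mul_assoc, hz, mul_one, hV.sq v hv]
  · rintro p ⟨v, hv, rfl | rfl⟩ q ⟨v', hv', rfl | rfl⟩
    · exact hV.comm _ hv _ hv'
    · rw [← mul_assoc, hV.comm _ hv _ hv', mul_assoc, hc _ hv, ← mul_assoc]
    · rw [mul_assoc, ← hc _ hv', ← mul_assoc, hV.comm _ hv _ hv', mul_assoc]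
    · rw [mul_assoc, ← mul_assoc z, ← hc v' hv', mul_assoc, hz, mul_one,
        mul_assoc v', ← mul_assoc z, ← hc v hv, mul_assoc, hz, mul_one, hV.comm _ hv _ hv']
  · rw [e]
    exact ⟨1, V.one_mem, Or.inr (one_mul z).symm⟩

theorem Adm.mem_T {V : Subgroup (GL (Fin a) F × GL (Fin b) F)} (hV : S.Adm V)
    {p : GL (Fin a) F × GL (Fin b) F} (hp : p ∈ V) : kr p ∈ S.T :=
  S.kr_mem_T (one_mul 1) (fun x y => by rw [hV.iso₁ p hp, one_mul]) fun x y => by rw [hV.iso₂ p hp, one_mul]

/-- Common eigenvectors of the left parts. -/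
def Eig₁ (V : Subgroup (GL (Fin a) F × GL (Fin b) F)) (y : Fin a → F) : Prop :=
  ∀ p ∈ V, ap p.1 y = y ∨ ap p.1 y = -y

/-- Common eigenvectors of the right parts. -/
def Eig₂ (V : Subgroup (GL (Fin a) F × GL (Fin b) F)) (y : Fin b → F) : Prop :=
  ∀ p ∈ V, ap p.2 y = y ∨ ap p.2 y = -y

/-- Equal characters. -/
def SameChar (V : Subgroup (GL (Fin a) F × GL (Fin b) F)) (w x : Fin b → F) : Prop :=
  ∀ p ∈ V, (ap p.2 w = w ∧ ap p.2 x = x) ∨ (ap p.2 w = -w ∧ ap p.2 x = -x)

variable [Fintype F]

theorem Adm.span_eig₁ {V : Subgroup (GL (Fin a) F × GL (Fin b) F)} (hV : S.Adm V) :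
    Submodule.span F {y | Eig₁ V y} = ⊤ := by
  classical
  have hfin : ((fun p => ap p.1) '' (V : Set (GL (Fin a) F × GL (Fin b) F))).Finite :=
    (Set.toFinite _).image _
  refine eq_top_iff.2 fun x _ => ?_
  refine Submodule.span_mono (s := {y | ∀ f ∈ hfin.toFinset, f y = y ∨ f y = -y})
    (fun y hy p hp => hy _ (hfin.mem_toFinset.2 ⟨p, hp, rfl⟩))
    (mem_span_eig S.two hfin.toFinset (fun f hf z => ?_) (fun f hf g hg z => ?_) x)
  · obtain ⟨p, hp, rfl⟩ := hfin.mem_toFinset.1 hf
    rw [← ap_mul, ← Prod.fst_mul, hV.sq p hp, Prod.fst_one, ap_one]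
  · obtain ⟨p, hp, rfl⟩ := hfin.mem_toFinset.1 hf
    obtain ⟨q, hq, rfl⟩ := hfin.mem_toFinset.1 hg
    rw [← ap_mul, ← ap_mul, ← Prod.fst_mul, hV.comm p hp q hq, Prod.fst_mul]

theorem Adm.span_eig₂ {V : Subgroup (GL (Fin a) F × GL (Fin b) F)} (hV : S.Adm V) :
    Submodule.span F {y | Eig₂ V y} = ⊤ := by
  classical
  have hfin : ((fun p => ap p.2) '' (V : Set (GL (Fin a) F × GL (Fin b) F))).Finite :=
    (Set.toFinite _).image _
  refine eq_top_iff.2 fun x _ => ?_
  refine Submodule.span_mono (s := {y | ∀ f ∈ hfin.toFinset, f y = y ∨ f y = -y})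
    (fun y hy p hp => hy _ (hfin.mem_toFinset.2 ⟨p, hp, rfl⟩))
    (mem_span_eig S.two hfin.toFinset (fun f hf z => ?_) (fun f hf g hg z => ?_) x)
  · obtain ⟨p, hp, rfl⟩ := hfin.mem_toFinset.1 hf
    rw [← ap_mul, ← Prod.snd_mul, hV.sq p hp, Prod.snd_one, ap_one]
  · obtain ⟨p, hp, rfl⟩ := hfin.mem_toFinset.1 hf
    obtain ⟨q, hq, rfl⟩ := hfin.mem_toFinset.1 hg
    rw [← ap_mul, ← ap_mul, ← Prod.snd_mul, hV.comm p hp q hq, Prod.snd_mul]

omit [Fintype F] in
theorem self_eq_neg {X : Type*} [AddCommGroup X] [Module F X] (S : Data F a b) {x : X} (h : x = -x) : x = 0 :=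
  (smul_eq_zero.1 (show (2 : F) • x = 0 by rw [two_smul]; nth_rw 2 [h]; rw [add_neg_cancel])).resolve_left S.two

/-- A plane of common eigenvectors with equal characters, and the involution which negates it. -/
theorem Adm.exists_inv {V : Subgroup (GL (Fin a) F × GL (Fin b) F)} (hV : S.Adm V) :
    ∃ (σ : GL (Fin a) F) (u : Fin a → F), S.Inv₁ σ ∧ u ≠ 0 ∧ ap σ u = -u ∧ Eig₁ V u ∧
      ∀ p ∈ V, p.1 * σ = σ * p.1 := by
  obtain ⟨u, hu, hu0⟩ : ∃ u, Eig₁ V u ∧ u ≠ 0 := by
    by_contra hc
    push Not at hc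
    obtain ⟨x, hx, -, -⟩ := S.exists_perp₁ 0 0
    have : x ∈ Submodule.span F {y | Eig₁ V y} := hV.span_eig₁ ▸ Submodule.mem_top
    exact hx ((Submodule.mem_bot F).1 (Submodule.span_le.2 (fun y hy => by simpa using hc y hy) this))
  obtain ⟨u₁, hu₁, hne⟩ : ∃ u₁, Eig₁ V u₁ ∧ S.f₁ u u₁ ≠ 0 := by
    by_contra hc
    push Not at hc
    refine hu0 (S.nd₁ u fun x => ?_)
    have : x ∈ Submodule.span F {y | Eig₁ V y} := hV.span_eig₁ ▸ Submodule.mem_top
    exact (Submodule.span_le (p := LinearMap.ker (S.f₁ u))).2 hc this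
  set u' := (S.f₁ u u₁)⁻¹ • u₁ with hu'
  have huu : S.f₁ u u' = 1 := by rw [hu', map_smul, smul_eq_mul, inv_mul_cancel₀ hne]
  have hu'u : S.f₁ u' u = -1 := by rw [S.skew, huu]
  have hchar : ∀ p ∈ V, (ap p.1 u = u ∧ ap p.1 u' = u') ∨ (ap p.1 u = -u ∧ ap p.1 u' = -u') := by
    intro p hp
    have hi := hV.iso₁ p hp u u'
    rcases hu p hp with e | e <;> rcases hu₁ p hp with e' | e'
    · exact Or.inl ⟨e, by rw [hu', map_smul, e']⟩
    · exfalso
      rw [e, show ap p.1 u' = -u' by rw [hu', map_smul, e', smul_neg], map_neg, huu] at hi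
      exact S.two (by linear_combination -hi)
    · exfalso
      rw [e, show ap p.1 u' = u' by rw [hu', map_smul, e'], map_neg, LinearMap.neg_apply, huu] at hi
      exact S.two (by linear_combination -hi)
    · exact Or.inr ⟨e, by rw [hu', map_smul, e', smul_neg]⟩
  clear_value u'
  let L : (Fin a → F) →ₗ[F] (Fin a → F) :=
    LinearMap.id - (2 : F) • ((S.f₁.flip u').smulRight u - (S.f₁.flip u).smulRight u')
  have hL : ∀ x, L x = x - (2 : F) • (S.f₁ x u' • u - S.f₁ x u • u') := fun x => rfl
  have hiso : ∀ x y, S.f₁ (L x) (L y) = 1 * S.f₁ x y := fun x y => by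
    simp only [hL, map_sub, map_smul, LinearMap.sub_apply, LinearMap.smul_apply, smul_eq_mul, S.alt, huu, hu'u,
      S.skew x u, S.skew x u', S.skew u' y, S.skew y u]
    ring
  set σ : GL (Fin a) F := glMk L (inj_of_f₁ (S := S) one_ne_zero hiso) with hσ
  have hσa : ∀ x, ap σ x = L x := fun x => by rw [hσ, ap_glMk]
  have hσu : ap σ u = -u := by rw [hσa, hL, huu, S.alt]; module
  refine ⟨σ, u, ⟨fun x y => by rw [hσa, hσa, hiso, one_mul], gext fun x => ?_, ?_, u, hu0, hσu⟩, hu0, hσu,
    hu, fun p hp => gext fun x => ?_⟩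
  · rw [ap_mul, ap_one, hσa, hσa, hL, hL]
    simp only [map_sub, map_smul, LinearMap.sub_apply, LinearMap.smul_apply, S.alt, huu, hu'u, smul_eq_mul]
    module
  · obtain ⟨z, hz, hzu, hzu'⟩ := S.exists_perp₁ u u'
    refine ⟨z, hz, ?_⟩
    rw [hσa, hL, S.skew u z, S.skew u' z, hzu, hzu']
    simp
  · have hadj : ∀ x y, S.f₁ (ap p.1 x) y = S.f₁ x (ap p.1 y) := fun x y => by
      rw [← hV.iso₁ p hp, ← ap_mul, ← Prod.fst_mul, hV.sq p hp, Prod.fst_one, ap_one]
    rw [ap_mul, ap_mul, hσa, hσa, hL, hL, hadj, hadj, map_sub, map_smul, map_sub, map_smul, map_smul]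
    rcases hchar p hp with ⟨e, e'⟩ | ⟨e, e'⟩
    · rw [e, e']
    · rw [e, e', map_neg, map_neg]
      module

variable {H : Subgroup (GL (Fin a × Fin b) F)}

/-- An element inverted by the involution, commuting with a group whose right characters separate. -/
theorem Over.inverted (hO : S.Over H) {V : Subgroup (GL (Fin a) F × GL (Fin b) F)} (hV : S.Adm V)
    (hsep : ∀ w w', Eig₂ V w → Eig₂ V w' → w ≠ 0 → SameChar V w w' → ∃ c : F, w' = c • w)
    {σ : GL (Fin a) F} {u : Fin a → F} (hu0 : u ≠ 0) (hiso : ∀ x y, S.f₁ (ap σ x) (ap σ y) = S.f₁ x y)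
    (hσu : ap σ u = -u) (hu : Eig₁ V u) {d : GL (Fin a × Fin b) F} (hd : d ∈ H)
    (hdV : ∀ p ∈ V, kr p * d = d * kr p)
    (hinv : kr (σ, (1 : GL (Fin b) F)) * d * kr (σ, (1 : GL (Fin b) F)) * d = 1) : d ∈ S.T := by
  set t := kr (σ, (1 : GL (Fin b) F)) with ht
  have htu : ∀ w, ap t (pl w u) = -pl w u := fun w => by rw [ht, ap_kr, ap_one, hσu, map_neg]
  have htG : t ∈ S.G := (S.krL_mem hiso).2
  have hdi : d⁻¹ = t * d * t := (eq_inv_of_mul_eq_one_left hinv).symm
  let β : (Fin b → F) →ₗ[F] (Fin b → F) →ₗ[F] F := S.B.compl₁₂ (pr u) ((ap d).comp (pr u))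
  have hβ : ∀ w' w, β w' w = S.B (pl w' u) (ap d (pl w u)) := fun w' w => rfl
  have hβi : ∀ w' w, S.B (pl w' u) (ap d⁻¹ (pl w u)) = β w' w := fun w' w => by
    rw [hdi, ap_mul, ap_mul, htu, map_neg, map_neg, map_neg, hβ]
    conv_rhs => rw [← htG, htu]
    rw [map_neg, LinearMap.neg_apply]
  have hskew : ∀ w' w, β w' w = -β w w' := fun w' w => by
    rw [← hβi, ← hO.le hd, ap_ap_inv, S.B_skew (pl w u), hβ]
  have hzero : β = 0 := by
    refine LinearMap.ext_on hV.span_eig₂ fun w' hw' => LinearMap.ext_on hV.span_eig₂ fun w hw => ?_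
    show β w' w = 0
    by_cases hw0 : w = 0
    · rw [hw0, map_zero]
    by_cases hs : SameChar V w w'
    · obtain ⟨c, rfl⟩ := hsep w w' hw hw' hw0 hs
      have h0 : β w w = 0 := by
        have := hskew w w
        exact (mul_eq_zero.1 (show (2 : F) * β w w = 0 by linear_combination this)).resolve_left S.two
      rw [map_smul, LinearMap.smul_apply, h0, smul_zero]
    · simp only [SameChar, not_forall] at hs
      obtain ⟨p, hp, hps⟩ := hs
      obtain ⟨ε, hε, hεu⟩ : ∃ ε : F, ε * ε = 1 ∧ ap p.1 u = ε • u := by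
        rcases hu p hp with e | e
        · exact ⟨1, one_mul 1, by rw [e, one_smul]⟩
        · exact ⟨-1, by ring, by rw [e, neg_one_smul]⟩
      have hflip : S.B (pl w' u) (ap d (pl w u)) = -S.B (pl w' u) (ap d (pl w u)) := by
        have e1 := (hV.mem_T hp).2 (pl w' u) (ap d (pl w u))
        rw [← ap_mul (kr p) d, hdV p hp, ap_mul, ap_kr, ap_kr, hεu, map_smul, map_smul, map_smul, map_smul,
          map_smul, LinearMap.smul_apply, smul_eq_mul, smul_eq_mul, ← mul_assoc, hε, one_mul] at e1
        rcases hw p hp with e | e <;> rcases hw' p hp with e' | e'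
        · exact absurd (Or.inl ⟨e, e'⟩) hps
        · rw [e, e', pl_neg_right, map_neg, LinearMap.neg_apply] at e1; exact e1.symm
        · rw [e, e', pl_neg_right, map_neg, map_neg] at e1; exact e1.symm
        · exact absurd (Or.inr ⟨e, e'⟩) hps
      exact (mul_eq_zero.1 (show (2 : F) * β w' w = 0 by rw [hβ]; linear_combination hflip)).resolve_left S.two
  have hdu : ∀ w, S.du u (ap d⁻¹ (pl w u)) = 0 := fun w => S.nd₂ _ fun w' => by
    rw [S.symm, ← S.B_left', hβi, hzero, LinearMap.zero_apply, LinearMap.zero_apply]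
  refine hO.fus hd hu0 (hO.fix_right (H.mul_mem (H.mul_mem hd (hO.tensor (rootL_mem S u))) (H.inv_mem hd))
    hu0 fun w => ?_)
  rw [ap_mul, ap_mul, ap_rootL, hdu, pl_zero_right, add_zero, ap_ap_inv]

/-- The descent. -/
theorem Over.descent (hO : S.Over H) : ∀ V : Subgroup (GL (Fin a) F × GL (Fin b) F), S.Adm V →
    ∀ h ∈ H, (∀ p ∈ V, kr p * h = h * kr p) → h ∈ S.T := by
  intro V
  induction V using WellFoundedGT.induction with
  | ind V ih =>
  intro hV h hh hc
  obtain ⟨σ, u, hσ, hu0, hσu, hu, hσc⟩ := hV.exists_inv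
  set t := kr (σ, (1 : GL (Fin b) F)) with ht
  have htT : t ∈ S.T := S.krL_mem hσ.iso
  have htt : t * t = 1 := by rw [ht, ← kr_mul, Prod.mk_mul_mk, hσ.sq, one_mul, Prod.mk_one_one, kr_one]
  have htinv : t⁻¹ = t := inv_eq_of_mul_eq_one_right htt
  have htV : ∀ p ∈ V, kr p * t = t * kr p := fun p hp => by
    rw [ht, ← kr_mul, ← kr_mul]
    congr 1
    exact Prod.ext (hσc p hp) (by simp)
  set r := h * t * h⁻¹ with hr
  have hrH : r ∈ H := H.mul_mem (H.mul_mem hh (hO.tensor htT)) (H.inv_mem hh)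
  have hrr : r * r = 1 := by
    calc r * r = h * (t * t) * h⁻¹ := by rw [hr]; group
      _ = 1 := by rw [htt]; group
  have hrV : ∀ p ∈ V, kr p * r = r * kr p := fun p hp => by
    have h1 : Commute (kr p) h := hc p hp
    exact ((h1.mul_right (htV p hp)).mul_right h1.inv_right).eq
  suffices hrT : r ∈ S.T from hO.fus_inv hσ hh hrT
  by_cases hB : ∃ w x, S.f₂ w w ≠ 0 ∧ x ≠ 0 ∧ S.f₂ w x = 0 ∧ SameChar V w x
  · obtain ⟨w, x, hww, hx0, hwx, hsame⟩ := hB
    have hw0 : w ≠ 0 := fun h0 => hww (by simp [h0])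
    set ρ : GL (Fin a) F × GL (Fin b) F := (1, S.refl w) with hρ
    have hρw : ap (S.refl w) w = -w := by rw [S.ap_refl, div_mul_cancel₀ _ hww, two_smul]; abel
    have hρx : ap (S.refl w) x = x := by rw [S.ap_refl, hwx, mul_zero, zero_smul, sub_zero]
    have hρc : ∀ p ∈ V, p * ρ = ρ * p := fun p hp => by
      refine Prod.ext (by simp [hρ]) (gext fun y => ?_)
      have e : S.f₂ (ap p.2 w) (ap p.2 y) = S.f₂ w y := hV.iso₂ p hp w y
      simp only [hρ, Prod.snd_mul, ap_mul, S.ap_refl, map_sub, map_smul]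
      rcases hsame p hp with ⟨e1, -⟩ | ⟨e1, -⟩ <;> rw [e1] at e ⊢
      · rw [e]
      · rw [map_neg, LinearMap.neg_apply] at e
        rw [← e]; module
    have hρV : ρ ∉ V := fun hm => by
      rcases hsame ρ hm with ⟨e1, -⟩ | ⟨-, e2⟩
      · exact hw0 (self_eq_neg S (e1.symm.trans hρw))
      · exact hx0 (self_eq_neg S (hρx.symm.trans e2))
    obtain ⟨V', hV', hlt, hV'mem⟩ := hV.adjoin (z := ρ) (fun x y => by simp [hρ]) (S.refl_isometry hww)
      (Prod.ext (one_mul 1) (S.refl_mul_self hww)) hρc hρV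
    set s := kr ρ with hs
    have hsT : s ∈ S.T := S.refl_mem hww
    have hss : s * s = 1 := by
      rw [hs, ← kr_mul, hρ, Prod.mk_mul_mk, one_mul, S.refl_mul_self hww, Prod.mk_one_one, kr_one]
    have hsV : ∀ p ∈ V, kr p * s = s * kr p := fun p hp => by rw [hs, ← kr_mul, ← kr_mul, hρc p hp]
    have hCs : ∀ g ∈ H, (∀ p ∈ V, kr p * g = g * kr p) → s * g = g * s → g ∈ S.T := by
      intro g hg hgV hgs
      refine ih V' hlt hV' g hg fun p hp => ?_
      obtain ⟨v, hv, rfl | rfl⟩ := hV'mem p hp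
      · exact hgV _ hv
      · rw [kr_mul, mul_assoc, hgs, ← mul_assoc, hgV v hv, mul_assoc]
    set d := r * s with hd
    have hdH : d ∈ H := H.mul_mem hrH (hO.tensor hsT)
    have hdV : ∀ p ∈ V, kr p * d = d * kr p := fun p hp =>
      ((show Commute (kr p) r from hrV p hp).mul_right (hsV p hp)).eq
    have hrinv : r⁻¹ = r := inv_eq_of_mul_eq_one_right hrr
    have hsinv : s⁻¹ = s := inv_eq_of_mul_eq_one_right hss
    have hsd : ∀ j : ℕ, s * d ^ j = (d ^ j)⁻¹ * s := by
      intro j
      have e : s * d * s⁻¹ = d⁻¹ := by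
        rw [hd, _root_.mul_inv_rev, hrinv, hsinv, mul_assoc, mul_assoc, hss, mul_one]
      rw [← inv_pow, ← e, conj_pow, inv_mul_cancel_right]
    have hds : ∀ j : ℕ, d ^ j * s * (d ^ j)⁻¹ = d ^ (2 * j) * s := by
      intro j
      have e : s * (d ^ j)⁻¹ = d ^ j * s := by
        have := congrArg (fun y => d ^ j * y * (d ^ j)⁻¹) (hsd j)
        simp only [mul_assoc, mul_inv_cancel, mul_one, mul_inv_cancel_left] at this
        exact this.symm
      rw [mul_assoc, e, ← mul_assoc, ← pow_add, ← two_mul]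
    have hds1 : d * s = r := by rw [hd, mul_assoc, hss, mul_one]
    have hord : d ^ orderOf d = 1 := pow_orderOf_eq_one d
    rcases Nat.even_or_odd' (orderOf d) with ⟨n, hn | hn⟩
    · have hn0 : n ≠ 0 := fun h0 => by
        have := orderOf_pos d
        omega
      set z := d ^ n with hz
      have hz1 : z ≠ 1 := pow_ne_one_of_lt_orderOf hn0 (by omega)
      have hzz : z * z = 1 := by rw [hz, ← pow_add, ← two_mul, ← hn, hord]
      have hzinv : z⁻¹ = z := inv_eq_of_mul_eq_one_right hzz
      have hzH : z ∈ H := H.pow_mem hdH n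
      have hzV : ∀ p ∈ V, kr p * z = z * kr p := fun p hp =>
        ((show Commute (kr p) d from hdV p hp).pow_right n).eq
      have hzs : s * z = z * s := by rw [hz, hsd n, ← hz, hzinv]
      have hzr : z * r = r * z := by
        rw [← hds1]
        exact ((Commute.pow_self d n).mul_right (show Commute (d ^ n) s from hzs.symm)).eq
      have hzT : z ∈ S.T := hCs z hzH hzV hzs
      obtain ⟨⟨e, g⟩, hp⟩ := S.exists_kr hzT
      obtain ⟨xe, hxe, -, -⟩ := S.exists_perp₁ 0 0
      have hgr : ∀ y, ap g (ap (S.refl w) y) = ap (S.refl w) (ap g y) := fun y => by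
        have e1 := congrArg (fun q => ap q (pl y xe)) hzs
        simp only [hs, hρ, hp, ap_mul, ap_kr, ap_one] at e1
        exact (pr_ne (ap e xe) (fun h0 => hxe (ap_inj e (by rw [h0, map_zero]))) e1).symm
      obtain ⟨γ, hγ⟩ : ∃ γ : F, ap g w = γ • w := by
        have e1 := hgr w
        rw [hρw, map_neg, S.ap_refl] at e1
        refine ⟨S.f₂ w (ap g w) / S.f₂ w w, ?_⟩
        have e2 : (2 : F) • (ap g w - (S.f₂ w (ap g w) / S.f₂ w w) • w) = 0 := by
          rw [div_mul_eq_mul_div, mul_div_assoc, ← smul_smul] at e1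
          linear_combination (norm := module) -e1
        exact sub_eq_zero.1 ((smul_eq_zero.1 e2).resolve_left S.two)
      have hγ0 : γ ≠ 0 := fun h0 => hw0 (ap_inj g (by rw [hγ, h0, zero_smul, map_zero]))
      have hie : Function.Injective (γ • ap e : (Fin a → F) →ₗ[F] _) :=
        fun y y' hy => ap_inj e (smul_right_injective _ hγ0 hy)
      have hig : Function.Injective (γ⁻¹ • ap g : (Fin b → F) →ₗ[F] _) :=
        fun y y' hy => ap_inj g (smul_right_injective _ (inv_ne_zero hγ0) hy)
      set e' := glMk (γ • ap e) hie with he'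
      set g' := glMk (γ⁻¹ • ap g) hig with hg'
      have hp' : z = kr (e', g') := by
        rw [hp]
        refine kr_eq_of fun y y' => ?_
        simp only [ap_kr, he', hg', ap_glMk, LinearMap.smul_apply, map_smul, pl_smul_right, smul_smul,
          mul_inv_cancel₀ hγ0, one_smul]
      have hg'w : ap g' w = w := by
        rw [hg', ap_glMk, LinearMap.smul_apply, hγ, smul_smul, inv_mul_cancel₀ hγ0, one_smul]
      obtain ⟨μ, ν, hμν, h1, h2⟩ := exists_sim (S := S) (p := (e', g')) (hp' ▸ hzT.2)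
      have hν : ν = 1 := by
        have := h2 w w
        rw [hg'w] at this
        exact (mul_left_eq_self₀.1 this.symm).resolve_right hww
      have hμ : μ = 1 := by rw [hν, mul_one] at hμν; exact hμν
      have hzz' := hzz
      rw [hp'] at hzz'
      have he2 : ∀ y, ap e' (ap e' y) = y := fun y => by
        have e1 := congrArg (fun q => ap q (pl w y)) hzz'
        simp only [ap_mul, ap_kr, hg'w, ap_one] at e1
        exact pl_inj hw0 e1
      have hg2 : ∀ y, ap g' (ap g' y) = y := fun y => by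
        have e1 := congrArg (fun q => ap q (pl y xe)) hzz'
        simp only [ap_mul, ap_kr, he2, ap_one] at e1
        exact pr_ne xe hxe e1
      have hpc : ∀ p ∈ V, p * (e', g') = (e', g') * p := by
        intro p hp1
        have e0 := hzV p hp1
        rw [hp', ← kr_mul, ← kr_mul] at e0
        have e1 : ∀ y, ap p.1 (ap e' y) = ap e' (ap p.1 y) := fun y => by
          have e2 := congrArg (fun q => ap q (pl w y)) e0
          rcases hsame p hp1 with ⟨e3, -⟩ | ⟨e3, -⟩ <;>
            simp only [ap_kr, Prod.fst_mul, Prod.snd_mul, ap_mul, hg'w, e3, map_neg, pl_neg_right,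
              neg_inj] at e2 <;> exact pl_inj hw0 e2
        refine Prod.ext (gext fun y => by simp [e1]) (gext fun y => ?_)
        have e2 := congrArg (fun q => ap q (pl y xe)) e0
        simp only [ap_kr, Prod.fst_mul, Prod.snd_mul, ap_mul, e1] at e2
        simpa using pr_ne _ (fun h0 => hxe (ap_inj p.1 (ap_inj e' (by
          rw [h0, map_zero, map_zero])))) e2
      by_cases hmem : ((e', g') : GL (Fin a) F × GL (Fin b) F) ∈ V
      swap
      · obtain ⟨V'', hV'', hlt', hV''mem⟩ := hV.adjoin (z := (e', g')) (fun y y' => by rw [h1, hμ, one_mul])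
          (fun y y' => by rw [h2, hν, one_mul])
          (Prod.ext (gext fun y => by simp [he2]) (gext fun y => by simp [hg2])) hpc hmem
        refine ih V'' hlt' hV'' r hrH fun p hp1 => ?_
        obtain ⟨v, hv, rfl | rfl⟩ := hV''mem p hp1
        · exact hrV _ hv
        · rw [kr_mul, ← hp', mul_assoc, hzr, ← mul_assoc, hrV v hv, mul_assoc]
      have hscal : ∀ c : F, (∀ y, ap (g' * S.refl w) y = c • y) → False := by
        intro c hc'
        have ew := hc' w
        rw [ap_mul, hρw, map_neg, hg'w] at ew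
        have hgx : ap g' x = x := by
          rcases hsame _ hmem with ⟨-, e2⟩ | ⟨e1, -⟩
          · exact e2
          · exact absurd (self_eq_neg S (hg'w.symm.trans e1)) hw0
        have ex := hc' x
        rw [ap_mul, hρx, hgx] at ex
        have c1 : (c + 1) • w = 0 := by linear_combination (norm := module) -ew
        have c2 : (c - 1) • x = 0 := by linear_combination (norm := module) -ex
        exact S.two (by linear_combination (smul_eq_zero.1 c1).resolve_right hw0 -
          (smul_eq_zero.1 c2).resolve_right hx0)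
      rcases Nat.even_or_odd' n with ⟨i, hi | hi⟩
      · set w0 := d ^ i with hw0def
        have hw0H : w0 ∈ H := H.pow_mem hdH i
        have hw0V : ∀ p ∈ V, kr p * w0 = w0 * kr p := fun p hp1 =>
          ((show Commute (kr p) d from hdV p hp1).pow_right i).eq
        have hconj : w0 * s * w0⁻¹ = z * s := by rw [hw0def, hds, ← hi]
        have hw0T : w0 ∈ S.T := by
          refine hO.fus hw0H hu0 (hCs _ (H.mul_mem (H.mul_mem hw0H (hO.tensor (rootL_mem S u)))
            (H.inv_mem hw0H)) (fun p hp1 => ?_) ?_)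
          · have h1 : Commute (kr p) w0 := hw0V p hp1
            refine ((h1.mul_right ?_).mul_right h1.inv_right).eq
            show _ * _ = _ * _
            have hadj := hV.iso₁ p hp1
            rw [rootL, ← kr_mul, ← kr_mul]
            refine congrArg kr (Prod.ext (gext fun y => ?_) (by simp))
            simp only [Prod.fst_mul, ap_mul, S.ap_tr, map_add, map_smul]
            rcases hu p hp1 with e1 | e1 <;> rw [e1]
            · have h7 : S.f₁ u (ap p.1 y) = S.f₁ u y := by nth_rw 1 [← e1]; rw [hadj]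
              rw [h7]
            · conv_rhs => rw [show S.f₁ u (ap p.1 y) = -S.f₁ u y by
                rw [← hadj u y, e1, map_neg, LinearMap.neg_apply, neg_neg]]
              module
          · have hsr : rootL S u * s = s * rootL S u := (kr_commute _ _).eq
            have hcm : (w0 * rootL S u * w0⁻¹) * (z * s) = (z * s) * (w0 * rootL S u * w0⁻¹) := by
              rw [← hconj]
              calc _ = w0 * (rootL S u * s) * w0⁻¹ := by group
                _ = w0 * (s * rootL S u) * w0⁻¹ := by rw [hsr]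
                _ = _ := by group
            have hzu : z * (w0 * rootL S u * w0⁻¹) = (w0 * rootL S u * w0⁻¹) * z := by
              have hzw : Commute z w0 := (Commute.pow_pow_self d n i)
              have hzu : Commute z (rootL S u) := by
                show _ * _ = _ * _
                rw [hp', rootL, ← kr_mul, ← kr_mul]
                refine congrArg kr (Prod.ext (gext fun y => ?_) (by simp))
                simp only [Prod.fst_mul, ap_mul, S.ap_tr, map_add, map_smul]
                rcases hu _ hmem with e1 | e1 <;> dsimp only at e1 <;> rw [e1]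
                · have h7 : S.f₁ u (ap e' y) = S.f₁ u y := by nth_rw 1 [← e1]; rw [h1 u y, hμ, one_mul]
                  rw [h7]
                · conv_rhs => rw [show S.f₁ u (ap e' y) = -S.f₁ u y by
                    rw [show S.f₁ u y = S.f₁ (ap e' u) (ap e' y) by rw [h1, hμ, one_mul], e1, map_neg,
                      LinearMap.neg_apply, neg_neg]]
                  module
              exact ((hzw.mul_right hzu).mul_right hzw.inv_right).eq
            calc s * (w0 * rootL S u * w0⁻¹) = z * ((z * s) * (w0 * rootL S u * w0⁻¹)) := by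
                  simp only [← mul_assoc, hzz, one_mul]
              _ = z * ((w0 * rootL S u * w0⁻¹) * (z * s)) := by rw [hcm]
              _ = (w0 * rootL S u * w0⁻¹) * s := by
                  rw [← mul_assoc, hzu, mul_assoc, ← mul_assoc z, hzz, one_mul]
        -- the second component is scalar
        set g0 := h⁻¹ * w0 * h with hg0
        have hg0t : g0 * t * g0⁻¹ = z * t := by
          have e1 : w0 * r * w0⁻¹ = z * r := by
            rw [← hds1]
            calc w0 * (d * s) * w0⁻¹ = d * (w0 * s * w0⁻¹) := by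
                  rw [hw0def, ← mul_assoc, ← pow_succ, pow_succ']; group
              _ = z * (d * s) := by rw [hconj, hz, ← mul_assoc, ← mul_assoc, ← pow_succ, ← pow_succ']
          calc g0 * t * g0⁻¹ = h⁻¹ * (w0 * r * w0⁻¹) * h := by rw [hg0, hr]; group
            _ = h⁻¹ * z * h * t := by rw [e1, hr]; group
            _ = z * t := by
              rw [hp', mul_assoc h⁻¹, hc _ hmem]; group
        have hg0T : g0 ∈ S.T :=
          hO.fus_inv hσ (H.mul_mem (H.mul_mem (H.inv_mem hh) hw0H) hh) (hg0t ▸ S.T.mul_mem hzT htT)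
        obtain ⟨⟨E0, G0⟩, hq⟩ := S.exists_kr hg0T
        have hl : kr (E0 * σ * E0⁻¹, (1 : GL (Fin b) F)) = kr (e' * σ, g') := by
          calc kr (E0 * σ * E0⁻¹, (1 : GL (Fin b) F)) = g0 * t * g0⁻¹ := by
                rw [hq, ht, ← kr_inv, ← kr_mul, ← kr_mul]; simp
            _ = _ := by rw [hg0t, hp', ht, ← kr_mul]; simp
        obtain ⟨cg, hcg⟩ := kr_left_eq hu0 hl
        obtain ⟨⟨E1, G1⟩, hq1⟩ := S.exists_kr hw0T
        have hr1 : kr ((1 : GL (Fin a) F), G1 * S.refl w * G1⁻¹) = kr (e', g' * S.refl w) := by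
          calc kr ((1 : GL (Fin a) F), G1 * S.refl w * G1⁻¹) = w0 * s * w0⁻¹ := by
                rw [hq1, hs, hρ, ← kr_inv, ← kr_mul, ← kr_mul]; simp
            _ = _ := by rw [hconj, hp', hs, hρ, ← kr_mul]; simp
        obtain ⟨ce, hce⟩ := kr_right_eq hw0 hr1
        have hcg1 : cg = 1 := by
          have := hcg w
          rw [hg'w] at this
          exact (smul_left_injective F hw0 (by beta_reduce; rw [← this, one_smul])).symm
        rcases hu _ hmem with e1 | e1 <;> dsimp only at e1
        · exfalso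
          refine hz1 (hp'.trans ((kr_eq_of fun y y' => ?_).trans kr_one))
          have hc1 : ce = 1 := (smul_left_injective F hu0 (by beta_reduce; rw [← hce, e1, one_smul])).symm
          rw [ap_kr, kr_one, ap_one, hce, hcg, hc1, hcg1, one_smul, one_smul]
        · exfalso
          have hc1 : ce = -1 := (smul_left_injective F hu0 (by beta_reduce; rw [← hce, e1, neg_one_smul])).symm
          have hG1 : ∀ y, ap (S.refl w) y = y → ∃ c : F, ap G1⁻¹ y = c • w := by
            intro y hy
            have e2 := congrArg (fun q => ap q (pl y xe)) hr1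
            simp only [ap_kr, ap_one, ap_mul, hce, hc1, hy, hcg, hcg1, one_smul, neg_one_smul, map_neg] at e2
            rw [← pl_neg_right] at e2
            have e3 := pr_ne xe hxe e2
            have e4 := congrArg (ap G1⁻¹) e3
            rw [ap_inv_ap, map_neg, S.ap_refl] at e4
            set Y := ap G1⁻¹ y
            refine ⟨S.f₂ w Y / S.f₂ w w, ?_⟩
            rw [div_mul_eq_mul_div, mul_div_assoc, ← smul_smul] at e4
            have e5 : (2 : F) • (Y - (S.f₂ w Y / S.f₂ w w) • w) = 0 := by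
              linear_combination (norm := module) e4
            exact sub_eq_zero.1 ((smul_eq_zero.1 e5).resolve_left S.two)
          have hle : LinearMap.ker (S.f₂ w) ≤ Submodule.span F {ap G1 w} := fun y hy => by
            obtain ⟨c, hcy⟩ := hG1 y (by rw [S.ap_refl, LinearMap.mem_ker.1 hy, mul_zero, zero_smul, sub_zero])
            exact Submodule.mem_span_singleton.2 ⟨c, by rw [← map_smul, ← hcy, ap_ap_inv]⟩
          have d1 := Submodule.finrank_mono hle
          have d2 : finrank F (Submodule.span F {ap G1 w}) ≤ 1 := by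
            rw [finrank_span_singleton fun h0 => hw0 (ap_inj G1 (by rw [h0, map_zero]))]
          have d3 : finrank F (LinearMap.range (S.f₂ w)) + finrank F (LinearMap.ker (S.f₂ w)) = b :=
            (LinearMap.finrank_range_add_finrank_ker (S.f₂ w)).trans (Module.finrank_fin_fun F)
          have d4 := Submodule.finrank_le (LinearMap.range (S.f₂ w))
          rw [Module.finrank_self] at d4
          have := S.hb
          omega
      · -- `n` odd
        exfalso
        set k := (d ^ i)⁻¹ with hk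
        set g0 := k⁻¹ * h with hg0
        have hg0t : g0 * t * g0⁻¹ = z * s := by
          calc g0 * t * g0⁻¹ = d ^ i * r * (d ^ i)⁻¹ := by rw [hg0, hk, hr]; group
            _ = d * (d ^ i * s * (d ^ i)⁻¹) := by rw [← hds1, ← mul_assoc (d ^ i), ← pow_succ, pow_succ']; group
            _ = z * s := by rw [hds, ← mul_assoc, ← pow_succ', ← hi, ← hz]
        have hkH : k ∈ H := H.inv_mem (H.pow_mem hdH i)
        have hg0T : g0 ∈ S.T :=
          hO.fus_inv hσ (H.mul_mem (H.inv_mem hkH) hh) (hg0t ▸ S.T.mul_mem hzT hsT)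
        obtain ⟨⟨E0, G0⟩, hq⟩ := S.exists_kr hg0T
        have hl : kr (E0 * σ * E0⁻¹, (1 : GL (Fin b) F)) = kr (e', g' * S.refl w) := by
          calc kr (E0 * σ * E0⁻¹, (1 : GL (Fin b) F)) = g0 * t * g0⁻¹ := by
                rw [hq, ht, ← kr_inv, ← kr_mul, ← kr_mul]; simp
            _ = _ := by rw [hg0t, hp', hs, hρ, ← kr_mul]; simp
        obtain ⟨c, hc'⟩ := kr_left_eq hu0 hl
        exact hscal c hc'
    · -- odd order
      exfalso
      set k := d ^ (n + 1) with hk
      have hks : k * s * k⁻¹ = r := by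
        rw [hk, hds, show 2 * (n + 1) = (2 * n + 1) + 1 by omega, pow_succ', ← hn, hord, mul_one, hds1]
      set g0 := k⁻¹ * h with hg0
      have hg0t : g0 * t * g0⁻¹ = s := by
        calc g0 * t * g0⁻¹ = k⁻¹ * r * k := by rw [hg0, hr]; group
          _ = s := by rw [← hks]; group
      have hg0T : g0 ∈ S.T :=
        hO.fus_inv hσ (H.mul_mem (H.inv_mem (H.pow_mem hdH _)) hh) (hg0t ▸ hsT)
      obtain ⟨⟨E0, G0⟩, hq⟩ := S.exists_kr hg0T
      have hl : kr (E0 * σ * E0⁻¹, (1 : GL (Fin b) F)) = kr ((1 : GL (Fin a) F), S.refl w) := by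
        calc kr (E0 * σ * E0⁻¹, (1 : GL (Fin b) F)) = g0 * t * g0⁻¹ := by
              rw [hq, ht, ← kr_inv, ← kr_mul, ← kr_mul]; simp
          _ = _ := by rw [hg0t]
      obtain ⟨c, hc'⟩ := kr_left_eq hu0 hl
      have ew := hc' w
      have ex := hc' x
      rw [hρw] at ew
      rw [hρx] at ex
      have c1 : (c + 1) • w = 0 := by linear_combination (norm := module) -ew
      have c2 : (c - 1) • x = 0 := by linear_combination (norm := module) -ex
      exact S.two (by linear_combination (smul_eq_zero.1 c1).resolve_right hw0 -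
        (smul_eq_zero.1 c2).resolve_right hx0)
  · -- separated characters
    have hsep : ∀ w w', Eig₂ V w → Eig₂ V w' → w ≠ 0 → SameChar V w w' → ∃ c : F, w' = c • w := by
      intro w1 w2 hw1 hw2 hw10 hs
      by_contra hind
      push Not at hind
      have lin : ∀ y y', SameChar V w1 y → SameChar V w1 y' → ∀ c c' : F, SameChar V w1 (c • y + c' • y') := by
        intro y y' hy hy' c c' p hp
        rcases hy p hp with ⟨e, e'⟩ | ⟨e, e'⟩ <;> rcases hy' p hp with ⟨f, f'⟩ | ⟨f, f'⟩
        · exact Or.inl ⟨e, by rw [map_add, map_smul, map_smul, e', f']⟩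
        · exact absurd (self_eq_neg S (e.symm.trans f)) hw10
        · exact absurd (self_eq_neg S (f.symm.trans e)) hw10
        · exact Or.inr ⟨e, by rw [map_add, map_smul, map_smul, e', f', smul_neg, smul_neg, neg_add]⟩
      have s1 : SameChar V w1 w1 := fun p hp => (hw1 p hp).imp (fun e => ⟨e, e⟩) fun e => ⟨e, e⟩
      obtain ⟨z, hz, hzne⟩ : ∃ z, Eig₂ V z ∧ S.f₂ w1 z ≠ 0 := by
        by_contra hc'
        push Not at hc'
        refine hw10 (S.nd₂ w1 fun y => ?_)
        have : y ∈ Submodule.span F {y | Eig₂ V y} := hV.span_eig₂ ▸ Submodule.mem_top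
        exact (Submodule.span_le (p := LinearMap.ker (S.f₂ w1))).2 hc' this
      have sz : SameChar V w1 z := by
        intro p hp
        have hi := hV.iso₂ p hp w1 z
        rcases hw1 p hp with e | e <;> rcases hz p hp with e' | e'
        · exact Or.inl ⟨e, e'⟩
        · exfalso; apply hzne; rw [e, e', map_neg] at hi
          exact (mul_eq_zero.1 (show (2 : F) * S.f₂ w1 z = 0 by linear_combination -hi)).resolve_left S.two
        · exfalso; apply hzne; rw [e, e', map_neg, LinearMap.neg_apply] at hi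
          exact (mul_eq_zero.1 (show (2 : F) * S.f₂ w1 z = 0 by linear_combination -hi)).resolve_left S.two
        · exact Or.inr ⟨e, e'⟩
      obtain ⟨w, hw, hww⟩ : ∃ w, SameChar V w1 w ∧ S.f₂ w w ≠ 0 := by
        by_contra hc'
        push Not at hc'
        have a1 := hc' _ (lin w1 z s1 sz 1 1)
        simp only [one_smul, map_add, LinearMap.add_apply, hc' w1 s1, hc' z sz, S.symm z w1, zero_add,
          add_zero] at a1
        exact hzne ((mul_eq_zero.1
          (show (2 : F) * S.f₂ w1 z = 0 by linear_combination a1)).resolve_left S.two)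
      have key : ∀ y, SameChar V w1 y → SameChar V w y := fun y hy p hp => by
        rcases hw p hp with ⟨e, e'⟩ | ⟨e, e'⟩ <;> rcases hy p hp with ⟨f, f'⟩ | ⟨f, f'⟩
        · exact Or.inl ⟨e', f'⟩
        · exact absurd (self_eq_neg S (e.symm.trans f)) hw10
        · exact absurd (self_eq_neg S (f.symm.trans e)) hw10
        · exact Or.inr ⟨e', f'⟩
      have hproj : ∀ y, SameChar V w1 y → y = (S.f₂ w y / S.f₂ w w) • w := by
        intro y hy
        by_contra hne
        refine hB ⟨w, (1 : F) • y + (-(S.f₂ w y / S.f₂ w w)) • w, hww, ?_, ?_, key _ (lin y w hy hw _ _)⟩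
        · rw [one_smul, neg_smul, ← sub_eq_add_neg]
          exact sub_ne_zero.2 hne
        · rw [map_add, map_smul, map_smul, smul_eq_mul, smul_eq_mul, one_mul, neg_mul, div_mul_cancel₀ _ hww,
            add_neg_cancel]
      have b1 := hproj w1 s1
      have b2 := hproj w2 hs
      set c1 := S.f₂ w w1 / S.f₂ w w
      have hc1 : c1 ≠ 0 := fun h0 => hw10 (by rw [b1, h0, zero_smul])
      refine hind (S.f₂ w w2 / S.f₂ w w / c1) ?_
      rw [b1, smul_smul, div_mul_cancel₀ _ hc1]
      exact b2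
    have hd : r * t ∈ S.T := hO.inverted hV hsep hu0 hσ.iso hσu hu (H.mul_mem hrH (hO.tensor htT))
      (fun p hp => ((show Commute (kr p) r from hrV p hp).mul_right (htV p hp)).eq)
      (by rw [← ht]; calc t * (r * t) * t * (r * t) = t * r * (t * t) * r * t := by group
            _ = t * (r * r) * t := by rw [htt]; group
            _ = 1 := by rw [hrr, mul_one, htt])
    rw [show r = r * t * t⁻¹ by group]
    exact S.T.mul_mem hd (S.T.inv_mem htT)

/-- An overgroup without pure singular transvections is the stabiliser. -/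
theorem Over.le_T (hO : S.Over H) : H ≤ S.T := fun h hh => by
  refine hO.descent ⊥ ⟨?_, ?_, ?_, ?_⟩ h hh fun p hp => ?_
  all_goals first
    | (intro p hp; rw [Subgroup.mem_bot] at hp; subst hp; simp)
    | (rw [Subgroup.mem_bot] at hp; subst hp; rw [kr_one, one_mul, mul_one])

end Data

end CfsgLib.TensorSymp93
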