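import Cfsg.Agent.Lib.TensorSymp93.SliceR3

/-!
A root element of the symplectic factor is fused into the stabiliser only by the stabiliser.
-/

set_option autoImplicit false
set_option linter.unusedSectionVars false
set_option linter.unusedSimpArgs false

namespace CfsgLib.TensorSymp93

open Matrix Module
open CfsgLib.GeomClasses.TensorMax (V2 M2 pl pr pr_eq C D C_pl D_pl ext_pl eq_sum exists_perp_of_notMem
  exists_dot_eq_one exists_indep)

variable {F : Type*} [Field F] {a b : ℕ}

theorem kr_eq_of {p q : GL (Fin a) F × GL (Fin b) F}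
    (h : ∀ x w, ap (kr p) (pl w x) = ap (kr q) (pl w x)) : kr p = kr q :=
  gext fun z => LinearMap.congr_fun (ext_pl (f := ap (kr p)) (g := ap (kr q)) h) z

theorem kr_commute (E : GL (Fin a) F) (G : GL (Fin b) F) :
    Commute (kr (E, (1 : GL (Fin b) F))) (kr ((1 : GL (Fin a) F), G)) := by
  show _ * _ = _ * _
  rw [← kr_mul, ← kr_mul, Prod.mk_mul_mk, Prod.mk_mul_mk, one_mul, mul_one, one_mul, mul_one]

namespace Data

variable (S : Data F a b)

/-- The root element of a vector of the symplectic factor. -/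
noncomputable def rootL (u : Fin a → F) : GL (Fin a × Fin b) F := kr (S.tr u 1, (1 : GL (Fin b) F))

theorem rootL_mem (u : Fin a → F) : rootL S u ∈ S.T := S.tr_mem u 1

theorem ap_rootL (u : Fin a → F) (z : V2 F a b) : ap (rootL S u) z = z + pl (S.du u z) u := by
  rw [rootL, ap_tr_left, one_smul]

variable {S}

theorem pl_ne {w : Fin b → F} (hw : w ≠ 0) {u : Fin a → F} (hu : u ≠ 0) : (pl w u : V2 F a b) ≠ 0 :=
  pl_left_ne hw hu

theorem exists_ne₂ (S : Data F a b) : ∃ w : Fin b → F, w ≠ 0 := by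
  obtain ⟨w, hw, -, -⟩ := S.exists_perp₂ 0 0
  exact ⟨w, hw⟩

/-- A quadratic element of the stabiliser is pure. -/
theorem pure_cases {y : GL (Fin a × Fin b) F} (hy : y ∈ S.T)
    (hsq : ∀ z, ap y (ap y z - z) = ap y z - z) :
    (∃ E : GL (Fin a) F, y = kr (E, (1 : GL (Fin b) F)) ∧
        (∀ x x', S.f₁ (ap E x) (ap E x') = S.f₁ x x') ∧ ∀ x, ap E (ap E x - x) = ap E x - x) ∨
      ∃ G : GL (Fin b) F, y = kr ((1 : GL (Fin a) F), G) ∧
        (∀ w w', S.f₂ (ap G w) (ap G w') = S.f₂ w w') ∧ ∀ w, ap G (ap G w - w) = ap G w - w := by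
  obtain ⟨⟨E, G⟩, rfl⟩ := S.exists_kr hy
  obtain ⟨wn, hwn⟩ := S.exists_ne₂
  obtain ⟨un, hun, -, -⟩ := S.exists_perp₁ 0 0
  by_cases hG : ∃ w, ∀ c : F, ap G w ≠ c • w
  · obtain ⟨w, hw⟩ := hG
    obtain ⟨θ, hθ0, hθ1⟩ := exists_perp_of_notMem hw
    set s := θ ⬝ᵥ ap G (ap G w) with hs
    have hE : ∀ x, s • ap E x = (2 : F) • x := fun x => by
      have e := congrArg (C θ) (hsq (pl w x))
      simp only [map_sub, ap_kr, C_pl, hθ0, hθ1, zero_smul, one_smul, sub_zero, ← hs] at e
      apply ap_inj E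
      rw [map_smul, map_smul]
      linear_combination (norm := module) e
    have hs0 : s ≠ 0 := fun h0 => by
      have e := hE un
      rw [h0, zero_smul] at e
      exact hun ((smul_eq_zero.1 e.symm).resolve_left S.two)
    have hinj : Function.Injective ((2 / s) • ap G) := fun x x' h =>
      ap_inj G (smul_right_injective _ (div_ne_zero S.two hs0) h)
    set G' := glMk ((2 / s) • ap G) hinj with hG'
    have heq : kr (E, G) = kr ((1 : GL (Fin a) F), G') := kr_eq_of fun x w => by
      have hx : ap E x = (2 / s) • x := by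
        rw [div_eq_inv_mul, ← smul_smul, ← hE, smul_smul, inv_mul_cancel₀ hs0, one_smul]
      rw [ap_kr, ap_kr, ap_one, hx, hG', ap_glMk, LinearMap.smul_apply, pl_smul_right, map_smul]
    refine Or.inr ⟨G', heq, ?_, fun w => ?_⟩
    · obtain ⟨μ, ν, hμν, h1, h2⟩ := exists_sim (S := S) (p := ((1 : GL (Fin a) F), G')) (heq ▸ hy.2)
      obtain ⟨x, x', hxx⟩ := S.exists_f₁
      have := h1 x x'
      simp only [ap_one, hxx, mul_one] at this
      rw [← this, one_mul] at hμν
      intro w w'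
      rw [h2, hμν, one_mul]
    · have e := hsq (pl w un)
      rw [heq] at e
      simp only [map_sub, ap_kr, ap_one] at e
      exact pr_ne un hun (by simpa only [map_sub, pr_eq] using e)
  · push Not at hG
    obtain ⟨γ, hγ⟩ := scalar_of_eigen hG
    have hγ0 : γ ≠ 0 := fun h0 => hwn (ap_inj G (by rw [hγ, h0, zero_smul, map_zero]))
    have hinj : Function.Injective (γ • ap E) := fun x x' h =>
      ap_inj E (smul_right_injective _ hγ0 h)
    set E' := glMk (γ • ap E) hinj with hE'
    have heq : kr (E, G) = kr (E', (1 : GL (Fin b) F)) := kr_eq_of fun x w => by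
      rw [ap_kr, ap_kr, ap_one, hγ, hE', ap_glMk, LinearMap.smul_apply, pl_smul_right, map_smul]
    refine Or.inl ⟨E', heq, ?_, fun x => ?_⟩
    · obtain ⟨μ, ν, hμν, h1, h2⟩ := exists_sim (S := S) (p := (E', (1 : GL (Fin b) F))) (heq ▸ hy.2)
      obtain ⟨w, w', hww⟩ := S.exists_f₂
      have := h2 w w'
      simp only [ap_one, hww, mul_one] at this
      rw [← this, mul_one] at hμν
      intro x x'
      rw [h1, hμν, one_mul]
    · have e := hsq (pl wn x)
      rw [heq] at e
      simp only [map_sub, ap_kr, ap_one] at e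
      exact pl_inj hwn (by simpa only [map_sub] using e)

variable [Fintype F] {H : Subgroup (GL (Fin a × Fin b) F)}

/-- An element fixing the image of a quadratic element of the stabiliser lies in the stabiliser. -/
theorem Over.move (hO : S.Over H) {y : GL (Fin a × Fin b) F} (hy : y ∈ S.T)
    (hsq : ∀ z, ap y (ap y z - z) = ap y z - z) (hy1 : y ≠ 1) {g : GL (Fin a × Fin b) F} (hg : g ∈ H)
    (hfix : ∀ z, ap g (ap y z - z) = ap y z - z) : g ∈ S.T := by
  rcases pure_cases hy hsq with ⟨E, rfl, hE, hE2⟩ | ⟨G, rfl, hG, hG2⟩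
  · obtain ⟨x0, hx0⟩ : ∃ x, ap E x ≠ x := by
      by_contra hc
      push Not at hc
      refine hy1 ((kr_eq_of fun x w => ?_).trans kr_one)
      rw [ap_kr, kr_one, ap_one, ap_one, hc]
    refine hO.fix_right hg (sub_ne_zero.2 hx0) fun w => ?_
    have e := hfix (pl w x0)
    rwa [ap_kr, ap_one, ← map_sub] at e
  · obtain ⟨w0, hw0⟩ : ∃ w, ap G w ≠ w := by
      by_contra hc
      push Not at hc
      refine hy1 ((kr_eq_of fun x w => ?_).trans kr_one)
      rw [ap_kr, kr_one, ap_one, ap_one, hc]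
    have hk : S.f₂ (ap G w0 - w0) (ap G w0 - w0) = 0 := by
      have e1 := hG w0 (ap G w0 - w0)
      rw [hG2] at e1
      rw [show ∀ x, S.f₂ (ap G w0 - w0) x = S.f₂ (ap G w0) x - S.f₂ w0 x from fun x => by
        rw [map_sub, LinearMap.sub_apply], e1, sub_self]
    refine hO.fix_left hk (sub_ne_zero.2 hw0) hg fun x => ?_
    have e := hfix (pl w0 x)
    rwa [ap_kr, ap_one, ← pl_sub_right] at e

/-- The centraliser of a root element. -/
theorem Over.cent_rootL (hO : S.Over H) {g : GL (Fin a × Fin b) F} (hg : g ∈ H) {u : Fin a → F}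
    (hu : u ≠ 0) (hc : g * rootL S u = rootL S u * g) : g ∈ S.T := by
  obtain ⟨u'', hu''⟩ := S.exists_f₁_one hu
  refine hO.slice_right hg hu hu fun w => ⟨S.du u (ap g (pl w u'')), ?_⟩
  have e := congrArg (fun t => ap t (pl w u'')) hc
  simp only [ap_mul, ap_rootL, S.du_pl, hu'', one_smul, map_add] at e
  exact add_left_cancel e

theorem conj_rootL_sq (g : GL (Fin a × Fin b) F) (u : Fin a → F) (z : V2 F a b) :
    ap (g * rootL S u * g⁻¹) (ap (g * rootL S u * g⁻¹) z - z) = ap (g * rootL S u * g⁻¹) z - z := by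
  have e : ap (g * rootL S u * g⁻¹) z - z = ap g (pl (S.du u (ap g⁻¹ z)) u) := by
    rw [ap_mul, ap_mul, ap_rootL, map_add, ap_ap_inv, add_sub_cancel_left]
  rw [e, ap_mul, ap_mul, ap_inv_ap, ap_rootL, S.du_pl, S.alt, zero_smul, pl_zero_right, add_zero]

theorem conj_rootL_ne (g : GL (Fin a × Fin b) F) {u : Fin a → F} (hu : u ≠ 0) :
    g * rootL S u * g⁻¹ ≠ 1 := by
  intro h
  have h1 : rootL S u = 1 := by rw [← mul_inv_eq_one, inv_one, mul_one]; exact conj_eq_one_iff.1 h
  obtain ⟨u'', hu''⟩ := S.exists_f₁_one hu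
  obtain ⟨w, hw⟩ := S.exists_ne₂
  have e := congrArg (fun t => ap t (pl w u'')) h1
  simp only [ap_rootL, S.du_pl, hu'', one_smul, ap_one, add_eq_left] at e
  exact pl_ne hw hu e

theorem Over.fus_step (hO : S.Over H) {g : GL (Fin a × Fin b) F} (hg : g ∈ H) {u v : Fin a → F}
    (hu : u ≠ 0) (huv : S.f₁ v u = 0) (h : g * rootL S u * g⁻¹ ∈ S.T) : g * rootL S v * g⁻¹ ∈ S.T := by
  refine hO.move h (conj_rootL_sq g u) (conj_rootL_ne g hu)
    (H.mul_mem (H.mul_mem hg (hO.tensor (rootL_mem S v))) (H.inv_mem hg)) fun z => ?_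
  have e : ap (g * rootL S u * g⁻¹) z - z = ap g (pl (S.du u (ap g⁻¹ z)) u) := by
    rw [ap_mul, ap_mul, ap_rootL, map_add, ap_ap_inv, add_sub_cancel_left]
  rw [e, ap_mul, ap_mul, ap_inv_ap, ap_rootL, S.du_pl, huv, zero_smul, pl_zero_right, add_zero]

theorem Over.fus_all (hO : S.Over H) {g : GL (Fin a × Fin b) F} (hg : g ∈ H) {u : Fin a → F}
    (hu : u ≠ 0) (h : g * rootL S u * g⁻¹ ∈ S.T) (v : Fin a → F) : g * rootL S v * g⁻¹ ∈ S.T := by
  obtain ⟨w, hw, huw, hvw⟩ := S.exists_perp₁ u v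
  exact hO.fus_step hg hw hvw (hO.fus_step hg hu (by rw [S.skew, huw, neg_zero]) h)

/-- A root element of the left factor maps to the right factor unless the element preserves the decomposition. -/
theorem Over.right_type (hO : S.Over H) {g : GL (Fin a × Fin b) F} (hg : g ∈ H) (hgT : g ∉ S.T)
    {u : Fin a → F} (hu : u ≠ 0) (h : g * rootL S u * g⁻¹ ∈ S.T) :
    ∃ G : GL (Fin b) F, g * rootL S u * g⁻¹ = kr ((1 : GL (Fin a) F), G) ∧
      (∀ w w', S.f₂ (ap G w) (ap G w') = S.f₂ w w') ∧ ∀ w, ap G (ap G w - w) = ap G w - w := by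
  refine (pure_cases h (conj_rootL_sq g u)).resolve_left ?_
  rintro ⟨E, hE, -, -⟩
  obtain ⟨x0, hx0⟩ : ∃ x, ap E x ≠ x := by
    by_contra hc
    push Not at hc
    refine conj_rootL_ne (S := S) g hu (hE.trans ((kr_eq_of fun x w => ?_).trans kr_one))
    rw [ap_kr, kr_one, ap_one, ap_one, hc]
  refine hgT (inv_inv g ▸ S.T.inv_mem (hO.slice_right (H.inv_mem hg) (sub_ne_zero.2 hx0) hu fun w => ?_))
  refine ⟨S.du u (ap g⁻¹ (pl w x0)), ?_⟩
  have e := congrArg (fun t => ap t (pl w x0)) hE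
  simp only [ap_mul, ap_rootL, map_add, ap_ap_inv, ap_kr, ap_one] at e
  rw [map_sub, ← e, add_sub_cancel_left, ap_inv_ap]

theorem finrank_le_of_slices (g : GL (Fin a × Fin b) F) (u : Fin a → F) {G : GL (Fin b) F}
    (h : g * rootL S u * g⁻¹ = kr ((1 : GL (Fin a) F), G)) :
    a * finrank F (LinearMap.range (ap G - LinearMap.id)) ≤ b := by
  set X := LinearMap.range (ap G - LinearMap.id) with hX
  let Φ : (Fin a → X) →ₗ[F] V2 F a b :=
    { toFun := fun f i => (f i.1 : Fin b → F) i.2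
      map_add' := fun f f' => rfl
      map_smul' := fun c f => rfl }
  have hinj : Function.Injective Φ := fun f f' e => funext fun i => Subtype.ext (funext fun j => congrFun e (i, j))
  have hrange : LinearMap.range Φ ≤ LinearMap.range ((ap g).comp (pr u)) := by
    rintro _ ⟨f, rfl⟩
    have e : Φ f = ∑ i, pl (f i : Fin b → F) (Pi.single i 1) := by
      ext ⟨i, j⟩
      simp [Φ, pl, Finset.sum_apply, Pi.single_apply]
    rw [e]
    refine Submodule.sum_mem _ fun i _ => ?_
    obtain ⟨w, hw⟩ := (f i).2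
    refine ⟨S.du u (ap g⁻¹ (pl w (Pi.single i 1))), ?_⟩
    have e2 := congrArg (fun t => ap t (pl w (Pi.single i (1 : F)))) h
    simp only [ap_mul, ap_rootL, map_add, ap_ap_inv, ap_kr, ap_one] at e2
    rw [← hw, LinearMap.sub_apply, LinearMap.id_apply, pl_sub_right, ← e2, add_sub_cancel_left]
    rfl
  have h1 := Submodule.finrank_mono hrange
  rw [LinearMap.finrank_range_of_inj hinj, Module.finrank_pi_fintype, Finset.sum_const, Finset.card_univ,
    Fintype.card_fin, smul_eq_mul] at h1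
  have h2 := LinearMap.finrank_range_le ((ap g).comp (pr u : (Fin b → F) →ₗ[F] V2 F a b))
  rw [Module.finrank_fin_fun] at h2
  exact h1.trans h2

/-- An isometry unipotent of the orthogonal factor moves a space of dimension at least two. -/
theorem two_le_finrank {G : GL (Fin b) F} (hG : ∀ w w', S.f₂ (ap G w) (ap G w') = S.f₂ w w')
    (hG2 : ∀ w, ap G (ap G w - w) = ap G w - w) (hne : ∃ w, ap G w ≠ w) :
    2 ≤ finrank F (LinearMap.range (ap G - LinearMap.id)) := by
  obtain ⟨w0, hw0⟩ := hne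
  set x := ap G w0 - w0 with hx
  have hx0 : x ≠ 0 := sub_ne_zero.2 hw0
  have hxm : x ∈ LinearMap.range (ap G - LinearMap.id) := ⟨w0, rfl⟩
  by_contra hlt
  push Not at hlt
  have hline : ∀ w, ∃ t : F, ap G w - w = t • x := by
    intro w
    have hle : Submodule.span F {x} = LinearMap.range (ap G - LinearMap.id) :=
      Submodule.eq_of_le_of_finrank_le ((Submodule.span_singleton_le_iff_mem _ _).2 hxm)
        (by rw [finrank_span_singleton hx0]; omega)
    have : ap G w - w ∈ Submodule.span F {x} := hle ▸ ⟨w, rfl⟩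
    obtain ⟨t, ht⟩ := Submodule.mem_span_singleton.1 this
    exact ⟨t, ht.symm⟩
  have hzero : ∀ w, S.f₂ (ap G w - w) w = 0 := fun w => by
    have e1 := hG w w
    have e2 := hG (ap G w - w) (ap G w - w)
    have e3 := hG w (ap G w - w)
    rw [hG2] at e2 e3
    have e4 : S.f₂ (ap G w - w) (ap G w - w) = 0 := by
      rw [show ∀ x, S.f₂ (ap G w - w) x = S.f₂ (ap G w) x - S.f₂ w x from fun x => by
        rw [map_sub, LinearMap.sub_apply], e3, sub_self]
    simp only [map_sub, LinearMap.sub_apply, S.symm w (ap G w), e1] at e4 ⊢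
    exact (mul_eq_zero.1 (show (2 : F) * (S.f₂ (ap G w) w - S.f₂ w w) = 0 by linear_combination -e4)).resolve_left
      S.two
  obtain ⟨y, hy⟩ := S.exists_f₂_one hx0
  have h0 : S.f₂ x w0 = 0 := hzero w0
  obtain ⟨t, ht⟩ := hline y
  have e1 := hzero (w0 + y)
  have e2 := hzero y
  rw [ht, map_smul, LinearMap.smul_apply, hy, smul_eq_mul, mul_one] at e2
  rw [show ap G (w0 + y) - (w0 + y) = x + t • x by rw [← ht, hx, map_add]; abel, e2, zero_smul, add_zero,
    map_add, h0, hy, zero_add] at e1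
  exact one_ne_zero e1

/-- Fusion of a root element: only the stabiliser maps it into the stabiliser. -/
theorem Over.fus (hO : S.Over H) {g : GL (Fin a × Fin b) F} (hg : g ∈ H) {u : Fin a → F} (hu : u ≠ 0)
    (h : g * rootL S u * g⁻¹ ∈ S.T) : g ∈ S.T := by
  by_contra hgT
  have hall := hO.fus_all hg hu h
  obtain ⟨G, hG, hGi, hG2⟩ := hO.right_type hg hgT hu (hall u)
  have hgT' : g⁻¹ ∉ S.T := fun h' => hgT (inv_inv g ▸ S.T.inv_mem h')
  have hinvT : g⁻¹ * rootL S u * g⁻¹⁻¹ ∈ S.T := by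
    rw [inv_inv]
    refine hO.cent_rootL (H.mul_mem (H.mul_mem (H.inv_mem hg) (hO.tensor (rootL_mem S u))) hg) hu ?_
    have hc : rootL S u * (g * rootL S u * g⁻¹) = (g * rootL S u * g⁻¹) * rootL S u := by
      rw [hG]; exact (kr_commute _ G).eq
    calc g⁻¹ * rootL S u * g * rootL S u = g⁻¹ * (rootL S u * (g * rootL S u * g⁻¹)) * g := by group
      _ = g⁻¹ * ((g * rootL S u * g⁻¹) * rootL S u) * g := by rw [hc]
      _ = rootL S u * (g⁻¹ * rootL S u * g) := by group
  obtain ⟨G', hG', hGi', hG2'⟩ := hO.right_type (H.inv_mem hg) hgT' hu hinvT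
  have hne : ∀ (g : GL (Fin a × Fin b) F) (G : GL (Fin b) F),
      g * rootL S u * g⁻¹ = kr ((1 : GL (Fin a) F), G) → ∃ w, ap G w ≠ w := fun g G hG => by
    by_contra hc
    push Not at hc
    refine conj_rootL_ne (S := S) g hu (hG.trans ((kr_eq_of fun x w => ?_).trans kr_one))
    rw [ap_kr, kr_one, ap_one, ap_one, hc]
  have hk1 := finrank_le_of_slices g u hG
  have hk1' := two_le_finrank hGi hG2 (hne g G hG)
  have hk2 := finrank_le_of_slices g⁻¹ u hG'
  have hk2' := two_le_finrank hGi' hG2' (hne g⁻¹ G' hG')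
  -- an anisotropic fixed vector
  obtain ⟨w, hw, hww⟩ : ∃ w, ap G' w = w ∧ S.f₂ w w ≠ 0 := by
    by_contra hc
    push Not at hc
    set K := LinearMap.ker (ap G' - LinearMap.id)
    have hK : ∀ x ∈ K, S.f₂ x x = 0 := fun x hx => hc x (sub_eq_zero.1 (by simpa [K] using hx))
    have hle : K ≤ LinearMap.BilinForm.orthogonal S.f₂ K := fun x hx y hy => by
      show S.f₂ y x = 0
      have e := hK _ (K.add_mem hy hx)
      simp only [map_add, LinearMap.add_apply, hK x hx, hK y hy, S.symm x y, zero_add, add_zero] at e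
      exact (mul_eq_zero.1 (show (2 : F) * S.f₂ y x = 0 by linear_combination e)).resolve_left S.two
    have h1 := Submodule.finrank_mono hle
    rw [LinearMap.BilinForm.finrank_orthogonal S.nondeg₂, Module.finrank_fin_fun] at h1
    have h2 : finrank F (LinearMap.range (ap G' - LinearMap.id)) + finrank F K = b :=
      (LinearMap.finrank_range_add_finrank_ker (ap G' - LinearMap.id)).trans (Module.finrank_fin_fun F)
    have ha := S.ha
    have : 3 * finrank F (LinearMap.range (ap G' - LinearMap.id)) ≤ b :=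
      le_trans (Nat.mul_le_mul_right _ ha) hk2
    omega
  set τ : GL (Fin a × Fin b) F := kr ((1 : GL (Fin a) F), S.refl w) with hτ
  have hτT : τ ∈ S.T := S.refl_mem hww
  have hrG : ∀ x, ap G' (ap (S.refl w) x) = ap (S.refl w) (ap G' x) := fun x => by
    have e : S.f₂ w (ap G' x) = S.f₂ w x := by nth_rw 1 [← hw]; rw [hGi']
    rw [S.ap_refl, S.ap_refl, map_sub, map_smul, hw, e]
  have hτc : τ * (g⁻¹ * rootL S u * g) = (g⁻¹ * rootL S u * g) * τ := by
    rw [inv_inv] at hG'
    rw [hG', hτ, ← kr_mul, ← kr_mul]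
    congr 1
    exact Prod.ext rfl (gext fun x => by simp [hrG])
  set kk := g * τ * g⁻¹ with hkk
  have hkkH : kk ∈ H := H.mul_mem (H.mul_mem hg (hO.tensor hτT)) (H.inv_mem hg)
  have hkkT : kk ∈ S.T := by
    refine hO.cent_rootL hkkH hu ?_
    calc kk * rootL S u = g * (τ * (g⁻¹ * rootL S u * g)) * g⁻¹ := by rw [hkk]; group
      _ = g * ((g⁻¹ * rootL S u * g) * τ) * g⁻¹ := by rw [hτc]
      _ = rootL S u * kk := by rw [hkk]; group
  obtain ⟨⟨e, g''⟩, hk⟩ := S.exists_kr hkkT
  have hrange : ∀ z, ∃ x, ap kk z - z = ap g (pl w x) := fun z => by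
    refine ⟨-((2 / S.f₂ w w) • S.cw w (ap g⁻¹ z)), ?_⟩
    rw [hkk, ap_mul, ap_mul, hτ, S.ap_kr_refl, map_sub, ap_ap_inv, map_neg, map_neg]
    abel
  by_cases he : ∃ x, ∀ c : F, ap e x ≠ c • x
  · obtain ⟨x, hx⟩ := he
    obtain ⟨θ, hθ0, hθ1⟩ := exists_perp_of_notMem hx
    let L : (Fin b → F) →ₗ[F] V2 F a b := (ap kk - LinearMap.id).comp (pr x)
    have hL : Function.Injective L := fun w1 w2 h12 => by
      have e12 := congrArg (D θ) h12
      simp [L, hk, ap_kr, pr_eq, D_pl, hθ0, hθ1] at e12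
      exact ap_inj g'' e12
    have hle : LinearMap.range L ≤ LinearMap.range ((ap g).comp (pl w)) := by
      rintro _ ⟨w1, rfl⟩
      obtain ⟨x1, hx1⟩ := hrange (pl w1 x)
      exact ⟨x1, hx1.symm⟩
    have h1 := Submodule.finrank_mono hle
    rw [LinearMap.finrank_range_of_inj hL, Module.finrank_fin_fun] at h1
    have h2 := LinearMap.finrank_range_le ((ap g).comp (pl w : (Fin a → F) →ₗ[F] V2 F a b))
    rw [Module.finrank_fin_fun] at h2
    have ha := S.ha
    have h3 : a * 2 ≤ b := le_trans (Nat.mul_le_mul_left a hk1') hk1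
    have h4 : b ≤ a := h1.trans h2
    omega
  · push Not at he
    obtain ⟨γ, hγ⟩ := scalar_of_eigen he
    obtain ⟨x, hx⟩ := S.exists_f₁_one hu
    have hkpl : ∀ w' y, ap kk (pl w' y) = pl (γ • ap g'' w') y := fun w' y => by
      rw [hk, ap_kr, hγ, map_smul, pl_smul_right]
    have hcomm : ∀ w', γ • ap g'' (ap G w') = ap G (γ • ap g'' w') := by
      intro w'
      have hc : kk * kr ((1 : GL (Fin a) F), G) = kr ((1 : GL (Fin a) F), G) * kk := by
        rw [← hG, hkk]
        have : τ * rootL S u = rootL S u * τ := ((kr_commute _ _).eq).symm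
        calc g * τ * g⁻¹ * (g * rootL S u * g⁻¹) = g * (τ * rootL S u) * g⁻¹ := by group
          _ = g * (rootL S u * τ) * g⁻¹ := by rw [this]
          _ = g * rootL S u * g⁻¹ * (g * τ * g⁻¹) := by group
      have e1 := congrArg (fun t => ap t (pl w' x)) hc
      simp only [ap_mul, hkpl, ap_kr, ap_one] at e1
      have hx0 : x ≠ 0 := fun h0 => by simp [h0] at hx
      exact pr_ne x hx0 e1
    have hkill : ∀ n, ap G (γ • ap g'' n - n) = γ • ap g'' n - n := by
      intro n
      set m := γ • ap g'' n - n with hm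
      obtain ⟨x2, hx2⟩ := exists_indep (by have := S.ha; omega) x
      have hx0 : x ≠ 0 := fun h0 => by simp [h0] at hx
      set ℓ := ap g (pl w u) with hℓ
      have hline : ∀ y, ∃ t : F, pl (ap G m - m) y = t • ℓ := fun y => by
        obtain ⟨x1, hx1⟩ := hrange (pl n y)
        rw [hkpl, ← pl_sub_right, ← hm] at hx1
        refine ⟨S.f₁ u x1, ?_⟩
        have e1 := congrArg (fun t => ap t (pl m y)) hG
        simp only [ap_mul, ap_kr, ap_one, ap_rootL] at e1
        rw [pl_sub_right, ← e1, hx1, ap_inv_ap, S.du_pl, map_add, pl_smul_right, map_smul, add_sub_cancel_left]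
      obtain ⟨t1, ht1⟩ := hline x
      obtain ⟨t2, ht2⟩ := hline x2
      by_contra hne
      have hM0 : ap G m - m ≠ 0 := sub_ne_zero.2 hne
      have e1 : t2 • x = t1 • x2 := pl_inj hM0 (by rw [map_smul, map_smul, ht1, ht2, smul_smul, smul_smul, mul_comm])
      by_cases h1 : t1 = 0
      · rw [h1, zero_smul] at ht1
        exact pl_ne hM0 hx0 ht1
      · exact hx2 (t2 * t1⁻¹) (by rw [mul_comm, ← smul_smul, e1, smul_smul, inv_mul_cancel₀ h1, one_smul])
    set p := ap g (pl w x) with hp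
    have hkp : ap kk p = -p := by
      rw [hp, hkk, ap_mul, ap_mul, ap_inv_ap, hτ, ap_kr, ap_one, S.ap_refl, div_mul_cancel₀ _ hww,
        two_smul, show w - (w + w) = -w by abel, pl_neg_right, map_neg]
    have hy : ap (kr ((1 : GL (Fin a) F), G)) (ap kk p - p) = ap kk p - p := by
      have : ((ap (kr ((1 : GL (Fin a) F), G))).comp (ap kk - LinearMap.id) : V2 F a b →ₗ[F] V2 F a b) =
          ap kk - LinearMap.id := ext_pl fun y n => by
        rw [LinearMap.comp_apply, LinearMap.sub_apply, LinearMap.id_apply, hkpl, ← pl_sub_right, ap_kr, ap_one,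
          hkill]
      exact LinearMap.congr_fun this p
    rw [hkp, ← hG, ap_mul, ap_mul, show -p - p = -(p + p) by abel, map_neg, map_neg, map_neg, neg_inj, map_add,
      hp, ap_inv_ap, map_add, ap_rootL, S.du_pl, hx, one_smul, map_add, map_add] at hy
    have e2 : (2 : F) • ap g (pl w u) = 0 := by rw [two_smul]; linear_combination (norm := abel) hy
    have e3 := (smul_eq_zero.1 e2).resolve_left S.two
    have hw0 : w ≠ 0 := fun h0 => hww (by simp [h0])
    exact pl_ne hw0 hu (ap_inj g (by rw [e3, map_zero]))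

end Data

end CfsgLib.TensorSymp93
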