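import Cfsg.Agent.Lib.TensorSymp93.SliceL2
import Cfsg.Agent.Lib.TensorSympMax.Siegel

/-!
The centre of the radical of the stabiliser of a slice `u ⊗ W` meets an overgroup in the transvection group of
the left factor.
-/

set_option autoImplicit false
set_option linter.unusedSectionVars false
set_option linter.unusedSimpArgs false
set_option linter.style.haveILetI false

namespace CfsgLib.TensorSymp93

open Matrix Module
open CfsgLib.GeomClasses.TensorMax (V2 M2 pl pr pr_eq C D C_pl D_pl ext_pl eq_sum)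

variable {F : Type*} [Field F] {a b : ℕ}

theorem sub_one_pow_char {R : Type*} [Ring R] (p : ℕ) [Fact p.Prime] [CharP R p] (x : R) :
    (x - 1) ^ p = x ^ p - 1 := by
  rw [sub_pow_char_of_commute _ (Commute.one_right x), one_pow]

namespace Data

variable {S : Data F a b}

open Classical in
/-- The element `z ↦ z + u ⊗ T(D_u z)`. -/
noncomputable def elR (S : Data F a b) (u : Fin a → F) (T : Module.End F (Fin b → F)) :
    GL (Fin a × Fin b) F :=
  if h : Function.Injective (LinearMap.id + (pr u).comp (T.comp (S.du u)) : V2 F a b →ₗ[F] V2 F a b)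
  then glMk _ h else 1

theorem ap_elR (u : Fin a → F) (T : Module.End F (Fin b → F)) (z : V2 F a b) :
    ap (S.elR u T) z = z + pl (T (S.du u z)) u := by
  have h : Function.Injective
      (LinearMap.id + (pr u).comp (T.comp (S.du u)) : V2 F a b →ₗ[F] V2 F a b) := by
    refine Function.LeftInverse.injective (g := fun z => z - pr u (T (S.du u z))) fun z => ?_
    simp [pr_eq, S.du_pl, S.alt]
  rw [elR, dif_pos h, ap_glMk]
  rfl

theorem elR_add (u : Fin a → F) (T T' : Module.End F (Fin b → F)) :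
    S.elR u T * S.elR u T' = S.elR u (T + T') := gext fun z => by
  simp [ap_elR, S.du_pl, S.alt, pl_add_right]
  abel

theorem elR_inv (u : Fin a → F) (T : Module.End F (Fin b → F)) : (S.elR u T)⁻¹ = S.elR u (-T) := by
  refine inv_eq_of_mul_eq_one_right (gext fun z => ?_)
  rw [elR_add, add_neg_cancel, ap_elR, ap_one, LinearMap.zero_apply]
  ext; simp [pl]

theorem ap_tr_left (u : Fin a → F) (c : F) (z : V2 F a b) :
    ap (kr (S.tr u c, (1 : GL (Fin b) F))) z = z + pl (c • S.du u z) u := by
  have h : ap (kr (S.tr u c, (1 : GL (Fin b) F))) = (LinearMap.id + (pr u).comp (c • S.du u) :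
      V2 F a b →ₗ[F] V2 F a b) := ext_pl fun x w => by
    rw [ap_kr, ap_one, S.ap_tr]
    simp only [LinearMap.add_apply, LinearMap.id_apply, LinearMap.comp_apply, LinearMap.smul_apply,
      S.du_pl, map_add, map_smul, pr_eq, pl_smul_right, smul_smul]
  rw [h]; rfl

theorem elR_scalar (u : Fin a → F) (c : F) : S.elR u (c • 1) = kr (S.tr u c, (1 : GL (Fin b) F)) :=
  gext fun z => by rw [ap_elR, ap_tr_left, LinearMap.smul_apply, Module.End.one_apply]

theorem elR_conj (u : Fin a → F) (T : Module.End F (Fin b → F)) {G G' : GL (Fin b) F} (hGG : G * G' = 1) :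
    kr ((1 : GL (Fin a) F), G) * S.elR u T * kr ((1 : GL (Fin a) F), G') =
      S.elR u ((ap G).comp (T.comp (ap G'))) := gext fun z => by
  have hd : S.du u (ap (kr ((1 : GL (Fin a) F), G')) z) = ap G' (S.du u z) := by
    have := S.du_kr (p := ((1 : GL (Fin a) F), G')) (μ := 1) (fun x y => by simp) u z
    simpa using this
  rw [ap_mul, ap_mul, ap_elR, ap_elR, map_add, ap_kr, ap_one, hd, ← ap_mul, ← kr_mul, Prod.mk_mul_mk, hGG,
    one_mul, Prod.mk_one_one, kr_one, ap_one]
  rfl

theorem elR_selfAdjoint {u : Fin a → F} (hu : u ≠ 0) {T : Module.End F (Fin b → F)} (h : S.elR u T ∈ S.G)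
    (x y : Fin b → F) : S.f₂ (T x) y = S.f₂ x (T y) := by
  obtain ⟨u', hu'⟩ := S.exists_f₁_one hu
  have e := h (pl x u') (pl y u')
  simp only [ap_elR, S.du_pl, hu', one_smul, map_add, LinearMap.add_apply, S.B_pl, S.alt, S.skew u u',
    zero_mul, zero_add, add_zero] at e
  linear_combination e

variable [Fintype F]

theorem exists_isotropic (S : Data F a b) : ∃ k : Fin b → F, k ≠ 0 ∧ S.f₂ k k = 0 := by
  obtain ⟨x₁, h10, -, -⟩ := S.exists_perp₂ 0 0
  by_cases h1 : S.f₂ x₁ x₁ = 0
  · exact ⟨x₁, h10, h1⟩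
  obtain ⟨x₂, h20, h12, -⟩ := S.exists_perp₂ x₁ 0
  by_cases h2 : S.f₂ x₂ x₂ = 0
  · exact ⟨x₂, h20, h2⟩
  obtain ⟨x₃, h30, h13, h23⟩ := S.exists_perp₂ x₁ x₂
  by_cases h3 : S.f₂ x₃ x₃ = 0
  · exact ⟨x₃, h30, h3⟩
  obtain ⟨s, t, hst⟩ := CfsgLib.TensorSympMax.exists_binary S.two h1 h2 (-S.f₂ x₃ x₃)
  refine ⟨s • x₁ + t • x₂ + x₃, fun h0 => h3 ?_, ?_⟩
  · have h := congrArg (fun z => S.f₂ z x₃) h0
    simpa [h13, h23] using h
  · simp [S.symm x₂ x₁, S.symm x₃ x₁, S.symm x₃ x₂, h12, h13, h23]
    linear_combination hst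

/-- Conjugation by a Siegel element. -/
noncomputable def adR (S : Data F a b) (k m : Fin b → F) :
    Module.End F (Module.End F (Fin b → F)) where
  toFun T := (ap (S.rho k m)).comp (T.comp (ap (S.rho k (-m))))
  map_add' T T' := by ext; simp
  map_smul' c T := by ext; simp

theorem adR_apply (k m : Fin b → F) (T : Module.End F (Fin b → F)) (x : Fin b → F) :
    adR S k m T x = ap (S.rho k m) (T (ap (S.rho k (-m)) x)) := rfl

variable {H : Subgroup (GL (Fin a × Fin b) F)}

/-- The intersection of an overgroup with the root subgroup of `u ⊗ W` consists of scalars. -/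
theorem Over.elR_scalar_of_mem (hO : S.Over H) {u : Fin a → F} (hu : u ≠ 0) {T : Module.End F (Fin b → F)}
    (hT : S.elR u T ∈ H) : ∃ c : F, T = c • 1 := by
  classical
  by_contra hns
  obtain ⟨k, hk0, hk⟩ := S.exists_isotropic
  obtain ⟨k', P⟩ := S.exists_pair hk hk0
  let In : Module.End F (Fin b → F) → Prop := fun T => S.elR u T ∈ H
  let Sc : Module.End F (Fin b → F) → Prop := fun T => ∃ c : F, T = c • 1
  have hrho : ∀ m, S.f₂ k m = 0 → S.rho k m * S.rho k (-m) = 1 := fun m hm => by
    rw [← S.rho_inv hk hm, mul_inv_cancel]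
  have hadsc : ∀ m, S.f₂ k m = 0 → ∀ c : F, (adR S k m - 1) (c • 1) = 0 := fun m hm c => by
    refine LinearMap.ext fun x => ?_
    rw [LinearMap.sub_apply, Module.End.one_apply, LinearMap.sub_apply, adR_apply, LinearMap.smul_apply,
      Module.End.one_apply, map_smul, ← ap_mul, hrho m hm, ap_one, LinearMap.smul_apply, Module.End.one_apply,
      sub_self, LinearMap.zero_apply]
  have hN : ∀ m, S.f₂ k m = 0 → ∀ T, In T → In ((adR S k m - 1) T) := by
    intro m hm T hT
    have e : (adR S k m - 1) T = adR S k m T + -T := by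
      rw [LinearMap.sub_apply, Module.End.one_apply, sub_eq_add_neg]
    show S.elR u _ ∈ H
    rw [e, ← elR_add, ← elR_inv, show adR S k m T = (ap (S.rho k m)).comp (T.comp (ap (S.rho k (-m)))) from rfl,
      ← elR_conj u T (hrho m hm)]
    exact H.mul_mem (H.mul_mem (H.mul_mem (hO.tensor (S.rho_mem hk hm)) hT)
      (hO.tensor (S.rho_mem hk (by simp [hm])))) (H.inv_mem hT)
  have hadd : ∀ m n, S.f₂ k m = 0 → S.f₂ k n = 0 → adR S k m * adR S k n = adR S k (m + n) := by
    intro m n hm hn
    refine LinearMap.ext fun T => LinearMap.ext fun x => ?_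
    rw [Module.End.mul_apply, adR_apply, adR_apply, adR_apply, ← ap_mul, ← ap_mul, S.rho_mul hk hm hn,
      S.rho_mul hk (by simp [hn]) (by simp [hm]), neg_add_rev]
  have hcomm : ∀ m n, S.f₂ k m = 0 → S.f₂ k n = 0 → Commute (adR S k m - 1) (adR S k n - 1) := by
    intro m n hm hn
    show _ * _ = _ * _
    refine LinearMap.ext fun T => ?_
    have e : adR S k m (adR S k n T) = adR S k n (adR S k m T) := by
      rw [← Module.End.mul_apply, ← Module.End.mul_apply, hadd m n hm hn, hadd n m hn hm, add_comm]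
    simp only [Module.End.mul_apply, LinearMap.sub_apply, Module.End.one_apply, map_sub, e]
    abel
  set p := ringChar F with hp
  haveI hpp : Fact p.Prime := ⟨CharP.char_is_prime F p⟩
  have hnil : ∀ n, S.f₂ k n = 0 → (adR S k n - 1) ^ p = 0 := by
    intro n hn
    haveI : Nontrivial (Module.End F (Module.End F (Fin b → F))) :=
      nontrivial_of_ne 1 0 fun h => hns ⟨0, by
        have := LinearMap.congr_fun h T
        rwa [Module.End.one_apply, LinearMap.zero_apply, ← zero_smul F (1 : Module.End F (Fin b → F))] at this⟩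
    haveI : CharP (Module.End F (Module.End F (Fin b → F))) p :=
      charP_of_injective_algebraMap (RingHom.injective (algebraMap F _)) p
    have hpow : ∀ j : ℕ, adR S k n ^ j = adR S k (j • n) := by
      intro j
      induction j with
      | zero =>
        rw [pow_zero, zero_smul]
        refine LinearMap.ext fun T => LinearMap.ext fun x => ?_
        rw [adR_apply, Module.End.one_apply, neg_zero, S.ap_rho hk (map_zero _), S.ap_rho hk (map_zero _),
          S.rhoMap_zero, S.rhoMap_zero]
      | succ j ih => rw [pow_succ, ih, hadd _ _ (by rw [map_nsmul, hn, smul_zero]) hn, succ_nsmul]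
    refine (sub_one_pow_char p (adR S k n)).trans ?_
    rw [hpow, ← Nat.cast_smul_eq_nsmul F, CharP.cast_eq_zero F p, zero_smul, sub_eq_zero]
    refine LinearMap.ext fun T => LinearMap.ext fun x => ?_
    rw [adR_apply, Module.End.one_apply, neg_zero, S.ap_rho hk (map_zero _), S.ap_rho hk (map_zero _),
      S.rhoMap_zero, S.rhoMap_zero]
  have fixed : ∀ s : Finset (Fin b → F), (∀ m ∈ s, S.f₂ k m = 0) →
      ∃ T', In T' ∧ ¬ Sc T' ∧ ∀ m ∈ s, Sc ((adR S k m - 1) T') := by
    intro s
    induction s using Finset.induction_on with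
    | empty => exact fun _ => ⟨T, hT, hns, fun m hm => absurd hm (Finset.notMem_empty m)⟩
    | insert n s hns' ih =>
      intro hs
      obtain ⟨T', hT', hns2, hfix⟩ := ih fun m hm => hs m (Finset.mem_insert_of_mem hm)
      have hn := hs n (Finset.mem_insert_self n s)
      have hex : ∃ j, Sc ((((adR S k n - 1) ^ j : Module.End F (Module.End F (Fin b → F))) T')) :=
        ⟨p, 0, by rw [hnil n hn, LinearMap.zero_apply, zero_smul]⟩
      obtain ⟨j, hj⟩ : ∃ j, Nat.find hex = j + 1 := by
        refine ⟨Nat.find hex - 1, (Nat.succ_pred_eq_of_pos ?_).symm⟩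
        refine Nat.pos_of_ne_zero fun h0 => hns2 ?_
        have := Nat.find_spec hex
        rw [h0, pow_zero, Module.End.one_apply] at this
        exact this
      have hin : ∀ i, In ((((adR S k n - 1) ^ i : Module.End F (Module.End F (Fin b → F))) T')) := by
        intro i
        induction i with
        | zero => rwa [pow_zero, Module.End.one_apply]
        | succ i ih2 => rw [pow_succ', Module.End.mul_apply]; exact hN n hn _ ih2
      refine ⟨((adR S k n - 1) ^ j : Module.End F (Module.End F (Fin b → F))) T', hin j, Nat.find_min hex (by omega), fun m hm => ?_⟩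
      rcases Finset.mem_insert.1 hm with rfl | hm'
      · have := Nat.find_spec hex
        rw [hj, pow_succ', Module.End.mul_apply] at this
        exact this
      · rw [← Module.End.mul_apply, ((hcomm m n (hs m hm) hn).pow_right j).eq, Module.End.mul_apply]
        obtain ⟨c, hc⟩ := hfix m hm'
        rw [hc]
        cases j with
        | zero => exact ⟨c, by rw [pow_zero, Module.End.one_apply]⟩
        | succ i => exact ⟨0, by rw [pow_succ, Module.End.mul_apply, hadsc n hn, map_zero, zero_smul]⟩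
  haveI : Fintype (Fin b → F) := inferInstance
  obtain ⟨R, hR, hRns, hfix⟩ :=
    fixed (Finset.univ.filter fun m => Pair.Mid S k k' m) fun m hm => (Finset.mem_filter.1 hm).2.1
  have hsym : ∀ x y, S.f₂ (R x) y = S.f₂ x (R y) := elR_selfAdjoint hu (hO.le hR)
  have rel : ∀ m, Pair.Mid S k k' m → ∃ c : F, ∀ x,
      S.rhoMap k m (R x) - R (S.rhoMap k m x) = c • S.rhoMap k m x := by
    intro m hm
    obtain ⟨c, hc⟩ := hfix m (Finset.mem_filter.2 ⟨Finset.mem_univ _, hm⟩)
    refine ⟨c, fun x => ?_⟩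
    have e := LinearMap.congr_fun hc (ap (S.rho k m) x)
    have hinv : ap (S.rho k (-m)) (ap (S.rho k m) x) = x := by
      rw [← ap_mul, ← S.rho_inv hk hm.1, inv_mul_cancel, ap_one]
    simp only [LinearMap.sub_apply, Module.End.one_apply, LinearMap.smul_apply, adR_apply, hinv] at e
    rwa [S.ap_rho hk hm.1, S.ap_rho hk hm.1] at e
  obtain ⟨m₀, hm₀, hm₀m⟩ : ∃ m, Pair.Mid S k k' m ∧ S.f₂ m m ≠ 0 := by
    by_contra hc
    push Not at hc
    obtain ⟨t, t', ht, ht', htt⟩ := P.exists_mid
    have e := hc (t + t') ⟨by simp [ht.1, ht'.1], by simp [ht.2, ht'.2]⟩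
    simp only [map_add, LinearMap.add_apply, hc t ht, hc t' ht', S.symm t' t, htt, zero_add, add_zero] at e
    exact S.two (by linear_combination e)
  have hσ : S.f₂ k (R k) = 0 := by
    obtain ⟨c, hc⟩ := rel m₀ hm₀
    have e := congrArg (S.f₂ m₀) (hc k)
    simp [S.rhoMap_apply, hk, S.symm m₀ k, hm₀.1] at e
    exact e.resolve_right hm₀m
  have hperp : ∀ m s, Pair.Mid S k k' m → S.f₂ m m ≠ 0 → Pair.Mid S k k' s → S.f₂ m s = 0 →
      S.f₂ (R k) s = 0 := by
    intro m s hm hmm hs hms
    obtain ⟨c, hc⟩ := rel m hm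
    have e := congrArg (S.f₂ s) (hc m)
    simp [S.rhoMap_apply, hm.1, S.symm s m, hms, S.symm s k, hs.1] at e
    rw [S.symm]
    exact e.resolve_left hmm
  have hmid : ∀ s, Pair.Mid S k k' s → S.f₂ (R k) s = 0 := by
    refine fun s hs => P.aniso_induction (Q := fun s => S.f₂ (R k) s = 0) (map_zero _)
      (fun x y hx hy => by rw [map_sub, hx, hy, sub_zero]) (fun s hs hss => ?_) hs
    suffices h : ∃ m, Pair.Mid S k k' m ∧ S.f₂ m m ≠ 0 ∧ S.f₂ m s = 0 by
      obtain ⟨m, hm, hmm, hms⟩ := h
      exact hperp m s hm hmm hs hms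
    by_contra hc
    push Not at hc
    have horth : ∀ m, Pair.Mid S k k' m → S.f₂ m s = 0 → m = 0 := by
      intro m hm hms
      refine P.mid_nondeg hm fun t ht => ?_
      set t1 := t - (S.f₂ t s / S.f₂ s s) • s with ht1
      have ht1m : Pair.Mid S k k' t1 := ⟨by simp [ht1, ht.1, hs.1], by simp [ht1, ht.2, hs.2]⟩
      have ht1s : S.f₂ t1 s = 0 := by
        simp only [ht1, map_sub, map_smul, LinearMap.sub_apply, LinearMap.smul_apply, smul_eq_mul]
        field_simp
        ring
      have e0 : ∀ x, Pair.Mid S k k' x → S.f₂ x s = 0 → S.f₂ x x = 0 := fun x hx hxs => by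
        by_contra h
        exact hc x hx h hxs
      have e1 := e0 m hm hms
      have e2 := e0 t1 ht1m ht1s
      have e3 := e0 (m + t1) ⟨by simp [hm.1, ht1m.1], by simp [hm.2, ht1m.2]⟩ (by simp [hms, ht1s])
      simp only [map_add, LinearMap.add_apply, e1, e2, S.symm t1 m, zero_add, add_zero] at e3
      have e4 : S.f₂ m t1 = 0 :=
        (mul_eq_zero.1 (show (2 : F) * S.f₂ m t1 = 0 by linear_combination e3)).resolve_left S.two
      simpa [ht1, hms] using e4
    obtain ⟨x, hx0, hxk, hxs⟩ : ∃ x, x ≠ 0 ∧ Pair.Mid S k k' x ∧ S.f₂ x s = 0 := by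
      have hlt : finrank F (F × F × F) < finrank F (Fin b → F) := by
        rw [Module.finrank_prod, Module.finrank_prod, Module.finrank_self, Module.finrank_fin_fun]
        have := S.hb; omega
      obtain ⟨z, hz, hz0⟩ := (Submodule.ne_bot_iff _).1
        (LinearMap.ker_ne_bot_of_finrank_lt (f := (S.f₂ k).prod ((S.f₂ k').prod (S.f₂ s))) hlt)
      rw [LinearMap.mem_ker] at hz
      exact ⟨z, hz0, ⟨congrArg Prod.fst hz, congrArg (fun p => p.2.1) hz⟩,
        by rw [S.symm]; exact congrArg (fun p => p.2.2) hz⟩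
    exact hx0 (horth x hxk hxs)
  set α := S.f₂ (R k) k' with hα
  have hRk : R k = α • k := by
    refine sub_eq_zero.1 (S.nd₂ _ fun y => ?_)
    rw [show y = S.f₂ k' y • k + S.f₂ k y • k' + P.proj y by rw [P.proj_apply]; abel]
    simp only [map_sub, map_smul, map_add, LinearMap.sub_apply, LinearMap.smul_apply, smul_eq_mul, hmid _
      (P.proj_mid y), (P.proj_mid y).1, S.symm (R k) k, hσ, hk, P.one, hα]
    ring
  have hR' : In (R + -(α • 1)) := by
    show S.elR u _ ∈ H
    rw [← elR_add, ← elR_inv, elR_scalar]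
    exact H.mul_mem hR (H.inv_mem (hO.tensor (S.tr_mem u α)))
  have hfixk : ∀ x, ap (S.elR u (R + -(α • 1))) (pl k x) = pl k x := fun x => by
    rw [ap_elR, S.du_pl]
    simp [hRk]
    ext; simp [pl]
  obtain ⟨y, hy0, hy, -⟩ := S.exists_perp₁ u u
  have h1 := T_fix_eq_one (hO.fix_left hk hk0 hR' hfixk) hk0 hfixk hy0 fun w => by
    rw [ap_elR, S.du_pl, hy, zero_smul, map_zero]
    ext; simp [pl]
  obtain ⟨u', hu'⟩ := S.exists_f₁_one hu
  refine hRns ⟨α, LinearMap.ext fun x => ?_⟩
  have e : ap (S.elR u (R + -(α • 1))) (pl x u') = pl x u' := by rw [h1, ap_one]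
  rw [ap_elR, S.du_pl, hu', one_smul, add_eq_left] at e
  have := pr_ne u hu (a₁ := (R + -(α • 1)) x) (a₂ := 0) (by rw [pr_eq, e, map_zero])
  simpa [add_neg_eq_zero] using this

end Data

end CfsgLib.TensorSymp93
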