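import Cfsg.Agent.Lib.TensorSymp93.Basic

/-!
The radical of the stabiliser of a singular slice `U ⊗ k`, and elements mapping a singular slice to a slice.
-/

set_option autoImplicit false
set_option linter.unusedSectionVars false
set_option linter.unusedSimpArgs false

namespace CfsgLib.TensorSymp93

open Matrix Module
open CfsgLib.GeomClasses.TensorMax (V2 M2 pl pr pr_eq C D ext_pl eq_sum)

variable {F : Type*} [Field F] {a b : ℕ}

theorem scalar_of_eigen {n : ℕ} {P : (Fin n → F) →ₗ[F] (Fin n → F)} (h : ∀ u, ∃ c : F, P u = c • u) :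
    ∃ c : F, ∀ u, P u = c • u :=
  CfsgLib.GeomClasses.TensorMax.scalar_of_not_nonScalar fun ⟨p, hp⟩ =>
    let ⟨c, hc⟩ := h p
    hp c hc

theorem pl_inj {w : Fin b → F} (hw : w ≠ 0) : Function.Injective (pl w : (Fin a → F) →ₗ[F] V2 F a b) := by
  intro u u' h
  obtain ⟨j, hj⟩ := Function.ne_iff.1 hw
  funext i
  have := congrFun h (i, j)
  exact mul_right_cancel₀ hj (by simpa [pl] using this)

theorem pl_left_ne {w : Fin b → F} (hw : w ≠ 0) {u : Fin a → F} (hu : u ≠ 0) : (pl w u : V2 F a b) ≠ 0 :=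
  fun h => hu (pl_inj hw (by rw [h, map_zero]))

theorem pl_add_right (w w' : Fin b → F) (u : Fin a → F) :
    (pl (w + w') u : V2 F a b) = pl w u + pl w' u := by ext; simp [pl, mul_add]

theorem pl_sub_right (w w' : Fin b → F) (u : Fin a → F) :
    (pl (w - w') u : V2 F a b) = pl w u - pl w' u := by ext; simp [pl, mul_sub]

theorem pl_smul_right (c : F) (w : Fin b → F) (u : Fin a → F) :
    (pl (c • w) u : V2 F a b) = c • pl w u := by ext; simp [pl]; ring

namespace Data

variable {S : Data F a b}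

namespace Pair

variable {k k' : Fin b → F} (P : S.Pair k k')
include P

theorem exists_mid : ∃ t t', Mid S k k' t ∧ Mid S k k' t' ∧ S.f₂ t t' = 1 := by
  obtain ⟨x, hx⟩ : ∃ x, P.proj x ≠ 0 := by
    by_contra h
    push Not at h
    have hle : (⊤ : Submodule F (Fin b → F)) ≤ Submodule.span F {k, k'} := fun x _ => by
      have hx := h x
      rw [P.proj_apply, sub_sub, sub_eq_zero] at hx
      rw [hx]
      exact Submodule.mem_span_pair.2 ⟨_, _, rfl⟩
    have h1 := Submodule.finrank_mono hle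
    rw [finrank_top, Module.finrank_fintype_fun_eq_card, Fintype.card_fin] at h1
    classical
    have h2 := (finrank_span_finset_le_card (R := F) ({k, k'} : Finset (Fin b → F))).trans Finset.card_le_two
    rw [Set.finrank, Finset.coe_pair] at h2
    have := S.hb
    omega
  obtain ⟨y, hy⟩ := S.exists_f₂_one hx
  exact ⟨_, P.proj y, P.proj_mid x, P.proj_mid y, by rw [P.f₂_proj (P.proj_mid x), hy]⟩

theorem decomp (z : V2 F a b) : ∀ w, S.cw w z =
    S.cw (P.proj w) z + S.f₂ k w • S.cw k' z + S.f₂ k' w • S.cw k z := fun w => by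
  rw [← S.cw_smul, ← S.cw_smul, ← S.cw_add, ← S.cw_add, P.proj_apply]
  congr 1
  abel_nf

end Pair

theorem cw_zero (z : V2 F a b) : S.cw 0 z = 0 := by
  rw [← zero_smul F (0 : Fin b → F), S.cw_smul, zero_smul]

theorem du_zero (z : V2 F a b) : S.du 0 z = 0 := by
  rw [← zero_smul F (0 : Fin a → F), S.du_smul, zero_smul]

/-- The elements fixing `U ⊗ k` pointwise and the quotient of its orthogonal by it. -/
structure InQ (S : Data F a b) (k : Fin b → F) (g : GL (Fin a × Fin b) F) : Prop where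
  memG : g ∈ S.G
  fix : ∀ u, ap g (pl k u) = pl k u
  perp : ∀ z, S.cw k z = 0 → ∃ x, ap g z - z = pl k x

theorem cw_map {g : GL (Fin a × Fin b) F} (hg : g ∈ S.G) {k : Fin b → F}
    (hfix : ∀ u, ap g (pl k u) = pl k u) (z : V2 F a b) : S.cw k (ap g z) = S.cw k z := by
  refine sub_eq_zero.1 (S.nd₁ _ fun u => ?_)
  rw [map_sub, LinearMap.sub_apply, S.skew u, S.skew u, ← S.B_left, ← S.B_left]
  nth_rw 1 [← hfix u]
  rw [hg, sub_self]

namespace InQ

variable {k : Fin b → F} {g g' : GL (Fin a × Fin b) F}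

theorem mul (h : S.InQ k g) (h' : S.InQ k g') : S.InQ k (g * g') := by
  refine ⟨S.G.mul_mem h.memG h'.memG, fun u => by rw [ap_mul, h'.fix, h.fix], fun z hz => ?_⟩
  obtain ⟨x, hx⟩ := h.perp z hz
  obtain ⟨x', hx'⟩ := h'.perp z hz
  refine ⟨x + x', ?_⟩
  rw [ap_mul, sub_eq_iff_eq_add.1 hx', map_add, h.fix, sub_eq_iff_eq_add.1 hx, map_add]
  abel

theorem inv (h : S.InQ k g) : S.InQ k g⁻¹ := by
  have hfix : ∀ u, ap g⁻¹ (pl k u) = pl k u := fun u => by
    nth_rw 1 [← h.fix u]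
    rw [ap_inv_ap]
  refine ⟨S.G.inv_mem h.memG, hfix, fun z hz => ?_⟩
  obtain ⟨x, hx⟩ := h.perp (ap g⁻¹ z) (by rw [cw_map (S.G.inv_mem h.memG) hfix, hz])
  rw [ap_ap_inv] at hx
  exact ⟨-x, by rw [map_neg, ← hx, neg_sub]⟩

/-- The movement of the opposite slice. -/
theorem cw_mov (h : S.InQ k g) (k' : Fin b → F) (x : Fin a → F) :
    S.cw k (ap g (pl k' x) - pl k' x) = 0 := by
  rw [map_sub, cw_map h.memG h.fix, sub_self]

theorem pairing (h : S.InQ k g) (k' : Fin b → F) (y : Fin a → F) {z : V2 F a b} (hz : S.cw k z = 0) :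
    S.B (pl k' y) (ap g z) =
      S.B (pl k' y) z - S.B (ap g (pl k' y) - pl k' y) z := by
  obtain ⟨x, hx⟩ := h.perp z hz
  have h1 := h.memG (pl k' y) z
  have h2 : S.B (ap g (pl k' y) - pl k' y) (ap g z - z) = 0 := by
    rw [hx, S.B_right, h.cw_mov, map_zero, LinearMap.zero_apply]
  simp only [map_sub, LinearMap.sub_apply] at h2 ⊢
  linear_combination h1 - h2

end InQ

open Classical in
/-- The element `z ↦ z + A(C_k z) ⊗ k`. -/
noncomputable def el (S : Data F a b) (k : Fin b → F) (A : (Fin a → F) →ₗ[F] (Fin a → F)) :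
    GL (Fin a × Fin b) F :=
  if h : Function.Injective (LinearMap.id + (pl k).comp (A.comp (S.cw k)) : V2 F a b →ₗ[F] V2 F a b)
  then glMk _ h else 1

theorem ap_el {k : Fin b → F} (hk : S.f₂ k k = 0) (A : (Fin a → F) →ₗ[F] (Fin a → F)) (z : V2 F a b) :
    ap (S.el k A) z = z + pl k (A (S.cw k z)) := by
  have h : Function.Injective
      (LinearMap.id + (pl k).comp (A.comp (S.cw k)) : V2 F a b →ₗ[F] V2 F a b) := by
    refine Function.LeftInverse.injective (g := fun z => z - pl k (A (S.cw k z))) fun z => ?_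
    simp [S.cw_pl, hk]
  rw [el, dif_pos h, ap_glMk]
  rfl

theorem el_inv {k : Fin b → F} (hk : S.f₂ k k = 0) (A : (Fin a → F) →ₗ[F] (Fin a → F)) :
    (S.el k A)⁻¹ = S.el k (-A) := by
  refine inv_eq_of_mul_eq_one_right (gext fun z => ?_)
  simp [ap_el hk, S.cw_pl, hk]

variable {H : Subgroup (GL (Fin a × Fin b) F)}

/-- No non-trivial central radical element. -/
theorem Over.el_zero (hO : S.Over H) {k : Fin b → F} (hk : S.f₂ k k = 0) (hk0 : k ≠ 0)
    {A : (Fin a → F) →ₗ[F] (Fin a → F)} (hA : ∀ x y, S.f₁ x (A y) = -S.f₁ (A x) y)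
    (hm : S.el k A ∈ H) : A = 0 := by
  have key : ∀ u, S.f₁ u (A u) = 0 := by
    intro u
    by_cases hu : u = 0
    · rw [hu, map_zero, map_zero, LinearMap.zero_apply]
    set t : GL (Fin a × Fin b) F := kr (S.tr u 1, 1) with ht
    have ht' : t⁻¹ = kr (S.tr u (-1), 1) := by rw [ht, ← kr_inv]; simp [S.tr_inv]
    have htH : t ∈ H := hO.tensor (S.tr_mem u 1)
    have hcw : ∀ (c : F) z, S.cw k (ap (kr (S.tr u c, (1 : GL (Fin b) F))) z) =
        ap (S.tr u c) (S.cw k z) := fun c z => by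
      have := S.cw_kr (p := (S.tr u c, (1 : GL (Fin b) F))) (ν := 1) (by simp) k z
      simpa using this
    have hc : ∀ (c : F) (z : V2 F a b),
        ap (kr (S.tr u c, (1 : GL (Fin b) F)) * S.el k A * kr (S.tr u (-c), (1 : GL (Fin b) F))) z =
          z + pl k (ap (S.tr u c) (A (ap (S.tr u (-c)) (S.cw k z)))) := fun c z => by
      rw [ap_mul, ap_mul, ap_el hk, hcw, map_add, ap_kr, ap_one]
      congr 1
      rw [← ap_mul, ← kr_mul, ← S.tr_inv, Prod.mk_mul_mk, mul_inv_cancel, one_mul, Prod.mk_one_one, kr_one,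
        ap_one]
    have e1 := hO.noTv (kr (S.tr u 1, 1) * S.el k A * kr (S.tr u (-1), 1) *
      (kr (S.tr u (-1), 1) * S.el k A * kr (S.tr u (- -1), 1)) * (S.el k A)⁻¹ * (S.el k A)⁻¹)
      (H.mul_mem (H.mul_mem (H.mul_mem (H.mul_mem (H.mul_mem (hO.tensor (S.tr_mem u 1)) hm)
        (hO.tensor (S.tr_mem u _))) (H.mul_mem (H.mul_mem (hO.tensor (S.tr_mem u _)) hm)
        (hO.tensor (S.tr_mem u _)))) (H.inv_mem hm)) (H.inv_mem hm))
      u k (-2 * S.f₁ u (A u)) hu hk0 hk fun z => by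
        rw [el_inv hk, ap_mul, ap_mul, ap_el hk, ap_mul, hc, hc, ap_el hk]
        simp only [S.cw_pl, hk, zero_smul, map_add, map_smul, map_zero, add_zero, LinearMap.neg_apply,
          map_neg, S.ap_tr, S.B_left, neg_neg, S.alt, smul_eq_mul, mul_zero]
        match_scalars <;> ring
    exact (mul_eq_zero.1 e1).resolve_left (by simp [S.two])
  refine LinearMap.ext fun v => S.nd₁ _ fun u => ?_
  have h1 := key (u + v)
  simp only [map_add, LinearMap.add_apply, key u, key v] at h1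
  have h2 : S.f₁ v (A u) = S.f₁ u (A v) := by rw [S.skew (A u) v, ← hA]
  rw [h2] at h1
  have h3 : S.f₁ u (A v) = 0 :=
    (mul_eq_zero.1 (show (2 : F) * S.f₁ u (A v) = 0 by linear_combination h1)).resolve_left S.two
  rw [S.skew u, h3, neg_zero]

/-- An element of the radical fixing the orthogonal of the slice is trivial. -/
theorem Over.centre_eq_one (hO : S.Over H) {k k' : Fin b → F} (P : S.Pair k k')
    {g : GL (Fin a × Fin b) F} (hgH : g ∈ H) (h : S.InQ k g)
    (hfix : ∀ z, S.cw k z = 0 → ap g z = z) : g = 1 := by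
  set A : (Fin a → F) →ₗ[F] (Fin a → F) := (S.cw k').comp (((ap g) - LinearMap.id).comp (pl k')) with hA
  have hMx : ∀ x, ap g (pl k' x) - pl k' x = pl k (A x) := fun x => by
    refine P.eq_pl (h.cw_mov k' x) fun s hs => S.nd₁ _ fun u => ?_
    rw [← S.B_right, S.B_skew (pl s u)]
    have h1 := h.memG (pl s u) (pl k' x)
    rw [hfix _ (by rw [S.cw_pl, S.symm, hs.1, zero_smul])] at h1
    rw [map_sub, h1, sub_self, neg_zero]
  have hgz : ∀ z, ap g z = z + pl k (A (S.cw k z)) := fun z => by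
    have h1 := hfix (z - pl k' (S.cw k z)) (by rw [map_sub, S.cw_pl, P.one', one_smul, sub_self])
    have h2 := hMx (S.cw k z)
    rw [map_sub, sub_eq_iff_eq_add.1 h2] at h1
    linear_combination (norm := module) h1
  have hg : g = S.el k A := gext fun z => by rw [hgz, ap_el P.q₁]
  have hAs : ∀ x y, S.f₁ x (A y) = -S.f₁ (A x) y := fun x y => by
    have h1 := h.memG (pl k' x) (pl k' y)
    simp only [hgz, map_add, LinearMap.add_apply, S.B_pl, S.cw_pl, P.one', one_smul, P.one, P.q₁, P.q₂,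
      mul_one, mul_zero, add_zero, zero_add] at h1
    linear_combination h1
  have hA0 := hO.el_zero P.q₁ P.ne hAs (hg ▸ hgH)
  exact gext fun z => by rw [hgz, hA0, LinearMap.zero_apply, map_zero, add_zero, ap_one]

theorem inQ_eta {k m : Fin b → F} (hk : S.f₂ k k = 0) (hm : S.f₂ k m = 0) :
    S.InQ k (kr ((1 : GL (Fin a) F), S.rho k m)) := by
  refine ⟨(S.rho_mem hk hm).2, fun u => ?_, fun z hz => ⟨-(S.cw m z), ?_⟩⟩
  · rw [ap_kr, ap_one, S.ap_rho hk hm, S.rhoMap_apply, hk, S.symm m k, hm]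
    simp
  · rw [S.ap_kr_rho hk hm, hz, smul_zero, map_zero, map_zero, map_neg]
    abel

namespace InQ

variable {k k' : Fin b → F} {g g' : GL (Fin a × Fin b) F}

theorem commute (hO : S.Over H) (P : S.Pair k k') (h : S.InQ k g) (hgH : g ∈ H) (h' : S.InQ k g')
    (hg'H : g' ∈ H) : g * g' = g' * g := by
  refine mul_inv_eq_one.1 (hO.centre_eq_one P (H.mul_mem (H.mul_mem hgH hg'H) (H.inv_mem
    (H.mul_mem hg'H hgH))) ((h.mul h').mul (h'.mul h).inv) fun z hz => ?_)
  set y := ap (g' * g)⁻¹ z with hy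
  have hy0 : S.cw k y = 0 := by rw [hy, cw_map (h'.mul h).inv.memG (h'.mul h).inv.fix, hz]
  have hzy : z = ap (g' * g) y := by rw [hy, ap_ap_inv]
  obtain ⟨x, hx⟩ := h.perp y hy0
  obtain ⟨x', hx'⟩ := h'.perp y hy0
  rw [ap_mul, ← hy, hzy, ap_mul, ap_mul, sub_eq_iff_eq_add.1 hx', sub_eq_iff_eq_add.1 hx, map_add, map_add,
    h.fix, h'.fix, sub_eq_iff_eq_add.1 hx', sub_eq_iff_eq_add.1 hx]
  abel

theorem key (hO : S.Over H) (P : S.Pair k k') (h : S.InQ k g) (hgH : g ∈ H) (h' : S.InQ k g')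
    (hg'H : g' ∈ H) (x y : Fin a → F) :
    S.B (ap g (pl k' y) - pl k' y) (ap g' (pl k' x) - pl k' x) =
      S.B (ap g' (pl k' y) - pl k' y) (ap g (pl k' x) - pl k' x) := by
  have e := congrArg (fun t => S.B (pl k' y) (ap t (pl k' x))) (h.commute hO P hgH h' hg'H)
  have h1 := h.pairing k' y (h'.cw_mov k' x)
  have h2 := h'.pairing k' y (h.cw_mov k' x)
  simp only [ap_mul, map_sub, LinearMap.sub_apply] at e h1 h2 ⊢
  linear_combination -e + h1 - h2

/-- The radical of a singular slice stabiliser meets the overgroup in the Siegel group. -/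
theorem eq_eta (hO : S.Over H) (P : S.Pair k k') (h : S.InQ k g) (hgH : g ∈ H) :
    ∃ m, Pair.Mid S k k' m ∧ g = kr ((1 : GL (Fin a) F), S.rho k m) := by
  let M : (Fin a → F) →ₗ[F] V2 F a b := ((ap g) - LinearMap.id).comp (pl k')
  have hM : ∀ x, M x = ap g (pl k' x) - pl k' x := fun x => rfl
  have hkM : ∀ x, S.cw k (M x) = 0 := fun x => h.cw_mov k' x
  have self : ∀ s, Pair.Mid S k k' s → ∀ x y,
      S.f₁ (S.cw s (M y)) x = S.f₁ y (S.cw s (M x)) := by
    intro s hs x y
    have hk := hs.1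
    have e := h.key hO P hgH (inQ_eta P.q₁ hk) (hO.tensor (S.rho_mem P.q₁ hk)) x y
    rw [← hM, ← hM, S.ap_kr_rho P.q₁ hk, S.ap_kr_rho P.q₁ hk] at e
    simp only [S.cw_pl, P.one', one_smul, S.symm k' s, hs.2, zero_smul, map_zero, sub_zero,
      add_sub_cancel_left, map_sub, map_add, map_smul, LinearMap.sub_apply, LinearMap.smul_apply,
      LinearMap.add_apply] at e
    simp only [S.B_right, S.B_left, hkM, map_zero, LinearMap.zero_apply, smul_zero, mul_zero,
      smul_eq_mul, sub_zero] at e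
    linear_combination e
  have scal : ∀ s, Pair.Mid S k k' s → S.f₂ s s ≠ 0 → ∃ c : F, ∀ x, S.cw s (M x) = c • x := by
    intro s hs hss
    have hks : S.f₂ s k' = 0 := by rw [S.symm, hs.2]
    set τ : GL (Fin a × Fin b) F := kr ((1 : GL (Fin a) F), S.refl s) with hτdef
    have hτ : τ ∈ S.T := S.refl_mem hss
    have hττ : τ⁻¹ = τ := by
      rw [hτdef, ← kr_inv]
      congr 1
      exact Prod.ext inv_one (inv_eq_of_mul_eq_one_right (S.refl_mul_self hss))
    have hconjQ : S.InQ k (τ * g * τ) := by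
      refine ⟨S.G.mul_mem (S.G.mul_mem hτ.2 h.memG) hτ.2, fun u => ?_, fun z hz => ?_⟩
      · have : ∀ u, ap τ (pl k u) = pl k u := fun u => by
          rw [hτdef, ap_kr, ap_one, S.ap_refl, S.symm s k, hs.1]; simp
        rw [ap_mul, ap_mul, this, h.fix, this]
      · have hτk : ∀ u, ap τ (pl k u) = pl k u := fun u => by
          rw [hτdef, ap_kr, ap_one, S.ap_refl, S.symm s k, hs.1]; simp
        have hz' : S.cw k (ap τ z) = 0 := by rw [cw_map hτ.2 hτk, hz]
        obtain ⟨x, hx⟩ := h.perp _ hz'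
        refine ⟨x, ?_⟩
        rw [ap_mul, ap_mul, sub_eq_iff_eq_add.1 hx, map_add, hτk, ← ap_mul]
        conv_lhs => arg 1; arg 2; rw [show τ * τ = 1 by nth_rw 1 [← hττ]; rw [inv_mul_cancel]]
        rw [ap_one]; abel
    set g'' := g * (τ * g * τ)⁻¹ with hg''def
    have hQ'' : S.InQ k g'' := h.mul hconjQ.inv
    have hH'' : g'' ∈ H := H.mul_mem hgH (H.inv_mem (H.mul_mem (H.mul_mem (hO.tensor hτ) hgH)
      (hO.tensor hτ)))
    let P' : (Fin a → F) →ₗ[F] (Fin a → F) := (2 / S.f₂ s s) • (S.cw s).comp M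
    have hM'' : ∀ x, ∃ y, ap g'' (pl k' x) - pl k' x = pl s (P' x) + pl k y := by
      intro x
      have hτk' : ∀ u, ap τ (pl k' u) = pl k' u := fun u => by
        rw [hτdef, ap_kr, ap_one, S.ap_refl, S.symm s k', hs.2]; simp
      set y0 := ap (τ * g * τ)⁻¹ (pl k' x) with hy0
      have e0 : ap (τ * g * τ) y0 = pl k' x := by rw [hy0, ap_ap_inv]
      have e1 : ap (τ * g * τ) (pl k' x) = pl k' x + (M x - pl s (P' x)) := by
        rw [ap_mul, ap_mul, hτk', hτdef, show ap g (pl k' x) = pl k' x + M x by rw [hM]; abel, map_add,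
          ← hτdef, hτk', hτdef, S.ap_kr_refl]
        rfl
      obtain ⟨p, hp⟩ := hconjQ.inv.perp (M x - pl s (P' x)) (by
        rw [map_sub, hkM, S.cw_pl, S.symm, hs.1, zero_smul, sub_self])
      have e2 : y0 = pl k' x - (M x - pl s (P' x)) - pl k p := by
        have e3 := congrArg (ap (τ * g * τ)⁻¹) e1
        rw [ap_inv_ap, map_add, sub_eq_iff_eq_add.1 hp, ← hy0] at e3
        linear_combination (norm := module) -e3
      obtain ⟨q, hq⟩ := h.perp (M x - pl s (P' x)) (by
        rw [map_sub, hkM, S.cw_pl, S.symm, hs.1, zero_smul, sub_self])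
      refine ⟨-p - q, ?_⟩
      rw [hg''def, ap_mul, ← hy0, e2, map_sub, map_sub, h.fix, sub_eq_iff_eq_add.1 hq,
        show ap g (pl k' x) = pl k' x + M x by rw [hM]; abel, map_sub, map_neg]
      abel
    have hself : ∀ x y, S.f₁ (P' y) x = S.f₁ y (P' x) := fun x y => by
      simp only [P', LinearMap.smul_apply, LinearMap.comp_apply, map_smul, smul_eq_mul, self s hs x y]
    -- conjugation by a transvection
    have hcomm : ∀ u, (2 : F) • (S.f₁ u (P' u) • u) = 0 ∧ ∀ x,
        S.f₁ u x • P' (P' u) + S.f₁ u (P' (P' x)) • u = (2 * S.f₁ u (P' x)) • P' u := by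
      intro u
      have huu : S.f₁ u (P' u) = 0 := by
        have h1 := hself u u
        rw [S.skew u (P' u)] at h1
        exact (mul_eq_zero.1 (show (2 : F) * S.f₁ u (P' u) = 0 by linear_combination -h1)).resolve_left S.two
      refine ⟨by rw [huu, zero_smul, smul_zero], fun x => ?_⟩
      set t : GL (Fin a × Fin b) F := kr (S.tr u 1, 1) with htdef
      have htT : t ∈ S.T := S.tr_mem u 1
      have ht' : t⁻¹ = kr (S.tr u (-1), 1) := by rw [htdef, ← kr_inv]; simp [S.tr_inv]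
      have htk : ∀ (w : Fin b → F) y, ap t (pl w y) = pl w (ap (S.tr u 1) y) := fun w y => by
        rw [htdef, ap_kr, ap_one]
      have ht'k : ∀ (w : Fin b → F) y, ap t⁻¹ (pl w y) = pl w (ap (S.tr u (-1)) y) := fun w y => by
        rw [ht', ap_kr, ap_one]
      have hQ3 : S.InQ k (t * g'' * t⁻¹) := by
        refine ⟨S.G.mul_mem (S.G.mul_mem htT.2 hQ''.memG) (S.G.inv_mem htT.2), fun y => ?_,
          fun z hz => ?_⟩
        · rw [ap_mul, ap_mul, ht'k, hQ''.fix, ← ht'k, ap_ap_inv]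
        · have hz' : S.cw k (ap t⁻¹ z) = 0 := by
            have := S.cw_kr (p := (S.tr u (-1), (1 : GL (Fin b) F))) (ν := 1) (by simp) k z
            rw [ht']
            simpa [hz] using this
          obtain ⟨y, hy⟩ := hQ''.perp _ hz'
          refine ⟨ap (S.tr u 1) y, ?_⟩
          rw [ap_mul, ap_mul, sub_eq_iff_eq_add.1 hy, map_add, htk, ap_ap_inv]
          abel
      have hM3 : ∀ y, ∃ q, ap (t * g'' * t⁻¹) (pl k' y) - pl k' y =
          pl s (ap (S.tr u 1) (P' (ap (S.tr u (-1)) y))) + pl k q := fun y => by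
        obtain ⟨q, hq⟩ := hM'' (ap (S.tr u (-1)) y)
        refine ⟨ap (S.tr u 1) q, ?_⟩
        have hc : ap (S.tr u 1) (ap (S.tr u (-1)) y) = y := by rw [← S.tr_inv, ap_ap_inv]
        rw [ap_mul, ap_mul, ht'k, sub_eq_iff_eq_add.1 hq]
        simp only [map_add, htk, hc]
        abel
      refine sub_eq_zero.1 (S.nd₁ _ fun y => ?_)
      obtain ⟨q1, e1⟩ := hM'' y
      obtain ⟨q2, e2⟩ := hM'' x
      obtain ⟨q3, e3⟩ := hM3 y
      obtain ⟨q4, e4⟩ := hM3 x
      have e := hQ''.key hO P hH'' hQ3 (H.mul_mem (H.mul_mem (hO.tensor htT) hH'')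
        (H.inv_mem (hO.tensor htT))) x y
      rw [e1, e2, e3, e4] at e
      simp only [map_add, LinearMap.add_apply, S.B_pl, S.symm s k, hs.1, P.q₁, mul_zero, add_zero,
        zero_add] at e
      replace e := mul_right_cancel₀ hss e
      simp only [S.ap_tr, map_add, map_smul, LinearMap.add_apply, LinearMap.smul_apply, smul_eq_mul,
        map_sub, LinearMap.sub_apply, huu, mul_zero, add_zero, one_mul, neg_mul] at e ⊢
      have r1 : S.f₁ (P' y) (P' u) = -S.f₁ (P' (P' u)) y := by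
        rw [hself (P' u) y, S.skew (P' (P' u)) y]
      have r2 : S.f₁ (P' u) (P' x) = S.f₁ u (P' (P' x)) := hself (P' x) u
      have r3 : S.f₁ (P' y) u = -S.f₁ (P' u) y := by rw [hself u y, S.skew (P' u) y]
      have r4 : S.f₁ u (P' y) = S.f₁ (P' u) y := (hself y u).symm
      rw [r1, r2, r3, r4] at e
      linear_combination e
    obtain ⟨c, hc⟩ : ∃ c : F, ∀ u, P' u = c • u := scalar_of_eigen fun u => by
      by_contra hne
      push Not at hne
      obtain ⟨θ, hθu, hθp⟩ := CfsgLib.GeomClasses.TensorMax.exists_perp_of_notMem hne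
      obtain ⟨x, hxu, hxp⟩ : ∃ x, S.f₁ u x = 0 ∧ S.f₁ (P' u) x = 1 := by
        by_contra hx
        push Not at hx
        have hu0 : u ≠ 0 := fun h0 => hne 0 (by rw [h0, map_zero, smul_zero])
        obtain ⟨x0, hx0⟩ := S.exists_f₁_one hu0
        refine hne (S.f₁ (P' u) x0) (sub_eq_zero.1 (S.nd₁ _ fun x => ?_))
        have h1 : S.f₁ u (x - S.f₁ u x • x0) = 0 := by simp [hx0]
        by_contra hne0
        refine hx ((S.f₁ (P' u) (x - S.f₁ u x • x0))⁻¹ • (x - S.f₁ u x • x0))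
          (by rw [map_smul, h1, smul_zero]) ?_
        rw [map_smul, smul_eq_mul, inv_mul_cancel₀ fun h2 => hne0 ?_]
        simp only [map_sub, map_smul, LinearMap.sub_apply, LinearMap.smul_apply, smul_eq_mul] at h2 ⊢
        linear_combination h2
      have e := congrArg (θ ⬝ᵥ ·) ((hcomm u).2 x)
      simp only [dotProduct_add, dotProduct_smul, smul_eq_mul, hxu, zero_mul, hθu, hθp, mul_zero,
        zero_add, mul_one] at e
      rw [← hself x u] at e
      exact S.two (by linear_combination -e - 2 * hxp)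
    refine ⟨c * (S.f₂ s s / 2), fun x => ?_⟩
    have h1 := hc x
    simp only [P', LinearMap.smul_apply, LinearMap.comp_apply] at h1
    have h2 := S.two
    rw [mul_comm, ← smul_smul, ← h1, smul_smul]
    field_simp
    rw [one_smul]
  obtain ⟨x0, x1, hx01⟩ : ∃ x0 x1, S.f₁ x1 x0 = 1 := by
    have ha := S.ha
    obtain ⟨x, hx⟩ := S.exists_f₁_one (u := Pi.single (⟨0, by omega⟩ : Fin a) 1) (by simp)
    exact ⟨x, _, hx⟩
  let φ : (Fin b → F) →ₗ[F] F :=
    { toFun := fun s => S.f₁ x1 (S.cw (P.proj s) (M x0))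
      map_add' := fun s s' => by rw [map_add, S.cw_add, map_add]
      map_smul' := fun t s => by rw [map_smul, S.cw_smul, map_smul, RingHom.id_apply] }
  have hφ : ∀ s, Pair.Mid S k k' s → ∀ x, S.cw s (M x) = φ s • x := by
    intro s hs
    refine P.aniso_induction (Q := fun s => Pair.Mid S k k' s ∧ ∀ x, S.cw s (M x) = φ s • x)
      ⟨⟨map_zero _, map_zero _⟩, fun x => by rw [cw_zero, map_zero, zero_smul]⟩ ?_ ?_ hs |>.2
    · exact fun s s' hs hs' => ⟨⟨by simp [hs.1.1, hs'.1.1], by simp [hs.1.2, hs'.1.2]⟩, fun x => by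
        rw [S.cw_sub, hs.2, hs'.2, map_sub, sub_smul]⟩
    · intro s hs hss
      obtain ⟨c, hc⟩ := scal s hs hss
      have hφs : φ s = c := by
        show S.f₁ x1 (S.cw (P.proj s) (M x0)) = c
        rw [P.proj_of_mid hs, hc, map_smul, hx01, smul_eq_mul, mul_one]
      exact ⟨hs, fun x => by rw [hφs, hc]⟩
  let m0 : Fin b → F := (S.f₂.toDual (S.nondeg₂)).symm φ
  have hm0 : ∀ w, S.f₂ m0 w = φ w := fun w => LinearMap.BilinForm.apply_toDual_symm_apply _ _
  refine ⟨P.proj m0, P.proj_mid m0, ?_⟩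
  have hm : ∀ s, Pair.Mid S k k' s → S.f₂ (P.proj m0) s = φ s := fun s hs => by
    rw [S.symm, P.f₂_proj hs, S.symm, hm0]
  set m := P.proj m0 with hmdef
  have hmk : S.f₂ k m = 0 := (P.proj_mid m0).1
  set η : GL (Fin a × Fin b) F := kr ((1 : GL (Fin a) F), S.rho k m) with hη
  refine mul_inv_eq_one.1 (hO.centre_eq_one P (H.mul_mem hgH (H.inv_mem (hO.tensor (S.rho_mem P.q₁ hmk))))
    (h.mul (inQ_eta P.q₁ hmk).inv) fun z hz => ?_)
  set y := ap η⁻¹ z with hy
  have hy0 : S.cw k y = 0 := by rw [hy, cw_map (inQ_eta P.q₁ hmk).inv.memG (inQ_eta P.q₁ hmk).inv.fix, hz]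
  obtain ⟨p, hp⟩ := h.perp y hy0
  obtain ⟨p', hp'⟩ := (inQ_eta P.q₁ hmk).perp y hy0
  have hpp : p = p' := by
    refine sub_eq_zero.1 (S.nd₁ _ fun x => ?_)
    have h1 := h.pairing k' x hy0
    have h2 := (inQ_eta P.q₁ hmk).pairing k' x hy0
    rw [sub_eq_iff_eq_add.1 hp, ← hM] at h1
    rw [sub_eq_iff_eq_add.1 hp', S.ap_kr_rho P.q₁ hmk] at h2
    simp only [map_add, map_sub, map_smul, LinearMap.add_apply, LinearMap.sub_apply, LinearMap.smul_apply,
      S.B_pl, S.cw_pl, P.one', one_smul, S.symm k' m, (P.proj_mid m0).2, zero_smul, map_zero, sub_zero,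
      mul_one, LinearMap.zero_apply] at h1 h2
    have hw : ∀ w, S.B (M x) (pl w x) = S.f₁ (S.cw w (M x)) x := fun w => S.B_right _ _ _
    have hres : S.B (M x) y = S.B (pl m x) y := by
      have h3 : S.cw k (M x - pl m x) = 0 := by rw [map_sub, hkM, S.cw_pl, S.symm, hmk, zero_smul, sub_zero]
      have h4 := P.eq_pl h3 fun s hs => by rw [map_sub, hφ s hs, S.cw_pl, hm s hs, sub_self]
      rw [← sub_eq_zero, ← LinearMap.sub_apply, ← map_sub, h4, S.B_left, hy0, map_zero]
    rw [S.skew x (p - p'), map_sub]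
    have h5 : S.B (pl k x) y = 0 := by rw [S.B_left, hy0, map_zero]
    simp only [h5, smul_zero, sub_zero] at h2
    linear_combination -h1 + h2 + hres
  rw [ap_mul, ← hy, sub_eq_iff_eq_add.1 hp, hpp, ← sub_eq_iff_eq_add.1 hp', ← hη, hy, ap_ap_inv]

end InQ

end Data

end CfsgLib.TensorSymp93
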