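import Cfsg.Agent.Lib.TensorSymp93.SliceL

/-!
An element of an overgroup fixing a singular slice `U ⊗ k` pointwise preserves the tensor decomposition.
-/

set_option autoImplicit false
set_option linter.unusedSectionVars false
set_option linter.unusedSimpArgs false

namespace CfsgLib.TensorSymp93

open Matrix Module
open CfsgLib.GeomClasses.TensorMax (V2 M2 pl pr pr_eq C D C_pl D_pl ext_pl eq_sum exists_dot_eq_one)

variable {F : Type*} [Field F] {a b : ℕ}

namespace Data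

variable {S : Data F a b}

theorem pr_ne (u : Fin a → F) (hu : u ≠ 0) : Function.Injective (pr u : (Fin b → F) →ₗ[F] V2 F a b) := by
  intro w w' h
  obtain ⟨θ, hθ⟩ := exists_dot_eq_one hu
  have e := congrArg (D θ) h
  simpa [pr_eq, D_pl, hθ] using e

theorem exists_perp₁ (S : Data F a b) (x y : Fin a → F) : ∃ z, z ≠ 0 ∧ S.f₁ x z = 0 ∧ S.f₁ y z = 0 := by
  have hlt : finrank F (F × F) < finrank F (Fin a → F) := by
    rw [Module.finrank_prod, Module.finrank_self, Module.finrank_fin_fun]; have := S.ha; omega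
  obtain ⟨z, hz, hz0⟩ := (Submodule.ne_bot_iff _).1
    (LinearMap.ker_ne_bot_of_finrank_lt (f := (S.f₁ x).prod (S.f₁ y)) hlt)
  rw [LinearMap.mem_ker] at hz
  exact ⟨z, hz0, congrArg Prod.fst hz, congrArg Prod.snd hz⟩

theorem exists_perp₂ (S : Data F a b) (x y : Fin b → F) : ∃ z, z ≠ 0 ∧ S.f₂ x z = 0 ∧ S.f₂ y z = 0 := by
  have hlt : finrank F (F × F) < finrank F (Fin b → F) := by
    rw [Module.finrank_prod, Module.finrank_self, Module.finrank_fin_fun]; have := S.hb; omega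
  obtain ⟨z, hz, hz0⟩ := (Submodule.ne_bot_iff _).1
    (LinearMap.ker_ne_bot_of_finrank_lt (f := (S.f₂ x).prod (S.f₂ y)) hlt)
  rw [LinearMap.mem_ker] at hz
  exact ⟨z, hz0, congrArg Prod.fst hz, congrArg Prod.snd hz⟩

theorem exists_f₁ (S : Data F a b) : ∃ x y, S.f₁ x y = 1 := by
  have ha := S.ha
  obtain ⟨y, hy⟩ := S.exists_f₁_one (u := Pi.single (⟨0, by omega⟩ : Fin a) 1) (by simp)
  exact ⟨_, y, hy⟩

theorem exists_f₂ (S : Data F a b) : ∃ x y, S.f₂ x y = 1 := by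
  have hb := S.hb
  obtain ⟨y, hy⟩ := S.exists_f₂_one (w := Pi.single (⟨0, by omega⟩ : Fin b) 1) (by simp)
  exact ⟨_, y, hy⟩

theorem inj_of_f₁ {L : (Fin a → F) →ₗ[F] (Fin a → F)} {μ : F} (hμ : μ ≠ 0)
    (h : ∀ x y, S.f₁ (L x) (L y) = μ * S.f₁ x y) : Function.Injective L := by
  rw [← LinearMap.ker_eq_bot, LinearMap.ker_eq_bot']
  refine fun x hx => S.nd₁ x fun y => (mul_eq_zero.1 ?_).resolve_left hμ
  rw [← h, hx, map_zero, LinearMap.zero_apply]

theorem inj_of_f₂ {L : (Fin b → F) →ₗ[F] (Fin b → F)} {μ : F} (hμ : μ ≠ 0)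
    (h : ∀ x y, S.f₂ (L x) (L y) = μ * S.f₂ x y) : Function.Injective L := by
  rw [← LinearMap.ker_eq_bot, LinearMap.ker_eq_bot']
  refine fun x hx => S.nd₂ x fun y => (mul_eq_zero.1 ?_).resolve_left hμ
  rw [← h, hx, map_zero, LinearMap.zero_apply]

/-- The factors of a tensor isometry are similitudes. -/
theorem exists_sim {p : GL (Fin a) F × GL (Fin b) F} (h : kr p ∈ S.G) :
    ∃ μ ν : F, μ * ν = 1 ∧ (∀ x y, S.f₁ (ap p.1 x) (ap p.1 y) = μ * S.f₁ x y) ∧
      ∀ x y, S.f₂ (ap p.2 x) (ap p.2 y) = ν * S.f₂ x y := by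
  obtain ⟨u, u', hu⟩ := S.exists_f₁
  obtain ⟨w, w', hw⟩ := S.exists_f₂
  have e : ∀ x y z z', S.f₁ (ap p.1 x) (ap p.1 y) * S.f₂ (ap p.2 z) (ap p.2 z') = S.f₁ x y * S.f₂ z z' :=
    fun x y z z' => by
      have := h (pl z x) (pl z' y)
      rwa [ap_kr, ap_kr, S.B_pl, S.B_pl] at this
  set μ := S.f₁ (ap p.1 u) (ap p.1 u') with hμ
  set ν := S.f₂ (ap p.2 w) (ap p.2 w') with hν
  have hμν : μ * ν = 1 := by rw [hμ, hν, e, hu, hw, mul_one]
  refine ⟨μ, ν, hμν, fun x y => ?_, fun x y => ?_⟩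
  · have h1 := e x y w w'
    rw [hw, mul_one, ← hν] at h1
    linear_combination μ * h1 - S.f₁ (ap p.1 x) (ap p.1 y) * hμν
  · have h1 := e u u' x y
    rw [hu, one_mul, ← hμ] at h1
    linear_combination ν * h1 - S.f₂ (ap p.2 x) (ap p.2 y) * hμν

/-- A tensor element fixing slices of both kinds pointwise is trivial. -/
theorem T_fix_eq_one {g : GL (Fin a × Fin b) F} (hg : g ∈ S.T) {k : Fin b → F} (hk : k ≠ 0)
    (hfk : ∀ x, ap g (pl k x) = pl k x) {y : Fin a → F} (hy : y ≠ 0)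
    (hfy : ∀ w, ap g (pl w y) = pl w y) : g = 1 := by
  obtain ⟨⟨E, G⟩, rfl⟩ := S.exists_kr hg
  obtain ⟨θ, hθ⟩ := exists_dot_eq_one hy
  obtain ⟨φ, hφ⟩ := exists_dot_eq_one hk
  set γ := θ ⬝ᵥ ap E y with hγ
  have h1 : ∀ w, γ • ap G w = w := fun w => by
    have e := congrArg (D θ) (hfy w)
    rwa [ap_kr, D_pl, D_pl, hθ, one_smul] at e
  have h2 : ∀ x, ap E x = γ • x := fun x => by
    have e := congrArg (C φ) (hfk x)
    rw [ap_kr, C_pl, C_pl, hφ, one_smul] at e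
    have hG : φ ⬝ᵥ ap G k * γ = 1 := by
      have := congrArg (φ ⬝ᵥ ·) (h1 k)
      simp only [dotProduct_smul, smul_eq_mul, hφ] at this
      linear_combination this
    calc ap E x = (φ ⬝ᵥ ap G k * γ) • ap E x := by rw [hG, one_smul]
      _ = γ • x := by rw [mul_comm, ← smul_smul, e]
  refine gext fun z => ?_
  have : ap (kr (E, G)) = (LinearMap.id : V2 F a b →ₗ[F] V2 F a b) := ext_pl fun u w => by
    rw [ap_kr, h2, map_smul, ← pl_smul_right, h1, LinearMap.id_apply]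
  rw [this, ap_one, LinearMap.id_apply]

theorem eta_perp {k m : Fin b → F} (hk : S.f₂ k k = 0) (hm : S.f₂ k m = 0) {z : V2 F a b}
    (hz : S.cw k z = 0) : ap (kr ((1 : GL (Fin a) F), S.rho k m)) z = z - pl k (S.cw m z) := by
  rw [S.ap_kr_rho hk hm, hz]
  simp

variable {H : Subgroup (GL (Fin a × Fin b) F)}

/-- An element fixing a singular slice pointwise lies in the stabiliser. -/
theorem Over.fix_left (hO : S.Over H) {k : Fin b → F} (hk : S.f₂ k k = 0) (hk0 : k ≠ 0)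
    {g : GL (Fin a × Fin b) F} (hg : g ∈ H) (hfix : ∀ x, ap g (pl k x) = pl k x) : g ∈ S.T := by
  obtain ⟨k', P⟩ := S.exists_pair hk hk0
  have hcw : ∀ z, S.cw k (ap g z) = S.cw k z := cw_map (hO.le hg) hfix
  have mid : ∀ s, Pair.Mid S k k' s →
      ∃ m, ∀ z, S.cw k z = 0 → S.cw s (ap g z) = S.cw m z := by
    intro s hs
    set η := kr ((1 : GL (Fin a) F), S.rho k s) with hη
    have hηT : η ∈ S.T := S.rho_mem hk hs.1
    have hfix' : ∀ x, ap g⁻¹ (pl k x) = pl k x := fun x => by nth_rw 1 [← hfix x]; rw [ap_inv_ap]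
    have hval : ∀ z, S.cw k z = 0 → ap (g⁻¹ * η * g) z = z - pl k (S.cw s (ap g z)) := fun z hz => by
      rw [ap_mul, ap_mul, hη, eta_perp hk hs.1 (by rw [hcw, hz]), map_sub, ap_inv_ap, hfix']
    have hQ : S.InQ k (g⁻¹ * η * g) := by
      refine ⟨S.G.mul_mem (S.G.mul_mem (S.G.inv_mem (hO.le hg)) hηT.2) (hO.le hg), fun x => ?_,
        fun z hz => ⟨-S.cw s (ap g z), by rw [hval z hz, map_neg]; abel⟩⟩
      rw [ap_mul, ap_mul, hfix, hη, (inQ_eta hk hs.1).fix, hfix']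
    obtain ⟨m, hm, e⟩ := hQ.eq_eta hO P (H.mul_mem (H.mul_mem (H.inv_mem hg) (hO.tensor hηT)) hg)
    refine ⟨m, fun z hz => pl_inj hk0 ?_⟩
    have e1 := hval z hz
    rw [e, eta_perp hk hm.1 hz] at e1
    exact (sub_right_inj.1 e1).symm
  choose σ hσ using mid
  obtain ⟨u₂, x₀, hu⟩ := S.exists_f₁
  let G0 : (Fin b → F) →ₗ[F] (Fin b → F) :=
    P.proj.comp ((S.du u₂).comp ((ap g).comp ((pr x₀).comp P.proj)))
  have hG0 : ∀ t, G0 t = P.proj (S.du u₂ (ap g (pl (P.proj t) x₀))) := fun t => rfl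
  have hzk : ∀ t, Pair.Mid S k k' t → ∀ y, S.cw k (pl t y) = 0 := fun t ht y => by
    rw [S.cw_pl, S.symm, ht.1, zero_smul]
  have key : ∀ t s (ht : Pair.Mid S k k' t) (hs : Pair.Mid S k k' s) (y : Fin a → F),
      S.cw s (ap g (pl t y)) = S.f₂ (G0 t) s • y := by
    intro t s ht hs y
    have h1 : ∀ y, S.cw s (ap g (pl t y)) = S.f₂ t (σ s hs) • y := fun y => by
      rw [hσ s hs _ (hzk t ht y), S.cw_pl]
    have h2 : S.f₂ (G0 t) s = S.f₂ t (σ s hs) := by
      rw [hG0, P.proj_of_mid ht, S.symm, P.f₂_proj hs, ← S.B_left', S.B_left, h1, map_smul, hu,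
        smul_eq_mul, mul_one]
    rw [h1, h2]
  have hgt : ∀ t, Pair.Mid S k k' t → ∀ y,
      ap g (pl t y) = pl (G0 t) y + pl k (S.cw k' (ap g (pl t y) - pl (G0 t) y)) := by
    intro t ht y
    rw [← sub_eq_iff_eq_add']
    refine P.eq_pl ?_ fun s hs => ?_
    · rw [map_sub, hcw, hzk t ht, S.cw_pl, S.symm, hG0, (P.proj_mid _).1, zero_smul, sub_zero]
    · rw [map_sub, key t s ht hs, S.cw_pl, sub_self]
  have hG0m : ∀ t, Pair.Mid S k k' (G0 t) := fun t => by rw [hG0]; exact P.proj_mid _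
  have hiso : ∀ t t', Pair.Mid S k k' t → Pair.Mid S k k' t' → S.f₂ (G0 t) (G0 t') = S.f₂ t t' := by
    intro t t' ht ht'
    have e := hO.le hg (pl t u₂) (pl t' x₀)
    rw [hgt t ht, hgt t' ht'] at e
    simp only [map_add, LinearMap.add_apply, S.B_pl, S.symm (G0 t) k, (hG0m t).1, (hG0m t').1, hk, mul_zero,
      add_zero, hu, one_mul] at e
    exact e
  let L : (Fin b → F) →ₗ[F] (Fin b → F) :=
    (S.f₂ k').smulRight k + (S.f₂ k).smulRight k' + G0.comp P.proj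
  have hL : ∀ x, L x = S.f₂ k' x • k + S.f₂ k x • k' + G0 (P.proj x) := fun x => rfl
  have hLiso : ∀ x y, S.f₂ (L x) (L y) = 1 * S.f₂ x y := by
    intro x y
    have hd : ∀ x, x = S.f₂ k' x • k + S.f₂ k x • k' + P.proj x := fun x => by rw [P.proj_apply]; abel
    have hx := P.proj_mid x
    have hy := P.proj_mid y
    conv_rhs => rw [hd x, hd y]
    simp only [hL, map_add, map_smul, LinearMap.add_apply, LinearMap.smul_apply, hk, P.q₂, P.one, P.one',
      (hG0m (P.proj x)).1, (hG0m (P.proj x)).2, (hG0m (P.proj y)).1, (hG0m (P.proj y)).2, hx.1, hx.2, hy.1,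
      hy.2, S.symm (G0 (P.proj x)) k, S.symm (G0 (P.proj x)) k', S.symm (P.proj x) k, S.symm (P.proj x) k',
      hiso _ _ hx hy, smul_eq_mul, one_mul]
  set Gh : GL (Fin b) F := glMk L (inj_of_f₂ (S := S) one_ne_zero hLiso) with hGh
  set τ : GL (Fin a × Fin b) F := kr ((1 : GL (Fin a) F), Gh) with hτ
  have hτT : τ ∈ S.T := S.krR_mem fun x y => by rw [hGh, ap_glMk, ap_glMk, hLiso, one_mul]
  have hτpl : ∀ w y, ap τ (pl w y) = pl (L w) y := fun w y => by rw [hτ, ap_kr, ap_one, hGh, ap_glMk]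
  have hpk : P.proj k = 0 := by simp [P.proj_apply, P.one', hk]
  have hLk : L k = k := by simp [hL, P.one', hk, hpk]
  have hτk : ∀ x, ap τ (pl k x) = pl k x := fun x => by rw [hτpl, hLk]
  have hdiff : ∀ z, S.cw k z = 0 → ∀ s, Pair.Mid S k k' s → S.cw s (ap g z - ap τ z) = 0 := by
    intro z hz s hs
    let Λ : V2 F a b →ₗ[F] (Fin a → F) :=
      (S.cw s).comp ((ap g - ap τ).comp (LinearMap.id - (pl k').comp (S.cw k)))
    have hΛ : Λ = 0 := ext_pl fun y w => by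
      have hp : pl w y - pl k' (S.cw k (pl w y)) = pl (P.proj w) y + pl k (S.f₂ k' w • y) := by
        rw [S.cw_pl, map_smul, map_smul, P.proj_apply, pl_sub_right, pl_sub_right, pl_smul_right,
          pl_smul_right, S.symm w k]
        abel
      have hpp : P.proj (P.proj w) = P.proj w := P.proj_of_mid (P.proj_mid w)
      obtain ⟨ψ, hψ⟩ : ∃ ψ, ap g (pl (P.proj w) y) = pl (G0 (P.proj w)) y + pl k ψ :=
        ⟨_, hgt _ (P.proj_mid w) y⟩
      simp only [Λ, LinearMap.comp_apply, LinearMap.sub_apply, LinearMap.id_apply, LinearMap.zero_apply, hp,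
        map_add, hfix, hτk, hτpl, hψ]
      rw [show L (P.proj w) = G0 (P.proj w) by simp [hL, (P.proj_mid w).1, (P.proj_mid w).2, hpp]]
      simp [map_sub, map_add, S.cw_pl, S.symm s k, hs.1]
    have e := LinearMap.congr_fun hΛ z
    simpa [Λ, hz] using e
  have hτcw : ∀ z, S.cw k (ap τ z) = S.cw k z := cw_map hτT.2 hτk
  have hτk' : ∀ x, ap τ⁻¹ (pl k x) = pl k x := fun x => by nth_rw 1 [← hτk x]; rw [ap_inv_ap]
  have hQ : S.InQ k (τ⁻¹ * g) := by
    refine ⟨S.G.mul_mem (S.G.inv_mem hτT.2) (hO.le hg), fun x => by rw [ap_mul, hfix, hτk'],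
      fun z hz => ⟨S.cw k' (ap g z - ap τ z), ?_⟩⟩
    have e := P.eq_pl (z := ap g z - ap τ z) (by rw [map_sub, hcw, hτcw, sub_self]) (hdiff z hz)
    rw [ap_mul, ← hτk' (S.cw k' _), ← e, map_sub (ap τ⁻¹), ap_inv_ap]
  obtain ⟨m, hm, e⟩ := hQ.eq_eta hO P (H.mul_mem (H.inv_mem (hO.tensor hτT)) hg)
  rw [show g = τ * (τ⁻¹ * g) by group, e]
  exact S.T.mul_mem hτT (S.rho_mem hk hm.1)

end Data

end CfsgLib.TensorSymp93
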