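import Cfsg.Agent.Lib.TensorSymp93.Root

/-!
The radical of the stabiliser of a slice `u ⊗ W` meets an overgroup in the stabiliser of the decomposition.
-/

set_option autoImplicit false
set_option linter.unusedSectionVars false
set_option linter.unusedSimpArgs false

namespace CfsgLib.TensorSymp93

open Matrix Module
open CfsgLib.GeomClasses.TensorMax (V2 M2 pl pr pr_eq C D C_pl D_pl ext_pl eq_sum)

variable {F : Type*} [Field F] {a b : ℕ}

theorem pl_zero_right (x : Fin a → F) : (pl (0 : Fin b → F) x : V2 F a b) = 0 := by ext; simp [pl]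

theorem pl_neg_right (w : Fin b → F) (x : Fin a → F) : (pl (-w) x : V2 F a b) = -pl w x := by ext; simp [pl]

namespace Data

variable {S : Data F a b}

/-- The elements fixing `u ⊗ W` pointwise and the quotient of its orthogonal by it. -/
structure InR (S : Data F a b) (u : Fin a → F) (g : GL (Fin a × Fin b) F) : Prop where
  memG : g ∈ S.G
  fix : ∀ w, ap g (pl w u) = pl w u
  perp : ∀ z, S.du u z = 0 → ∃ w, ap g z - z = pl w u

theorem du_map {g : GL (Fin a × Fin b) F} (hg : g ∈ S.G) {u : Fin a → F}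
    (hfix : ∀ w, ap g (pl w u) = pl w u) (z : V2 F a b) : S.du u (ap g z) = S.du u z := by
  refine sub_eq_zero.1 (S.nd₂ _ fun w => ?_)
  rw [map_sub, LinearMap.sub_apply, S.symm, S.symm _ w, ← S.B_left', ← S.B_left']
  nth_rw 1 [← hfix w]
  rw [hg, sub_self]

/-- The product of three transvections `y ↦ y + f(u,y) x + f(x,y) u`. -/
noncomputable def trans₂ (S : Data F a b) (u x : Fin a → F) : GL (Fin a) F :=
  S.tr (u + x) 1 * S.tr u (-1) * S.tr x (-1)

/-- Its Kronecker product with the identity. -/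
noncomputable def tl (S : Data F a b) (u x : Fin a → F) : GL (Fin a × Fin b) F :=
  kr (trans₂ S u x, (1 : GL (Fin b) F))

theorem ap_trans₂ {u x : Fin a → F} (h : S.f₁ u x = 0) (y : Fin a → F) :
    ap (trans₂ S u x) y = y + S.f₁ u y • x + S.f₁ x y • u := by
  have h' : S.f₁ x u = 0 := by rw [S.skew, h, neg_zero]
  simp only [trans₂, ap_mul, S.ap_tr, map_add, LinearMap.add_apply, map_smul, S.alt, h, h', smul_eq_mul,
    mul_zero, add_zero, zero_add]
  module

theorem tl_mem (u x : Fin a → F) : tl S u x ∈ S.T :=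
  S.krL_mem fun y z => by simp only [trans₂, ap_mul, S.tr_isometry]

theorem ap_tl {u x : Fin a → F} (h : S.f₁ u x = 0) (z : V2 F a b) :
    ap (tl S u x) z = z + pl (S.du u z) x + pl (S.du x z) u := by
  have e : ap (tl S u x) = (LinearMap.id + (pr x).comp (S.du u) + (pr u).comp (S.du x) :
      V2 F a b →ₗ[F] V2 F a b) := ext_pl fun y w => by
    rw [tl, ap_kr, ap_one, ap_trans₂ h]
    simp only [LinearMap.add_apply, LinearMap.id_apply, LinearMap.comp_apply, S.du_pl, map_add, map_smul,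
      pr_eq, pl_smul_right]
  rw [e]; rfl

theorem inR_tl {u x : Fin a → F} (h : S.f₁ u x = 0) : S.InR u (tl S u x) := by
  have h' : S.f₁ x u = 0 := by rw [S.skew, h, neg_zero]
  refine ⟨(tl_mem u x).2, fun w => ?_, fun z hz => ⟨S.du x z, ?_⟩⟩
  · rw [ap_tl h, S.du_pl, S.du_pl, S.alt, h', zero_smul, pl_zero_right, pl_zero_right]; simp
  · rw [ap_tl h, hz, pl_zero_right]; abel

namespace InR

variable {u : Fin a → F} {g g' : GL (Fin a × Fin b) F}

theorem mul (h : S.InR u g) (h' : S.InR u g') : S.InR u (g * g') := by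
  refine ⟨S.G.mul_mem h.memG h'.memG, fun w => by rw [ap_mul, h'.fix, h.fix], fun z hz => ?_⟩
  obtain ⟨x, hx⟩ := h.perp z hz
  obtain ⟨x', hx'⟩ := h'.perp z hz
  refine ⟨x + x', ?_⟩
  rw [ap_mul, sub_eq_iff_eq_add.1 hx', map_add, h.fix, sub_eq_iff_eq_add.1 hx, pl_add_right]
  abel

theorem inv (h : S.InR u g) : S.InR u g⁻¹ := by
  have hfix : ∀ w, ap g⁻¹ (pl w u) = pl w u := fun w => by
    nth_rw 1 [← h.fix w]
    rw [ap_inv_ap]
  refine ⟨S.G.inv_mem h.memG, hfix, fun z hz => ?_⟩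
  obtain ⟨x, hx⟩ := h.perp (ap g⁻¹ z) (by rw [du_map (S.G.inv_mem h.memG) hfix, hz])
  rw [ap_ap_inv] at hx
  exact ⟨-x, by rw [pl_neg_right, ← hx, neg_sub]⟩

theorem conj {τ : GL (Fin a × Fin b) F} (hτ : τ ∈ S.G) (h : S.InR u g)
    (h1 : ∀ w, ∃ w', ap τ (pl w u) = pl w' u) (h2 : ∀ w, ∃ w', ap τ⁻¹ (pl w u) = pl w' u) :
    S.InR u (τ * g * τ⁻¹) := by
  refine ⟨S.G.mul_mem (S.G.mul_mem hτ h.memG) (S.G.inv_mem hτ), fun w => ?_, fun z hz => ?_⟩
  · obtain ⟨w', hw'⟩ := h2 w
    rw [ap_mul, ap_mul, hw', h.fix, ← hw', ap_ap_inv]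
  · have hz' : S.du u (ap τ⁻¹ z) = 0 := S.nd₂ _ fun w => by
      obtain ⟨w', hw'⟩ := h1 w
      rw [S.symm, ← S.B_left', ← hτ, ap_ap_inv, hw', S.B_left', hz, map_zero]
    obtain ⟨x, hx⟩ := h.perp _ hz'
    obtain ⟨w', hw'⟩ := h1 x
    refine ⟨w', ?_⟩
    rw [ap_mul, ap_mul, sub_eq_iff_eq_add.1 hx, map_add, hw', ap_ap_inv]
    abel

end InR

/-- The movement of `y ⊗ W` along `u ⊗ W`. -/
noncomputable def pc (S : Data F a b) (u' : Fin a → F) (g : GL (Fin a × Fin b) F) (y : Fin a → F) :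
    Module.End F (Fin b → F) :=
  (S.du u').comp ((ap g - LinearMap.id).comp (pr y))

/-- The movement of `u' ⊗ W`. -/
noncomputable def mv (u' : Fin a → F) (g : GL (Fin a × Fin b) F) : (Fin b → F) →ₗ[F] V2 F a b :=
  (ap g - LinearMap.id).comp (pr u')

theorem pc_apply (u' : Fin a → F) (g : GL (Fin a × Fin b) F) (y : Fin a → F) (w : Fin b → F) :
    pc S u' g y w = S.du u' (ap g (pl w y) - pl w y) := rfl

theorem mv_apply (u' : Fin a → F) (g : GL (Fin a × Fin b) F) (w : Fin b → F) :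
    mv u' g w = ap g (pl w u') - pl w u' := rfl

section hyp

variable {u u' : Fin a → F} (hu : S.f₁ u' u = 1) {g g' : GL (Fin a × Fin b) F}
include hu

theorem hu' : S.f₁ u u' = -1 := by rw [S.skew, hu]

theorem ext_perp {M : Type*} [AddCommGroup M] [Module F M] {L L' : V2 F a b →ₗ[F] M}
    (h : ∀ w y, S.f₁ u y = 0 → L (pl w y) = L' (pl w y)) {z : V2 F a b} (hz : S.du u z = 0) :
    L z = L' z := by
  have e : L.comp (LinearMap.id + (pr u').comp (S.du u)) = L'.comp (LinearMap.id + (pr u').comp (S.du u)) :=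
    ext_pl fun y w => by
      simp only [LinearMap.comp_apply, LinearMap.add_apply, LinearMap.id_apply, S.du_pl, map_smul, pr_eq]
      rw [← map_smul, ← map_add]
      exact h w _ (by rw [map_add, map_smul, hu' hu, smul_eq_mul, mul_neg, mul_one, add_neg_cancel])
  simpa [hz, pl_zero_right, pr_eq] using LinearMap.congr_fun e z

theorem eq_pr {z : V2 F a b} (h0 : S.du u z = 0) (h : ∀ y, S.f₁ u y = 0 → S.du y z = 0) :
    z = pl (S.du u' z) u := by
  refine sub_eq_zero.1 (S.B_nondeg fun z' => ?_)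
  have e : (S.B (z - pl (S.du u' z) u) : V2 F a b →ₗ[F] F) = 0 := ext_pl fun v w => by
    have hv : S.du v (z - pl (S.du u' z) u) = 0 := by
      have e1 : ∀ y, S.f₁ u y = 0 → S.du y (z - pl (S.du u' z) u) = 0 := fun y hy => by
        rw [map_sub, h y hy, S.du_pl, S.skew u y, hy, neg_zero, zero_smul, sub_zero]
      have e2 : S.du u' (z - pl (S.du u' z) u) = 0 := by rw [map_sub, S.du_pl, hu, one_smul, sub_self]
      rw [show v = (v + S.f₁ u v • u') - S.f₁ u v • u' by abel, S.du_sub, S.du_smul, e2, smul_zero,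
        e1 _ (by rw [map_add, map_smul, hu' hu, smul_eq_mul, mul_neg, mul_one, add_neg_cancel]), sub_zero]
    rw [S.B_right', hv, map_zero, neg_zero, LinearMap.zero_apply]
  exact LinearMap.congr_fun e z'

namespace InR

theorem ap_pl (h : S.InR u g) {y : Fin a → F} (hy : S.f₁ u y = 0) (w : Fin b → F) :
    ap g (pl w y) = pl w y + pl (pc S u' g y w) u := by
  obtain ⟨x, hx⟩ := h.perp (pl w y) (by rw [S.du_pl, hy, zero_smul])
  rw [pc_apply, hx, S.du_pl, hu, one_smul]
  exact sub_eq_iff_eq_add'.1 hx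

theorem du_mv (h : S.InR u g) (w : Fin b → F) : S.du u (mv u' g w) = 0 := by
  rw [mv_apply, map_sub, du_map h.memG h.fix, sub_self]

theorem du_mv' (h : S.InR u g) {y : Fin a → F} (hy : S.f₁ u y = 0) (x w : Fin b → F) :
    S.f₂ x (S.du y (mv u' g w)) = S.f₂ (pc S u' g y x) w := by
  have e := h.memG (pl x y) (pl w u')
  rw [h.ap_pl hu hy, show ap g (pl w u') = pl w u' + mv u' g w by rw [mv_apply]; abel] at e
  simp only [map_add, LinearMap.add_apply, S.B_pl, hu' hu] at e
  rw [S.B_left', S.B_left', h.du_mv hu, map_zero] at e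
  linear_combination e

theorem pairing (h : S.InR u g) (w : Fin b → F) {z : V2 F a b} (hz : S.du u z = 0) :
    S.B (pl w u') (ap g z) = S.B (pl w u') z - S.B (mv u' g w) z := by
  obtain ⟨x, hx⟩ := h.perp z hz
  have h1 := h.memG (pl w u') z
  have h2 : S.B (mv u' g w) (ap g z - z) = 0 := by
    rw [hx, S.B_right', h.du_mv hu, map_zero, neg_zero]
  simp only [mv_apply, map_sub, LinearMap.sub_apply] at h2 ⊢
  linear_combination h1 - h2

theorem pc_mul (h : S.InR u g) (h' : S.InR u g') {y : Fin a → F} (hy : S.f₁ u y = 0) :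
    pc S u' (g * g') y = pc S u' g y + pc S u' g' y := by
  refine LinearMap.ext fun w => ?_
  rw [pc_apply, LinearMap.add_apply, ap_mul, h'.ap_pl hu hy, map_add, h.fix, h.ap_pl hu hy]
  simp [S.du_pl, hu]
  abel

theorem pc_inv (h : S.InR u g) {y : Fin a → F} (hy : S.f₁ u y = 0) :
    pc S u' g⁻¹ y = -pc S u' g y := by
  refine eq_neg_of_add_eq_zero_left ?_
  rw [← h.inv.pc_mul hu h hy, inv_mul_cancel]
  exact LinearMap.ext fun w => by rw [pc_apply, ap_one, sub_self, map_zero, LinearMap.zero_apply]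

variable [Fintype F] {H : Subgroup (GL (Fin a × Fin b) F)}

theorem centre (hO : S.Over H) (h : S.InR u g) (hgH : g ∈ H)
    (hfix : ∀ w y, S.f₁ u y = 0 → ap g (pl w y) = pl w y) : ∃ c : F, g = S.elR u (c • 1) := by
  have hu0 : u ≠ 0 := fun h0 => by simp [h0] at hu
  let T : Module.End F (Fin b → F) := -((S.du u').comp (mv u' g))
  have hN : ∀ w, mv u' g w = pl (S.du u' (mv u' g w)) u := fun w => by
    refine eq_pr hu (h.du_mv hu w) fun y hy => S.nd₂ _ fun x => ?_
    rw [S.symm, h.du_mv' hu hy, pc_apply, hfix x y hy, sub_self, map_zero, map_zero, LinearMap.zero_apply]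
  have hg : g = S.elR u T := gext fun z => by
    have hz0 : S.du u (z + pl (S.du u z) u') = 0 := by rw [map_add, S.du_pl, hu' hu]; simp
    have e1 : ap g (z + pl (S.du u z) u') = z + pl (S.du u z) u' := by
      have := ext_perp hu (L := ap g) (L' := LinearMap.id) (fun w y hy => hfix w y hy) hz0
      simpa using this
    rw [ap_elR]
    simp only [T, LinearMap.neg_apply, LinearMap.comp_apply, pl_neg_right]
    rw [← hN, mv_apply]
    rw [map_add] at e1
    linear_combination (norm := module) e1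
  obtain ⟨c, hc⟩ := hO.elR_scalar_of_mem hu0 (hg ▸ hgH)
  exact ⟨c, by rw [hg, hc]⟩

theorem key (hO : S.Over H) (h : S.InR u g) (hgH : g ∈ H) (h' : S.InR u g') (hg'H : g' ∈ H) :
    ∃ c : F, ∀ w w', S.B (mv u' g w') (mv u' g' w) - S.B (mv u' g' w') (mv u' g w) = c * S.f₂ w' w := by
  obtain ⟨c, hc⟩ := InR.centre hu hO ((h.mul h').mul (h'.mul h).inv)
    (H.mul_mem (H.mul_mem hgH hg'H) (H.inv_mem (H.mul_mem hg'H hgH))) fun w y hy => by
      have e0 : ap (g' * g) (pl w y) = ap (g * g') (pl w y) := by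
        simp only [ap_mul, h.ap_pl hu hy, h'.ap_pl hu hy, map_add, h.fix, h'.fix]
        abel
      set y0 := ap (g' * g)⁻¹ (pl w y) with hy0
      have hd : S.du u y0 = 0 := by
        rw [hy0, du_map (h'.mul h).inv.memG (h'.mul h).inv.fix, S.du_pl, hy, zero_smul]
      obtain ⟨x, hx⟩ := (h.mul h').perp y0 hd
      obtain ⟨x', hx'⟩ := (h'.mul h).perp y0 hd
      have e1 : pl w y = ap (g' * g) y0 := by rw [hy0, ap_ap_inv]
      rw [ap_mul _ (g' * g)⁻¹, ← hy0]
      have hsame : ap (g * g') y0 = ap (g' * g) y0 :=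
        ext_perp hu (L := ap (g * g')) (L' := ap (g' * g)) (fun w y hy => by
          simp only [ap_mul, h.ap_pl hu hy, h'.ap_pl hu hy, map_add, h.fix, h'.fix]
          abel) hd
      rw [hsame, ← e1]
  refine ⟨c, fun w w' => ?_⟩
  have e := congrArg (fun t => S.B (pl w' u') (ap t (pl w u'))) (mul_inv_eq_iff_eq_mul.1 hc)
  have h1 := h.pairing hu w' (h'.du_mv hu w)
  have h2 := h'.pairing hu w' (h.du_mv hu w)
  have h3 : S.du u (ap (g' * g) (pl w u')) = -w := by
    rw [du_map (h'.mul h).memG (h'.mul h).fix, S.du_pl, hu' hu, neg_one_smul]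
  rw [ap_mul (S.elR u (c • 1)), ap_elR, h3] at e
  simp only [ap_mul, mv_apply, map_sub, map_add, LinearMap.sub_apply, LinearMap.smul_apply,
    Module.End.one_apply, pl_smul_right, map_smul, smul_neg, pl_neg_right, map_neg, S.B_pl, hu, one_mul,
    smul_eq_mul] at e h1 h2 ⊢
  linear_combination -e + h1 - h2

end InR

end hyp

end Data

end CfsgLib.TensorSymp93
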