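import Cfsg.Agent.Lib.TensorSymp93.SliceR

/-!
The radical of a slice `u ⊗ W` in an overgroup consists of left transvection products.
-/

set_option autoImplicit false
set_option linter.unusedSectionVars false
set_option linter.unusedSimpArgs false

namespace CfsgLib.TensorSymp93

open Matrix Module
open CfsgLib.GeomClasses.TensorMax (V2 M2 pl pr pr_eq C D C_pl D_pl ext_pl eq_sum)

variable {F : Type*} [Field F] {a b : ℕ}

namespace Data

variable {S : Data F a b}

theorem nondeg₁ (S : Data F a b) : S.f₁.Nondegenerate :=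
  ⟨fun u h => S.nd₁ u h, fun u h => S.nd₁ u fun x => by rw [S.skew, h x, neg_zero]⟩

/-- No non-zero anticommutation relation between a skew map and all its reflected conjugates. -/
theorem skew_eq_zero (S : Data F a b) {P : Module.End F (Fin b → F)}
    (hP : ∀ x y, S.f₂ (P x) y = -S.f₂ x (P y)) {d : F} (hd : ∀ x, P (P x) = d • x)
    (h : ∀ w, S.f₂ w w ≠ 0 → ∃ l : F, ∀ x,
      P (ap (S.refl w) (P (ap (S.refl w) x))) + ap (S.refl w) (P (ap (S.refl w) (P x))) = l • x) :
    P = 0 := by
  have hzero : ∀ w, S.f₂ w w ≠ 0 → P w = 0 := by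
    intro w hw
    obtain ⟨l, hl⟩ := h w hw
    set p := P w with hp
    have hpw : S.f₂ w p = 0 := by
      have e := hP w w
      rw [S.symm (P w) w] at e
      exact (mul_eq_zero.1 (show (2 : F) * S.f₂ w (P w) = 0 by linear_combination e)).resolve_left S.two
    have hwP : ∀ x, S.f₂ w (P x) = -S.f₂ p x := fun x => by rw [hp, hP w x, neg_neg]
    have rfix : ∀ x, S.f₂ w x = 0 → ap (S.refl w) x = x := fun x hx => by
      rw [S.ap_refl, hx, mul_zero, zero_smul, sub_zero]
    have rw' : ap (S.refl w) w = -w := by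
      rw [S.ap_refl, div_mul_cancel₀ _ hw, two_smul]; abel
    obtain ⟨x, hx0, hxw, hxp⟩ := S.exists_perp₂ w p
    have hl2 : l = d + d := by
      have e := hl x
      rw [rfix x hxw, rfix (P x) (by rw [hwP, hxp, neg_zero]), hd, rfix _ (by rw [map_smul, hxw, smul_zero]),
        ← add_smul] at e
      exact sub_eq_zero.1 ((smul_eq_zero.1 (show (l - (d + d)) • x = 0 by
        rw [sub_smul, e, sub_self])).resolve_right hx0)
    have hd0 : d = 0 := by
      have e := hl w
      rw [rw', map_neg, ← hp, map_neg, rfix p hpw, map_neg, hp, hd, map_smul, rw',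
        hl2] at e
      have e2 : (2 * 2 * d) • w = 0 := by linear_combination (norm := module) -e
      have hw0 : w ≠ 0 := fun h0 => hw (by simp [h0])
      exact (mul_eq_zero.1 ((smul_eq_zero.1 e2).resolve_right hw0)).resolve_left (mul_ne_zero S.two S.two)
    by_contra hp0
    refine hp0 (S.nd₂ p fun y => ?_)
    set x := y - (S.f₂ w y / S.f₂ w w) • w with hxdef
    have hxw : S.f₂ w x = 0 := by rw [hxdef, map_sub, map_smul, smul_eq_mul, div_mul_cancel₀ _ hw, sub_self]
    have hpy : S.f₂ p y = S.f₂ p x := by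
      rw [hxdef, map_sub, map_smul, S.symm p w, hpw, smul_zero, sub_zero]
    rw [hpy]
    have hr : ap (S.refl w) (P x) = P x + (2 / S.f₂ w w * S.f₂ p x) • w := by
      rw [S.ap_refl, hwP]; module
    have e := hl x
    rw [rfix x hxw, hr, map_add, map_smul, hd, ← hp] at e
    simp only [map_add, map_smul, hd0, zero_smul, zero_add, rfix p hpw, hl2, add_zero, ← add_smul] at e
    rcases smul_eq_zero.1 e with e | e
    · rw [← mul_right_inj' (mul_ne_zero S.two (inv_ne_zero hw))]
      have := S.two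
      have e' : (2 : F) * (2 * (S.f₂ w w)⁻¹ * S.f₂ p x) = 0 := by
        rw [← e, div_eq_mul_inv]; ring
      rw [mul_zero]
      exact (mul_eq_zero.1 e').resolve_left this
    · exact absurd e hp0
  refine LinearMap.ext fun x => ?_
  rw [LinearMap.zero_apply]
  by_cases hx : S.f₂ x x = 0
  · by_cases hx0 : x = 0
    · rw [hx0, map_zero]
    obtain ⟨t, ht⟩ := S.exists_f₂_one hx0
    by_cases htt : S.f₂ t t = 0
    · have h1 : S.f₂ (x + t) (x + t) ≠ 0 := by
        simp only [map_add, LinearMap.add_apply, hx, htt, S.symm t x, ht]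
        intro h0; exact S.two (by linear_combination h0)
      have h2 : S.f₂ (x - t) (x - t) ≠ 0 := by
        simp only [map_sub, LinearMap.sub_apply, hx, htt, S.symm t x, ht]
        intro h0; exact S.two (by linear_combination -h0)
      have e1 := hzero _ h1
      have e2 := hzero _ h2
      rw [map_add] at e1
      rw [map_sub] at e2
      have e3 : (2 : F) • P x = 0 := by rw [two_smul]; linear_combination (norm := abel) e1 + e2
      exact (smul_eq_zero.1 e3).resolve_left S.two
    · obtain ⟨s, hs, hs'⟩ : ∃ s : F, s ≠ 0 ∧ S.f₂ (x + s • t) (x + s • t) ≠ 0 := by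
        by_contra hc
        push Not at hc
        have e1 := hc 1 one_ne_zero
        have e2 := hc (-1) (neg_ne_zero.2 one_ne_zero)
        simp only [map_add, map_smul, LinearMap.add_apply, LinearMap.smul_apply, hx, S.symm t x, ht,
          smul_eq_mul] at e1 e2
        exact mul_ne_zero S.two S.two (by linear_combination e1 - e2)
      have e1 := hzero _ hs'
      rw [map_add, map_smul, hzero t htt, smul_zero, add_zero] at e1
      exact e1
  · exact hzero x hx

variable [Fintype F] {H : Subgroup (GL (Fin a × Fin b) F)}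

theorem InR.exists_tl (hO : S.Over H) {u : Fin a → F} (hu0 : u ≠ 0) {g : GL (Fin a × Fin b) F}
    (h : S.InR u g) (hgH : g ∈ H) :
    g ∈ S.T ∧ ∃ m, S.f₁ u m = 0 ∧ ∀ z, S.du u z = 0 → ap g z = z + pl (S.du m z) u := by
  obtain ⟨x0, hx0⟩ := S.exists_f₁_one hu0
  set u' := -x0 with hu'def
  have hu : S.f₁ u' u = 1 := by rw [hu'def, map_neg, LinearMap.neg_apply, S.skew u x0, hx0, neg_neg]
  obtain ⟨w2, w1, hw12⟩ := S.exists_f₂
  -- the symmetric part is a scalar
  have sym : ∀ x, S.f₁ u x = 0 → ∃ c : F, ∀ w w',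
      S.f₂ (pc S u' g x w) w' + S.f₂ (pc S u' g x w') w = c * S.f₂ w' w := by
    intro x hx
    obtain ⟨c, hc⟩ := InR.key hu hO h hgH (inR_tl hx) (hO.tensor (tl_mem u x))
    refine ⟨c, fun w w' => ?_⟩
    have hmv : ∀ w, mv u' (tl S u x) w = pl (-w) x + pl (S.f₁ x u' • w) u := fun w => by
      rw [mv_apply, ap_tl hx, S.du_pl, S.du_pl, hu' hu, neg_one_smul]; abel
    have e := hc w w'
    simp only [hmv, map_add, LinearMap.add_apply, pl_neg_right, map_neg, LinearMap.neg_apply, S.B_right',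
      S.B_left', h.du_mv hu, h.du_mv' hu hx, map_zero, neg_zero, add_zero, neg_neg] at e
    linear_combination e
  let L : (Fin a → F) →ₗ[F] F :=
    (S.f₂ w2).comp ((S.du u').comp ((ap g - LinearMap.id).comp (pl w1))) +
      (S.f₂ w1).comp ((S.du u').comp ((ap g - LinearMap.id).comp (pl w2)))
  have hL : ∀ y, L y = S.f₂ w2 (pc S u' g y w1) + S.f₂ w1 (pc S u' g y w2) := fun y => rfl
  let m : Fin a → F := (S.f₁.toDual S.nondeg₁).symm ((2 : F)⁻¹ • L)
  have hm : ∀ y, S.f₁ m y = L y / 2 := fun y => by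
    show S.f₁ ((S.f₁.toDual S.nondeg₁).symm ((2 : F)⁻¹ • L)) y = _
    rw [LinearMap.BilinForm.apply_toDual_symm_apply, LinearMap.smul_apply, smul_eq_mul]; ring
  have hLu : L u = 0 := by simp [hL, pc_apply, h.fix]
  have hum : S.f₁ u m = 0 := by rw [S.skew, hm, hLu, zero_div, neg_zero]
  have hum' : S.f₁ u (-m) = 0 := by rw [map_neg, hum, neg_zero]
  set g1 := g * tl S u (-m) with hg1
  have h1 : S.InR u g1 := h.mul (inR_tl hum')
  have hg1H : g1 ∈ H := H.mul_mem hgH (hO.tensor (tl_mem u (-m)))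
  have hpt : ∀ y w, S.f₁ u y = 0 → pc S u' (tl S u (-m)) y w = (-(L y / 2)) • w := fun y w hy => by
    rw [pc_apply, ap_tl hum', S.du_pl, S.du_pl, hy, zero_smul, pl_zero_right]
    simp only [map_add, map_neg, LinearMap.neg_apply, hm, map_zero, add_zero, add_sub_cancel_left, S.du_pl, hu,
      one_smul]
  have skew : ∀ y, S.f₁ u y = 0 → ∀ x x', S.f₂ (pc S u' g1 y x) x' = -S.f₂ x (pc S u' g1 y x') := by
    intro y hy x x'
    obtain ⟨c, hc⟩ := sym y hy
    have e1 := hc w1 w2
    rw [hw12, mul_one, S.symm (pc S u' g y w1), S.symm (pc S u' g y w2), ← hL] at e1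
    have e := hc x x'
    rw [hg1, InR.pc_mul hu h (inR_tl hum') hy]
    simp only [LinearMap.add_apply, hpt _ _ hy, map_add, map_smul, LinearMap.smul_apply, smul_eq_mul]
    rw [S.symm x (pc S u' g y x')]
    have := S.two
    field_simp
    rw [← e1, S.symm x' x] at e
    linear_combination 2 * e
  have P0 : ∀ v, S.f₁ u v = 0 → pc S u' g1 v = 0 := by
    intro v hv
    have hv' : S.f₁ v u = 0 := by rw [S.skew, hv, neg_zero]
    set t : GL (Fin a × Fin b) F := kr (S.tr v 1, 1) with ht
    have hti : t⁻¹ = kr (S.tr v (-1), 1) := by rw [ht, ← kr_inv]; simp [S.tr_inv]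
    have htT : t ∈ S.T := S.tr_mem v 1
    have htu : ∀ (c : F) w, ap (kr (S.tr v c, (1 : GL (Fin b) F))) (pl w u) = pl w u := fun c w => by
      rw [ap_kr, ap_one, S.ap_tr, hv']; simp
    have hti' : ∀ w, ∃ w', ap t⁻¹ (pl w u) = pl w' u := fun w => ⟨w, by rw [hti, htu]⟩
    have hQ : S.InR u (t * g1⁻¹ * t⁻¹) := h1.inv.conj htT.2 (fun w => ⟨w, htu 1 w⟩) hti'
    have hQH : t * g1⁻¹ * t⁻¹ ∈ H :=
      H.mul_mem (H.mul_mem (hO.tensor htT) (H.inv_mem hg1H)) (H.inv_mem (hO.tensor htT))
    set P := pc S u' g1 v with hP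
    set e := g1 * (t * g1⁻¹ * t⁻¹) with he
    have hpe : ∀ y, S.f₁ u y = 0 → pc S u' e y = S.f₁ v y • P := by
      intro y hy
      refine LinearMap.ext fun w => ?_
      have hy' : S.f₁ u (y - S.f₁ v y • v) = 0 := by simp [hy, hv]
      have e2 : ap t⁻¹ (pl w y) = pl w (y - S.f₁ v y • v) := by
        rw [hti, ap_kr, ap_one, S.ap_tr]; congr 1; module
      have e3 : ap t (pl w (y - S.f₁ v y • v)) = pl w y := by rw [← e2, ap_ap_inv]
      have e4 : pc S u' g1 (y - S.f₁ v y • v) w = pc S u' g1 y w - S.f₁ v y • P w := by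
        simp only [hP, pc_apply, map_sub, map_smul]; module
      have e5 : pc S u' (t * g1⁻¹ * t⁻¹) y w = pc S u' g1⁻¹ (y - S.f₁ v y • v) w := by
        rw [pc_apply, ap_mul, ap_mul, e2, h1.inv.ap_pl hu hy', map_add, e3, htu, add_sub_cancel_left, S.du_pl,
          hu, one_smul]
      rw [he, InR.pc_mul hu h1 hQ hy, LinearMap.add_apply, e5, InR.pc_inv hu h1 hy', LinearMap.neg_apply, e4,
        LinearMap.smul_apply]
      abel
    have hsk := skew v hv
    rw [← hP] at hsk
    -- the anticommutation relation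
    have anti : ∀ (e' : GL (Fin a × Fin b) F) (P' : Module.End F (Fin b → F)), S.InR u e' → e' ∈ H →
        (∀ y, S.f₁ u y = 0 → pc S u' e' y = S.f₁ v y • P') →
        (∀ x y, S.f₂ (P' x) y = -S.f₂ x (P' y)) → ∃ l : F, ∀ x, P (P' x) + P' (P x) = l • x := by
      intro e' P' he' he'H hpe' hsk'
      obtain ⟨c, hc⟩ := InR.key hu hO h1 hg1H he' he'H
      refine ⟨-c, fun x => sub_eq_zero.1 (S.nd₂ _ fun x' => ?_)⟩
      have hB : ∀ (z : V2 F a b) (w : Fin b → F), S.du u z = 0 →
          S.B z (mv u' e' w) = S.f₂ (P' (S.du v z)) w := by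
        intro z w hz
        refine ext_perp hu (L := S.B.flip (mv u' e' w)) (L' := (S.f₂.flip w).comp (P'.comp (S.du v)))
          (fun x y hy => ?_) hz
        show S.B (pl x y) (mv u' e' w) = S.f₂ (P' (S.du v (pl x y))) w
        rw [S.B_left', he'.du_mv' hu hy, hpe' y hy, S.du_pl, map_smul, LinearMap.smul_apply]
      have e0 := hc x x'
      rw [S.B_skew (mv u' g1 x) (mv u' e' x'), hB _ _ (h1.du_mv hu x'), hB _ _ (h1.du_mv hu x), hsk', hsk',
        S.symm _ (P' x), S.symm _ (P' x'), h1.du_mv' hu hv, h1.du_mv' hu hv, ← hP, hsk (P' x') x, hsk' x',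
        S.symm x' (P' (P x)), S.symm x' x] at e0
      simp only [map_sub, map_add, map_smul, LinearMap.sub_apply, LinearMap.add_apply, LinearMap.smul_apply,
        smul_eq_mul]
      linear_combination -e0
    obtain ⟨l, hl⟩ := anti e P (h1.mul hQ) (H.mul_mem hg1H hQH) hpe hsk
    refine S.skew_eq_zero hsk (d := l / 2) (fun x => ?_) fun r hr => ?_
    · have e0 := hl x
      have := S.two
      rw [← two_smul F] at e0
      rw [← smul_right_inj this, e0, smul_smul]
      field_simp
    · set τ : GL (Fin a × Fin b) F := kr ((1 : GL (Fin a) F), S.refl r) with hτ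
      have hττ : τ⁻¹ = τ := by
        rw [hτ, ← kr_inv]
        congr 1
        exact Prod.ext inv_one (inv_eq_of_mul_eq_one_right (S.refl_mul_self hr))
      have hτu : ∀ w y, ap τ (pl w y) = pl (ap (S.refl r) w) y := fun w y => by rw [hτ, ap_kr, ap_one]
      have hτT : τ ∈ S.T := S.refl_mem hr
      have hQ' : S.InR u (τ * e * τ⁻¹) :=
        (h1.mul hQ).conj hτT.2 (fun w => ⟨_, hτu w u⟩) (fun w => ⟨_, by rw [hττ]; exact hτu w u⟩)
      refine anti (τ * e * τ⁻¹) ((ap (S.refl r)).comp (P.comp (ap (S.refl r)))) hQ'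
        (H.mul_mem (H.mul_mem (hO.tensor hτT) (H.mul_mem hg1H hQH)) (H.inv_mem (hO.tensor hτT)))
        (fun y hy => LinearMap.ext fun w => ?_) fun x y => ?_
      · rw [pc_apply, hττ, ap_mul, ap_mul, hτu, (h1.mul hQ).ap_pl hu hy, map_add, hτu, hτu, hpe y hy,
          ← ap_mul, S.refl_mul_self hr, ap_one, add_sub_cancel_left, S.du_pl, hu, one_smul]
        simp
      · have e6 : ∀ x y, S.f₂ (ap (S.refl r) x) y = S.f₂ x (ap (S.refl r) y) := fun x y => by
          rw [← S.refl_isometry hr, ← ap_mul, S.refl_mul_self hr, ap_one]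
        simp only [LinearMap.comp_apply, e6, hsk]
  obtain ⟨c, hc⟩ := InR.centre hu hO h1 hg1H fun w y hy => by
    rw [h1.ap_pl hu hy, P0 y hy, LinearMap.zero_apply, pl_zero_right, add_zero]
  have hg : g = S.elR u (c • 1) * (tl S u (-m))⁻¹ := by rw [← hc, hg1, mul_inv_cancel_right]
  refine ⟨hg ▸ S.T.mul_mem (by rw [elR_scalar]; exact S.tr_mem u c) (S.T.inv_mem (tl_mem u (-m))), m, hum,
    fun z hz => ?_⟩
  have e1 : ap g (z - pl (S.du m z) u) = z := by
    have e2 : ap g1 z = z := by rw [hc, ap_elR, hz, map_zero, pl_zero_right, add_zero]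
    rw [hg1, ap_mul, ap_tl hum', hz, pl_zero_right, add_zero] at e2
    rwa [show S.du (-m) z = -S.du m z by rw [← neg_one_smul F, S.du_smul, neg_one_smul], pl_neg_right,
      ← sub_eq_add_neg] at e2
  rw [map_sub, h.fix] at e1
  exact sub_eq_iff_eq_add.1 e1

end Data

end CfsgLib.TensorSymp93
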