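import Cfsg.Agent.Lib.TensorSymp93.SliceR2

/-!
An element of an overgroup mapping a slice `u ⊗ W` to another one preserves the tensor decomposition.
-/

set_option autoImplicit false
set_option linter.unusedSectionVars false
set_option linter.unusedSimpArgs false

namespace CfsgLib.TensorSymp93

open Matrix Module
open CfsgLib.GeomClasses.TensorMax (V2 M2 pl pr pr_eq C D C_pl D_pl ext_pl eq_sum)

variable {F : Type*} [Field F] [Fintype F] {a b : ℕ}

namespace Data

variable {S : Data F a b} {H : Subgroup (GL (Fin a × Fin b) F)}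

/-- An element mapping `u ⊗ W` into `v ⊗ W` lies in the stabiliser. -/
theorem Over.slice_right (hO : S.Over H) {g : GL (Fin a × Fin b) F} (hg : g ∈ H) {u v : Fin a → F}
    (hu0 : u ≠ 0) (hv0 : v ≠ 0) (hmap : ∀ w, ∃ w', ap g (pl w u) = pl w' v) : g ∈ S.T := by
  obtain ⟨x0, hx0⟩ := S.exists_f₁_one hu0
  set u' := -x0 with hu'def
  have hu : S.f₁ u' u = 1 := by rw [hu'def, map_neg, LinearMap.neg_apply, S.skew u x0, hx0, neg_neg]
  obtain ⟨y0, hy0⟩ := S.exists_f₁_one hv0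
  set v' := -y0 with hv'def
  have hv : S.f₁ v' v = 1 := by rw [hv'def, map_neg, LinearMap.neg_apply, S.skew v y0, hy0, neg_neg]
  let M : Module.End F (Fin b → F) := (S.du v').comp ((ap g).comp (pr u))
  have hM : ∀ w, ap g (pl w u) = pl (M w) v := fun w => by
    obtain ⟨w', e⟩ := hmap w
    show _ = pl (S.du v' (ap g (pl w u))) v
    rw [e, S.du_pl, hv, one_smul]
  have hMinj : Function.Injective M := fun w w' e => pr_ne u hu0 (ap_inj g (by
    simp only [pr_eq, hM, e]))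
  have hMs : Function.Surjective M := LinearMap.injective_iff_surjective.1 hMinj
  have hperp : ∀ z, S.du u (ap g⁻¹ z) = 0 ↔ S.du v z = 0 := fun z => by
    have e : ∀ w, S.f₂ w (S.du u (ap g⁻¹ z)) = S.f₂ (M w) (S.du v z) := fun w => by
      rw [← S.B_left', ← S.B_left', ← hM, ← hO.le hg (pl w u), ap_ap_inv]
    constructor <;> intro h <;> refine S.nd₂ _ fun w => ?_ <;> rw [S.symm]
    · obtain ⟨w', rfl⟩ := hMs w
      rw [← e, h, map_zero]
    · rw [e, h, map_zero]
  -- the middle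
  have mid : ∀ x', S.f₁ v x' = 0 → ∃ x, S.f₁ u x = 0 ∧
      ∀ z, S.du u z = 0 → S.du x' (ap g z) = M (S.du x z) := by
    intro x' hx'
    set t := tl S v x' with ht
    have hgu : ∀ w, ap g⁻¹ (pl (M w) v) = pl w u := fun w => by rw [← hM, ap_inv_ap]
    have hz' : ∀ z, S.du u z = 0 → S.du v (ap g z) = 0 := fun z hz => (hperp _).1 (by rw [ap_inv_ap, hz])
    have hQ : S.InR u (g⁻¹ * t * g) := by
      refine ⟨S.G.mul_mem (S.G.mul_mem (S.G.inv_mem (hO.le hg)) (tl_mem v x').2) (hO.le hg), fun w => ?_,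
        fun z hz => ?_⟩
      · rw [ap_mul, ap_mul, hM, ht, (inR_tl hx').fix, hgu]
      · obtain ⟨w, hw⟩ := hMs (S.du x' (ap g z))
        refine ⟨w, ?_⟩
        rw [ap_mul, ap_mul, ht, ap_tl hx', hz' z hz, pl_zero_right, add_zero, ← hw, map_add, hgu, ap_inv_ap]
        abel
    obtain ⟨-, x, hx, e⟩ := hQ.exists_tl hO hu0
      (H.mul_mem (H.mul_mem (H.inv_mem hg) (hO.tensor (tl_mem v x'))) hg)
    refine ⟨x, hx, fun z hz => ?_⟩
    have e1 := congrArg (ap g) (e z hz)
    rw [map_add, hM, ap_mul, ap_mul, ap_ap_inv, ht, ap_tl hx', hz' z hz, pl_zero_right, add_zero,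
      add_right_inj] at e1
    exact pr_ne v hv0 e1
  -- the similitude on the right
  obtain ⟨c, hc0, hMc⟩ : ∃ c : F, c ≠ 0 ∧ ∀ x y, S.f₂ (M x) (M y) = c * S.f₂ x y := by
    set t : GL (Fin a × Fin b) F := kr (S.tr u 1, 1) with ht
    let T : Module.End F (Fin b → F) :=
      M.comp ((S.du u).comp ((ap g⁻¹).comp (-(pr v'))))
    have e : g * t * g⁻¹ = S.elR v T := gext fun z => by
      rw [ap_mul, ap_mul, ht, ap_tr_left, one_smul, map_add, ap_ap_inv, hM, ap_elR]
      congr 2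
      have hd : S.du v (z + pl (S.du v z) v') = 0 := by
        rw [map_add, S.du_pl, hu' hv, neg_one_smul, add_neg_cancel]
      have h0 := (hperp _).2 hd
      rw [map_add, map_add, add_eq_zero_iff_eq_neg] at h0
      simp only [T, LinearMap.comp_apply, LinearMap.neg_apply, pr_eq, map_neg, h0]
    obtain ⟨c, hc⟩ := hO.elR_scalar_of_mem hv0 (T := T)
      (e ▸ H.mul_mem (H.mul_mem hg (hO.tensor (S.tr_mem u 1))) (H.inv_mem hg))
    have hTz : ∀ z, M (S.du u (ap g⁻¹ z)) = c • S.du v z := fun z => by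
      have := congrArg (fun t => ap t z) e
      simp only [ap_mul, ht, ap_tr_left, one_smul, map_add, ap_ap_inv, hM, ap_elR, hc, LinearMap.smul_apply,
        Module.End.one_apply, add_right_inj] at this
      exact pr_ne v hv0 this
    have hrel : ∀ x y, S.f₂ (M x) (M y) = c * S.f₂ x y := fun x y => by
      set z := ap g (-pl y u') with hz
      have e1 : S.du u (ap g⁻¹ z) = y := by rw [hz, ap_inv_ap, map_neg, S.du_pl, hu' hu, neg_one_smul, neg_neg]
      have e2 := congrArg (S.f₂ (M x)) (hTz z)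
      rw [e1, map_smul, smul_eq_mul, ← S.B_left', ← hM, hz, hO.le hg, S.B_left', map_neg, S.du_pl, hu' hu,
        neg_one_smul, neg_neg] at e2
      exact e2
    refine ⟨c, fun h0 => ?_, hrel⟩
    obtain ⟨x, y, hxy⟩ := S.exists_f₂
    obtain ⟨x', hx'⟩ := hMs x
    obtain ⟨y', hy'⟩ := hMs y
    have := hrel x' y'
    rw [hx', hy', hxy, h0, zero_mul] at this
    exact one_ne_zero this
  -- the left factor
  obtain ⟨w2, hw2, w0, hw0⟩ : ∃ w2, w2 ≠ 0 ∧ ∃ w0, S.f₂ w2 (M w0) = 1 := by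
    obtain ⟨x, y, hxy⟩ := S.exists_f₂
    obtain ⟨w0, rfl⟩ := hMs y
    exact ⟨x, fun h => by simp [h] at hxy, w0, hxy⟩
  let E : (Fin a → F) →ₗ[F] (Fin a → F) := (S.cw w2).comp ((ap g).comp (pl w0))
  have hE : ∀ y, E y = S.cw w2 (ap g (pl w0 y)) := fun y => rfl
  have hvE : ∀ y, S.f₁ u y = 0 → S.f₁ v (E y) = 0 := fun y hy => by
    rw [hE, ← S.B_left, S.B_left', (hperp _).1 (by rw [ap_inv_ap, S.du_pl, hy, zero_smul]), map_zero]
  have hgy : ∀ w y, S.f₁ u y = 0 →
      ap g (pl w y) = pl (M w) (E y) + pl (S.du v' (ap g (pl w y) - pl (M w) (E y))) v := by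
    intro w y hy
    rw [← sub_eq_iff_eq_add']
    refine eq_pr hv ?_ fun x' hx' => ?_
    · rw [map_sub, (hperp _).1 (by rw [ap_inv_ap, S.du_pl, hy, zero_smul]), S.du_pl, hvE y hy, zero_smul,
        sub_zero]
    · obtain ⟨x, hx, e⟩ := mid x' hx'
      have e1 : S.f₁ x' (E y) = S.f₁ x y := by
        rw [hE, ← S.B_left, S.B_left', e _ (by rw [S.du_pl, hy, zero_smul]), S.du_pl, map_smul, map_smul, hw0,
          smul_eq_mul, mul_one]
      rw [map_sub, e _ (by rw [S.du_pl, hy, zero_smul]), S.du_pl, map_smul, S.du_pl, e1, sub_self]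
  obtain ⟨wa, wb, hwab⟩ := S.exists_f₂
  have hiso : ∀ y y', S.f₁ u y = 0 → S.f₁ u y' = 0 → c * S.f₁ (E y) (E y') = S.f₁ y y' := by
    intro y y' hy hy'
    have e := hO.le hg (pl wa y) (pl wb y')
    rw [hgy wa y hy, hgy wb y' hy'] at e
    simp only [map_add, LinearMap.add_apply, S.B_pl, S.alt, hvE y' hy', S.skew v (E y), hvE y hy, neg_zero,
      zero_mul, add_zero, hMc, hwab, mul_one] at e
    linear_combination e
  let projv : (Fin a → F) →ₗ[F] (Fin a → F) := LinearMap.id - (S.f₁ v').smulRight v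
  let md : (Fin a → F) →ₗ[F] (Fin a → F) := LinearMap.id - (S.f₁ u').smulRight u + (S.f₁ u).smulRight u'
  let E' : (Fin a → F) →ₗ[F] (Fin a → F) :=
    (S.f₁ u').smulRight v - (S.f₁ u).smulRight (c⁻¹ • v') + projv.comp (E.comp md)
  have hE' : ∀ y, E' y = S.f₁ u' y • v - S.f₁ u y • c⁻¹ • v' + (E (md y) - S.f₁ v' (E (md y)) • v) :=
    fun y => rfl
  have hmd : ∀ y, md y = y - S.f₁ u' y • u + S.f₁ u y • u' := fun y => rfl
  have hmd1 : ∀ y, S.f₁ u (md y) = 0 := fun y => by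
    simp only [hmd, map_add, map_sub, map_smul, S.alt, hu' hu, smul_eq_mul]; ring
  have hiso' : ∀ y y', S.f₁ (E' y) (E' y') = c⁻¹ * S.f₁ y y' := by
    intro y y'
    have h1 : S.f₁ v v' = -1 := hu' hv
    have h2 : S.f₁ (E (md y)) v = 0 := by rw [S.skew, hvE _ (hmd1 y), neg_zero]
    have h3 : S.f₁ v (E (md y')) = 0 := hvE _ (hmd1 y')
    have h4 := hiso (md y) (md y') (hmd1 y) (hmd1 y')
    have h5 : S.f₁ (E (md y)) v' = -S.f₁ v' (E (md y)) := S.skew _ _
    have h6 : S.f₁ (md y) (md y') = S.f₁ y y' + S.f₁ u y * S.f₁ u' y' - S.f₁ u' y * S.f₁ u y' := by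
      simp only [hmd, map_add, map_sub, map_smul, LinearMap.add_apply, LinearMap.sub_apply, LinearMap.smul_apply,
        S.alt, hu, hu' hu, S.skew u y, S.skew u' y, smul_eq_mul]
      ring
    simp only [hE', map_add, map_sub, map_smul, LinearMap.add_apply, LinearMap.sub_apply, LinearMap.smul_apply,
      S.alt, h1, hv, h2, h3, h5, smul_eq_mul]
    have h4' : S.f₁ (E (md y)) (E (md y')) = c⁻¹ * S.f₁ (md y) (md y') := by
      rw [← h4, ← mul_assoc, inv_mul_cancel₀ hc0, one_mul]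
    rw [h4', h6]
    field_simp
    ring
  set τ : GL (Fin a × Fin b) F :=
    kr (glMk E' (inj_of_f₁ (S := S) (inv_ne_zero hc0) hiso'), glMk M hMinj) with hτ
  have hτT : τ ∈ S.T := S.kr_mem_T (μ := c⁻¹) (ν := c) (inv_mul_cancel₀ hc0)
    (fun x y => by rw [ap_glMk, ap_glMk, hiso']) fun x y => by rw [ap_glMk, ap_glMk, hMc]
  have hτpl : ∀ w y, ap τ (pl w y) = pl (M w) (E' y) := fun w y => by rw [hτ, ap_kr, ap_glMk, ap_glMk]
  have hE'u : E' u = v := by simp [hE', hmd, S.alt, hu]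
  have hτu : ∀ w, ap τ (pl w u) = ap g (pl w u) := fun w => by rw [hτpl, hE'u, hM]
  have hQ : S.InR u (τ⁻¹ * g) := by
    refine ⟨S.G.mul_mem (S.G.inv_mem hτT.2) (hO.le hg), fun w => by rw [ap_mul, ← hτu, ap_inv_ap],
      fun z hz => ?_⟩
    have hsame : ap g z - ap τ z - pl (S.du v' (ap g z - ap τ z)) v = 0 := by
      refine ext_perp hu (L := (LinearMap.id - (pr v).comp (S.du v')).comp (ap g - ap τ)) (L' := 0)
        (fun w y hy => ?_) hz
      obtain ⟨ψ, hψ⟩ : ∃ ψ, ap g (pl w y) = pl (M w) (E y) + pl ψ v := ⟨_, hgy w y hy⟩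
      have hEu : ∃ t : F, E u = t • v := ⟨S.f₂ (M w0) w2, by rw [hE, hM, S.cw_pl]⟩
      obtain ⟨t, ht⟩ := hEu
      simp only [LinearMap.comp_apply, LinearMap.sub_apply, LinearMap.id_apply, hψ, hτpl, hE', hmd, hy,
        zero_smul, sub_zero, add_zero, map_sub, map_add, map_smul, ht, S.du_pl, pr_eq, pl_smul_right,
        pl_sub_right, pl_add_right, hv, one_smul, LinearMap.zero_apply, smul_eq_mul, mul_one]
      match_scalars <;> ring
    obtain ⟨w', hw'⟩ := hMs (S.du v' (ap g z - ap τ z))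
    refine ⟨w', ?_⟩
    rw [ap_mul]
    refine ap_inj τ ?_
    rw [map_sub, ap_ap_inv, hτu, hM, hw', ← sub_eq_zero]
    exact hsame
  obtain ⟨hT, -⟩ := hQ.exists_tl hO hu0 (H.mul_mem (H.inv_mem (hO.tensor hτT)) hg)
  rw [show g = τ * (τ⁻¹ * g) by group]
  exact S.T.mul_mem hτT hT

/-- An element fixing a slice of either kind pointwise lies in the stabiliser. -/
theorem Over.fix_right (hO : S.Over H) {g : GL (Fin a × Fin b) F} (hg : g ∈ H) {u : Fin a → F}
    (hu : u ≠ 0) (hfix : ∀ w, ap g (pl w u) = pl w u) : g ∈ S.T :=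
  hO.slice_right hg hu hu fun w => ⟨w, hfix w⟩

end Data

end CfsgLib.TensorSymp93
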