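import Cfsg.Agent.Lib.TensorSymp93.Fusion

/-!
One pure singular transvection group spreads to all transvection groups.
-/

set_option autoImplicit false
set_option linter.unusedSectionVars false
set_option linter.unusedSimpArgs false

namespace CfsgLib.TensorSymp93

open Matrix Module
open CfsgLib.GeomClasses.TensorMax (V2 pl pr pr_eq ext_pl)

variable {F : Type*} [Field F] {a b : ℕ}

namespace Data

/-- A set of centres of transvection groups. -/
structure Ct (S : Data F a b) (X : Set (V2 F a b)) : Prop where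
  smul : ∀ x ∈ X, ∀ c : F, c • x ∈ X
  step : ∀ x ∈ X, ∀ y ∈ X, S.B x y ≠ 0 → ∀ c : F, x + c • y ∈ X
  inv : ∀ g ∈ S.T, ∀ x ∈ X, ap g x ∈ X

variable {S : Data F a b} {X : Set (V2 F a b)}

/-- Linking by a third centre. -/
theorem Ct.add (hX : S.Ct X) {x y w : V2 F a b} (hx : x ∈ X) (hy : y ∈ X) (hw : w ∈ X)
    (h1 : S.B x w ≠ 0) (h2 : S.B y w ≠ 0) (h3 : S.B x w + S.B y w ≠ 0) : x + y ∈ X := by
  by_cases hxy : S.B x y ≠ 0
  · simpa using hX.step x hx y hy hxy 1
  push Not at hxy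
  have e1 := hX.step x hx w hw h1 1
  rw [one_smul] at e1
  have e2 := hX.step _ e1 y hy (by
    rw [map_add, LinearMap.add_apply, hxy, zero_add, S.B_skew y w, neg_ne_zero]
    exact h2) 1
  rw [one_smul] at e2
  have e3 := hX.step _ e2 w hw (by
    simp only [map_add, LinearMap.add_apply, S.B_self, add_zero]
    exact h3) (-1)
  convert e3 using 1
  module

/-- The vectors supported on a subspace of the right factor. -/
def Supp (S : Data F a b) (K : Submodule F (Fin b → F)) (z : V2 F a b) : Prop :=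
  ∀ s, (∀ x ∈ K, S.f₂ s x = 0) → S.cw s z = 0

theorem Supp.pl {K : Submodule F (Fin b → F)} {x : Fin b → F} (hx : x ∈ K) (u : Fin a → F) :
    Supp S K (pl x u) := fun s hs => by rw [S.cw_pl, S.symm, hs x hx, zero_smul]

theorem Supp.add {K : Submodule F (Fin b → F)} {z z' : V2 F a b} (h : Supp S K z) (h' : Supp S K z') :
    Supp S K (z + z') := fun s hs => by rw [map_add, h s hs, h' s hs, add_zero]

theorem Supp.sub {K : Submodule F (Fin b → F)} {z z' : V2 F a b} (h : Supp S K z) (h' : Supp S K z') :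
    Supp S K (z - z') := fun s hs => by rw [map_sub, h s hs, h' s hs, sub_zero]

theorem refl_swap {x y : Fin b → F} (hxy : S.f₂ x x = S.f₂ y y) (hd : S.f₂ (x - y) (x - y) ≠ 0) :
    ap (S.refl (x - y)) x = y := by
  have e : 2 / S.f₂ (x - y) (x - y) * S.f₂ (x - y) x = 1 := by
    have : S.f₂ (x - y) (x - y) = 2 * S.f₂ (x - y) x := by
      simp only [map_sub, LinearMap.sub_apply, S.symm x y, hxy]; ring
    rw [div_mul_eq_mul_div, ← this, div_self hd]
  rw [S.ap_refl, e, one_smul, sub_sub_cancel]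

/-- All vectors over a hyperbolic pair. -/
theorem Ct.pair (hX : S.Ct X) {k k' : Fin b → F} (P : S.Pair k k') {u : Fin a → F} (hu : u ≠ 0)
    (h : pl k u ∈ X) (z : V2 F a b) (hz : Supp S (Submodule.span F {k, k'}) z) : z ∈ X := by
  have hall : ∀ x, pl k x ∈ X := by
    have one : ∀ x y, S.f₁ x y ≠ 0 → pl k x ∈ X → pl k y ∈ X := by
      intro x y hxy hx
      set c := (S.f₁ (y - x) x)⁻¹ with hc
      have e : ap (kr (S.tr (y - x) c, (1 : GL (Fin b) F))) (pl k x) = pl k y := by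
        have h0 : S.f₁ (y - x) x ≠ 0 := by
          rw [map_sub, LinearMap.sub_apply, S.alt, sub_zero, S.skew, neg_ne_zero]; exact hxy
        rw [ap_kr, ap_one, S.ap_tr, hc, inv_mul_cancel₀ h0, one_smul, add_sub_cancel]
      exact e ▸ hX.inv _ (S.tr_mem _ _) _ hx
    intro x
    by_cases hx : x = 0
    · have := hX.smul _ h 0
      rwa [zero_smul, ← map_zero (pl k), ← hx] at this
    by_cases hux : S.f₁ u x ≠ 0
    · exact one u x hux h
    push Not at hux
    obtain ⟨p, hp⟩ := S.exists_f₁_one hu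
    obtain ⟨r, hr⟩ := S.exists_f₁_one hx
    obtain ⟨y, hy1, hy2⟩ : ∃ y, S.f₁ u y ≠ 0 ∧ S.f₁ x y ≠ 0 := by
      by_cases h1 : S.f₁ x p ≠ 0
      · exact ⟨p, by simp [hp], h1⟩
      by_cases h2 : S.f₁ u r ≠ 0
      · exact ⟨r, h2, by simp [hr]⟩
      push Not at h1 h2
      exact ⟨p + r, by simp [hp, h2], by simp [hr, h1]⟩
    exact one y x (by rwa [S.skew, neg_ne_zero]) (one u y hy1 h)
  have hd : S.f₂ (k - k') (k - k') ≠ 0 := by
    simp only [map_sub, LinearMap.sub_apply, P.q₁, P.q₂, P.one, P.one']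
    intro h0; exact S.two (by linear_combination -h0)
  have hall' : ∀ x, pl k' x ∈ X := fun x => by
    have := hX.inv _ (S.refl_mem hd) _ (hall x)
    rwa [ap_kr, ap_one, refl_swap (by rw [P.q₁, P.q₂]) hd] at this
  have hcross : ∀ x y, S.f₁ x y ≠ 0 → pl k x + pl k' y ∈ X := fun x y hxy => by
    simpa using hX.step _ (hall x) _ (hall' y) (by rw [S.B_pl, P.one, mul_one]; exact hxy) 1
  have hform : z = pl k (S.cw k' z) + pl k' (S.cw k z) := by
    refine sub_eq_zero.1 (S.eq_zero_of_cw fun s => ?_)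
    rw [P.decomp, map_sub (S.cw (P.proj s)), hz (P.proj s) fun x hx => ?_]
    · simp [S.cw_pl, P.q₁, P.q₂, P.one, P.one', S.symm (P.proj s) k, S.symm (P.proj s) k', (P.proj_mid s).1,
        (P.proj_mid s).2, S.symm k (P.proj s), S.symm k' (P.proj s)]
    · obtain ⟨c, c', rfl⟩ := Submodule.mem_span_pair.1 hx
      simp [S.symm (P.proj s) k, S.symm (P.proj s) k', (P.proj_mid s).1, (P.proj_mid s).2]
  rw [hform]
  generalize S.cw k' z = x
  generalize S.cw k z = y
  by_cases hxy : S.f₁ x y ≠ 0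
  · exact hcross x y hxy
  push Not at hxy
  by_cases hx : x = 0
  · rw [hx, map_zero, zero_add]; exact hall' y
  by_cases hy : y = 0
  · rw [hy, map_zero, add_zero]; exact hall x
  obtain ⟨r, hr⟩ := S.exists_f₁_one hx
  obtain ⟨p0, hp0⟩ := S.exists_f₁_one hy
  obtain ⟨p, hp, hpr⟩ : ∃ p, S.f₁ y p = 1 ∧ S.f₁ p r ≠ 0 := by
    by_cases h1 : S.f₁ p0 r ≠ 0
    · exact ⟨p0, hp0, h1⟩
    push Not at h1
    exact ⟨p0 + x, by rw [map_add, hp0, S.skew x y, hxy, neg_zero, add_zero],
      by rw [map_add, LinearMap.add_apply, h1, hr, zero_add]; exact one_ne_zero⟩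
  refine hX.add (w := pl k p + pl k' r) (hall x) (hall' y) (hcross p r hpr) ?_ ?_ ?_
  all_goals simp [S.B_pl, P.q₁, P.q₂, P.one, P.one', hr, hp]
  intro h0; exact S.two (by linear_combination h0)

/-- One pure singular centre gives all centres. -/
theorem Ct.all (hX : S.Ct X) {k : Fin b → F} (hk : S.f₂ k k = 0) (hk0 : k ≠ 0) {u : Fin a → F} (hu : u ≠ 0)
    (h : pl k u ∈ X) (v : V2 F a b) : v ∈ X := by
  obtain ⟨k', P⟩ := S.exists_pair hk hk0
  suffices key : ∀ n, ∀ K : Submodule F (Fin b → F), b - finrank F K = n → k ∈ K → k' ∈ K →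
      (∀ x, ∃ y ∈ K, ∀ t ∈ K, S.f₂ (x - y) t = 0) → (∀ z, Supp S K z → z ∈ X) → v ∈ X by
    refine key _ (Submodule.span F {k, k'}) rfl (Submodule.subset_span (Set.mem_insert _ _))
      (Submodule.subset_span (Set.mem_insert_of_mem _ rfl)) (fun x => ?_) (hX.pair P hu h)
    refine ⟨S.f₂ k' x • k + S.f₂ k x • k', Submodule.mem_span_pair.2 ⟨_, _, rfl⟩, fun t ht => ?_⟩
    obtain ⟨c, c', rfl⟩ := Submodule.mem_span_pair.1 ht
    simp [P.q₁, P.q₂, P.one, P.one', S.symm x k, S.symm x k']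
    ring
  intro n
  induction n using Nat.strong_induction_on with
  | _ n ih =>
  intro K hn hkK hk'K hproj hfull
  by_cases hT : K = ⊤
  · subst hT
    exact hfull v fun s hs => by
      rw [show s = 0 from S.nd₂ s fun x => hs x Submodule.mem_top, cw_zero]
  obtain ⟨e, he, hee⟩ : ∃ e, (∀ y ∈ K, S.f₂ e y = 0) ∧ S.f₂ e e ≠ 0 := by
    by_contra hc
    push Not at hc
    refine hT (eq_top_iff.2 fun x _ => ?_)
    obtain ⟨y, hy, hy'⟩ := hproj x
    have h0 : x - y = 0 := S.nd₂ _ fun t => by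
      obtain ⟨t1, ht1, ht1'⟩ := hproj t
      have e1 := hc (x - y) hy'
      have e2 := hc (t - t1) ht1'
      have e3 := hc ((x - y) + (t - t1)) fun z hz => by
        rw [map_add, LinearMap.add_apply, hy' z hz, ht1' z hz, add_zero]
      rw [map_add (S.f₂ (x - y + (t - t1))), map_add S.f₂, LinearMap.add_apply, LinearMap.add_apply, e1, e2,
        S.symm (t - t1) (x - y), zero_add, add_zero, ← two_mul] at e3
      have e4 := (mul_eq_zero.1 e3).resolve_left S.two
      rw [map_sub (S.f₂ (x - y)), hy' t1 ht1, sub_zero] at e4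
      exact e4
    rw [sub_eq_zero.1 h0]; exact hy
  set K' := K ⊔ Submodule.span F {e} with hK'
  have hlt : K < K' := lt_of_le_of_ne le_sup_left fun heq => hee (he e
    (heq ▸ Submodule.mem_sup_right (Submodule.mem_span_singleton_self e)))
  refine ih (b - finrank F K') ?_ K' rfl (hlt.le hkK) (hlt.le hk'K) (fun x => ?_) ?_
  · have h1 := Submodule.finrank_lt_finrank_of_lt hlt
    have h2 := Submodule.finrank_le K'
    rw [Module.finrank_fin_fun] at h2
    omega
  · obtain ⟨y, hy, hy'⟩ := hproj x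
    refine ⟨y + (S.f₂ (x - y) e / S.f₂ e e) • e,
      Submodule.add_mem_sup hy (Submodule.smul_mem _ _ (Submodule.mem_span_singleton_self e)), fun t ht => ?_⟩
    obtain ⟨t1, ht1, t2, ht2, rfl⟩ := Submodule.mem_sup.1 ht
    obtain ⟨c, rfl⟩ := Submodule.mem_span_singleton.1 ht2
    have a1 := hy' t1 ht1
    simp only [map_add, map_sub, map_smul, LinearMap.sub_apply, LinearMap.smul_apply, LinearMap.add_apply,
      smul_eq_mul, he t1 ht1] at a1 ⊢
    linear_combination a1 - c * (div_mul_cancel₀ (S.f₂ x e - S.f₂ y e) hee)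
  intro z hz
  -- the norm of `e` inside the hyperbolic plane
  set h := k + (S.f₂ e e / 2) • k' with hhdef
  set h' := k - (S.f₂ e e / 2) • k' with hh'def
  have hhK : h ∈ K := K.add_mem hkK (K.smul_mem _ hk'K)
  have hh'K : h' ∈ K := K.sub_mem hkK (K.smul_mem _ hk'K)
  have h2 := S.two
  have hhh : S.f₂ h h = S.f₂ e e := by
    simp [hhdef, P.q₁, P.q₂, P.one, P.one']; field_simp; ring
  have hhh' : S.f₂ h h' = 0 := by simp [hhdef, hh'def, P.q₁, P.q₂, P.one, P.one']
  have hh'h' : S.f₂ h' h' = -S.f₂ e e := by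
    simp [hh'def, P.q₁, P.q₂, P.one, P.one']; field_simp; ring
  have heh : S.f₂ e h = 0 := he h hhK
  have hd : S.f₂ (h - e) (h - e) ≠ 0 := by
    simp only [map_sub, LinearMap.sub_apply, hhh, heh, S.symm h e]
    exact fun h0 => hee ((mul_eq_zero.1 (show (2 : F) * S.f₂ e e = 0 by linear_combination h0)).resolve_left h2)
  have hτ := S.refl_mem hd
  have hm : ∀ m ∈ K, S.f₂ m h = 0 → ∀ r, ap (kr ((1 : GL (Fin a) F), S.refl (h - e))) (pl m r) = pl m r :=
    fun m hmK hmh r => by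
      rw [ap_kr, ap_one, S.ap_refl, show S.f₂ (h - e) m = 0 by
        rw [map_sub, LinearMap.sub_apply, S.symm h m, hmh, he m hmK, sub_zero]]
      simp
  have hhe : ∀ r, ap (kr ((1 : GL (Fin a) F), S.refl (h - e))) (pl h r) = pl e r := fun r => by
    rw [ap_kr, ap_one, refl_swap hhh hd]
  set y := (S.f₂ e e)⁻¹ • S.cw e z with hy
  set p := z - pl e y with hp
  have hpe : S.cw e p = 0 := by rw [hp, map_sub, S.cw_pl, hy, smul_smul, mul_inv_cancel₀ hee, one_smul, sub_self]
  have hpK : Supp S K p := fun s hs => by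
    have e1 := hz (s - (S.f₂ s e / S.f₂ e e) • e) fun x hx => by
      obtain ⟨x1, hx1, x2, hx2, rfl⟩ := Submodule.mem_sup.1 hx
      obtain ⟨c, rfl⟩ := Submodule.mem_span_singleton.1 hx2
      simp only [map_add, map_sub, map_smul, LinearMap.sub_apply, LinearMap.smul_apply, smul_eq_mul, hs x1 hx1,
        he x1 hx1]
      field_simp
      ring
    rw [S.cw_sub, S.cw_smul, sub_eq_zero] at e1
    rw [hp, map_sub, S.cw_pl, S.symm e s, e1, hy, smul_smul, div_eq_mul_inv, sub_self]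
  have hq : pl e y ∈ X := hhe y ▸ hX.inv _ hτ _ (hfull _ (Supp.pl hhK y))
  have generic : ∀ p, Supp S K p → (∃ m ∈ K, S.f₂ m h = 0 ∧ S.cw m p ≠ 0) → p + pl e y ∈ X := by
    rintro p hp ⟨m, hmK, hmh, hmp⟩
    have hp0 : ∀ s, (∀ x ∈ K, S.f₂ s x = 0) → S.cw s p = 0 := hp
    by_cases hy0 : y = 0
    · rw [hy0, map_zero, add_zero]; exact hfull p hp
    obtain ⟨r, hr⟩ := S.exists_f₁_one hmp
    obtain ⟨r', hr'⟩ := S.exists_f₁_one hy0
    have hwX : pl m r + pl e ((S.f₂ e e)⁻¹ • r') ∈ X := by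
      have := hX.inv _ hτ _ (hfull _ ((Supp.pl (S := S) hmK r).add (Supp.pl hhK ((S.f₂ e e)⁻¹ • r'))))
      rwa [map_add, hm m hmK hmh, hhe] at this
    have b1 : S.B p (pl m r + pl e ((S.f₂ e e)⁻¹ • r')) = 1 := by
      rw [map_add, S.B_right, S.B_right, hr, hp0 e he, map_zero, LinearMap.zero_apply, add_zero]
    have b2 : S.B (pl e y) (pl m r + pl e ((S.f₂ e e)⁻¹ • r')) = 1 := by
      rw [map_add, S.B_pl, S.B_pl, he m hmK, mul_zero, zero_add, map_smul, smul_eq_mul, hr', mul_one,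
        inv_mul_cancel₀ hee]
    refine hX.add (hfull p hp) hq hwX (by rw [b1]; exact one_ne_zero) (by rw [b2]; exact one_ne_zero) ?_
    rw [b1, b2, one_add_one_eq_two]
    exact h2
  rw [show z = p + pl e y by rw [hp, sub_add_cancel]]
  by_cases hg : ∃ m ∈ K, S.f₂ m h = 0 ∧ S.cw m p ≠ 0
  · exact generic p hpK hg
  push Not at hg
  by_cases hp0 : p = 0
  · rw [hp0, zero_add]; exact hq
  have hhp : S.cw h p ≠ 0 := fun h0 => hp0 (S.eq_zero_of_cw fun s => by
    obtain ⟨t, ht, ht'⟩ := hproj s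
    have e1 : S.cw (t - (S.f₂ t h / S.f₂ e e) • h) p = 0 :=
      hg _ (K.sub_mem ht (K.smul_mem _ hhK)) (by
        simp only [map_sub, map_smul, LinearMap.sub_apply, LinearMap.smul_apply, smul_eq_mul, hhh]
        field_simp
        ring)
    rw [S.cw_sub, S.cw_smul, h0, smul_zero, sub_zero] at e1
    rw [show s = (s - t) + t by abel, S.cw_add, hpK _ ht', e1, add_zero])
  obtain ⟨r, hr⟩ := S.exists_f₁_one hhp
  obtain ⟨r2, hr2, -, -⟩ := S.exists_perp₁ 0 0
  set p0 := pl h r + pl h' r2 with hp0def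
  have hp0K : Supp S K p0 := (Supp.pl hhK r).add (Supp.pl hh'K r2)
  have hh'p : S.cw h' p = 0 := hg h' hh'K (by rw [S.symm, hhh'])
  have hne : S.cw h' p0 ≠ 0 := by
    rw [hp0def, map_add, S.cw_pl, S.cw_pl, hhh', zero_smul, zero_add, hh'h']
    exact smul_ne_zero (neg_ne_zero.2 hee) hr2
  have g0 := generic p0 hp0K ⟨h', hh'K, by rw [S.symm, hhh'], hne⟩
  have g1 : p - p0 ∈ X := hfull _ (hpK.sub hp0K)
  have hB : S.B (p - p0) (p0 + pl e y) ≠ 0 := by
    have c1 : S.cw e p0 = 0 := hp0K e he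
    have c2 : S.B p p0 = 1 := by
      rw [hp0def, map_add, S.B_right, S.B_right, hr, hh'p, map_zero, LinearMap.zero_apply, add_zero]
    rw [map_sub, LinearMap.sub_apply, map_add (S.B p), map_add (S.B p0), S.B_self, c2, S.B_right, S.B_right, c1, hpe]
    simp
  have := hX.step _ g1 _ g0 hB 1
  rwa [one_smul, show p - p0 + (p0 + pl e y) = p + pl e y by abel] at this

end Data

end CfsgLib.TensorSymp93
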