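import Cfsg.Agent.Lib.TensorSymp93.Descent
import Cfsg.Agent.Lib.TensorSymp93.Spread
import Cfsg.Agent.Lib.GeomClasses.Symp
import Cfsg.Agent.Lib.Maximal.TensorTools

/-!
Maximality of the stabiliser of a decomposition as a symplectic space tensor an orthogonal space of
dimension at least four.
-/

set_option autoImplicit false
set_option linter.unusedSectionVars false
set_option linter.unusedSimpArgs false

namespace CfsgLib.TensorSymp93

open Matrix Module
open CfsgLib.Maximal
open CfsgLib.GeomClasses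
open CfsgLib.GeomClasses.TensorMax (V2 pl ext_pl)
open scoped Kronecker

variable {F : Type*} [Field F] {m a b : ℕ}

/-- A bilinear map as a bilinear form. -/
def formBil {n : ℕ} {f : (Fin n → F) → (Fin n → F) → F} (hf : Cfsg.Geo.IsBilinearForm f) :
    LinearMap.BilinForm F (Fin n → F) :=
  LinearMap.mk₂ F f hf.add_left (fun c x y => by rw [hf.smul_left, smul_eq_mul]) (fun x y z => hf.add_right x y z)
    (fun c x y => by rw [hf.smul_right, smul_eq_mul])

theorem formBil_apply {n : ℕ} {f : (Fin n → F) → (Fin n → F) → F} (hf : Cfsg.Geo.IsBilinearForm f)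
    (x y : Fin n → F) : formBil hf x y = f x y := rfl

/-- The homomorphism of coordinates. -/
noncomputable def hom (e : (Fin m ⊕ Fin m) ≃ Fin a × Fin b) (P : GL (Fin m ⊕ Fin m) F) :
    GL (Fin a × Fin b) F →* GL (Fin m ⊕ Fin m) F :=
  (MulAut.conj P).toMonoidHom.comp (Cfsg.Geo.glReindex e.symm).toMonoidHom

theorem hom_coord (e : (Fin m ⊕ Fin m) ≃ Fin a × Fin b) (P : GL (Fin m ⊕ Fin m) F) (g : GL (Fin a × Fin b) F)
    (x : V2 F a b) :
    (hom e P g : Matrix (Fin m ⊕ Fin m) (Fin m ⊕ Fin m) F) *ᵥ TensorTools.coord e P x =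
      TensorTools.coord e P (ap g x) :=
  TensorTools.conj_reindex_mulVec e P g x

variable [Fintype F] {f₁ : (Fin a → F) → (Fin a → F) → F} {f₂ : (Fin b → F) → (Fin b → F) → F}

theorem exists_data (hodd : Odd (Fintype.card F)) (ha : 3 ≤ a) (hb : 4 ≤ b)
    (e : (Fin m ⊕ Fin m) ≃ Fin a × Fin b) (P : GL (Fin m ⊕ Fin m) F)
    (h₁ : Cfsg.Geo.IsSymplecticForm f₁) (h₂ : Cfsg.Geo.IsSymmetricForm f₂)
    (hT : Cfsg.Geo.IsTensorFormStructure id (Cfsg.sympForm m F) f₁ f₂ e P) :
    ∃ (S : Data F a b) (c : F), c ≠ 0 ∧ ∀ x y,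
      Cfsg.sympForm m F (TensorTools.coord e P x) (TensorTools.coord e P y) = c * S.B x y := by
  obtain ⟨c, hc, h⟩ := TensorTools.tensor_form_pure h₁.bilinear h₂.bilinear hT
  have hs := Symp.isSymplecticForm_sympForm (F := F) m
  let B0 : LinearMap.BilinForm F (V2 F a b) :=
    c⁻¹ • (Symp.bil hs).compl₁₂ (TensorTools.coord e P).toLinearMap (TensorTools.coord e P).toLinearMap
  have hB0 : ∀ x y, B0 x y =
      c⁻¹ * Cfsg.sympForm m F (TensorTools.coord e P x) (TensorTools.coord e P y) := fun x y => rfl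
  refine ⟨{ f₁ := formBil h₁.bilinear, f₂ := formBil h₂.bilinear, B := B0
            alt := h₁.alternating, symm := h₂.symm, nd₁ := ?_, nd₂ := ?_, B_pl := ?_, two := ?_
            ha := ha, hb := hb }, c, hc, fun x y => by rw [hB0, ← mul_assoc, mul_inv_cancel₀ hc, one_mul]⟩
  · intro u hu
    by_contra hne
    obtain ⟨x, hx⟩ := (h₁.nondegenerate u hne).2
    exact hx (hu x)
  · intro w hw
    by_contra hne
    obtain ⟨x, hx⟩ := (h₂.nondegenerate w hne).2
    exact hx (hw x)
  · intro u u' w w'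
    rw [hB0]
    show c⁻¹ * Cfsg.sympForm m F (TensorTools.coord e P (TensorTools.pure u w))
      (TensorTools.coord e P (TensorTools.pure u' w')) = _
    rw [h, ← mul_assoc, inv_mul_cancel₀ hc, one_mul, formBil_apply, formBil_apply]
  · exact Ring.two_ne_zero fun h2 =>
      Nat.not_odd_iff.2 (FiniteField.even_card_iff_char_two.1 h2) hodd

/-- The stabiliser is maximal. -/
theorem isMaximalIn (hodd : Odd (Fintype.card F)) (ha : 3 ≤ a) (hb : 4 ≤ b)
    (e : (Fin m ⊕ Fin m) ≃ Fin a × Fin b) (P : GL (Fin m ⊕ Fin m) F)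
    (h₁ : Cfsg.Geo.IsSymplecticForm f₁) (h₂ : Cfsg.Geo.IsSymmetricForm f₂)
    (hT : Cfsg.Geo.IsTensorFormStructure id (Cfsg.sympForm m F) f₁ f₂ e P) :
    Cfsg.Geo.IsMaximalIn (Cfsg.spGL m F) (Cfsg.Geo.tensorProductSubgroup a b e P ⊓ Cfsg.spGL m F) := by
  obtain ⟨S, c, hc, hB⟩ := exists_data hodd ha hb e P h₁ h₂ hT
  set Ψ := hom e P with hΨ
  have hs := Symp.isSymplecticForm_sympForm (F := F) m
  have hG : ∀ g, Ψ g ∈ Cfsg.spGL m F ↔ g ∈ S.G := by
    intro g
    constructor
    · intro hg x y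
      refine mul_left_cancel₀ hc ?_
      rw [← hB, ← hB, ← hom_coord, ← hom_coord]
      exact hg _ _
    · intro hg x y
      obtain ⟨x, rfl⟩ := (TensorTools.coord e P).surjective x
      obtain ⟨y, rfl⟩ := (TensorTools.coord e P).surjective y
      show Cfsg.sympForm m F ((Ψ g : Matrix (Fin m ⊕ Fin m) (Fin m ⊕ Fin m) F) *ᵥ _)
        ((Ψ g : Matrix (Fin m ⊕ Fin m) (Fin m ⊕ Fin m) F) *ᵥ _) = _
      rw [hΨ, hom_coord, hom_coord, hB, hB, hg]
  have hsurj : ∀ g', ∃ g, Ψ g = g' := fun g' =>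
    ⟨(Cfsg.Geo.glReindex e.symm).symm ((MulAut.conj P).symm g'), by
      show MulAut.conj P (Cfsg.Geo.glReindex e.symm _) = g'
      rw [MulEquiv.apply_symm_apply, MulEquiv.apply_symm_apply]⟩
  have hTmap : ∀ g, g ∈ S.T → Ψ g ∈ Cfsg.Geo.tensorProductSubgroup a b e P ⊓ Cfsg.spGL m F := fun g hg =>
    ⟨Subgroup.mem_map_of_mem _ (Subgroup.mem_map_of_mem _ hg.1), (hG g).2 hg.2⟩
  have hTinv : ∀ g, Ψ g ∈ Cfsg.Geo.tensorProductSubgroup a b e P ⊓ Cfsg.spGL m F → g ∈ S.T := by
    intro g hg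
    obtain ⟨x, ⟨y, hy, hxy⟩, hx⟩ := hg.1
    have h1 : y = g := (Cfsg.Geo.glReindex e.symm).injective ((MulAut.conj P).injective (by
      rw [← hxy] at hx
      exact hx))
    exact ⟨h1 ▸ hy, (hG g).1 hg.2⟩
  have tvx : ∀ (g : GL (Fin a × Fin b) F) (v : V2 F a b) (d : F),
      (∀ x, ap g x = x + (d * S.B v x) • v) →
        Ψ g = GeomClasses.formTv (Cfsg.sympForm m F) (TensorTools.coord e P v) (-d / c) := by
    intro g v d hg
    refine Units.ext (Matrix.ext_iff_mulVec.2 fun y => ?_)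
    obtain ⟨x, rfl⟩ := (TensorTools.coord e P).surjective y
    rw [Symp.formTv_mulVec hs, hΨ, hom_coord, hg, map_add, map_smul, hB, S.B_skew v x]
    congr 2
    field_simp
  obtain ⟨k, hk0, hk⟩ := S.exists_isotropic
  obtain ⟨k', Pk⟩ := S.exists_pair hk hk0
  obtain ⟨u, hu, -, -⟩ := S.exists_perp₁ 0 0
  obtain ⟨u', hu'⟩ := S.exists_f₁_one hu
  refine ⟨lt_of_le_of_ne inf_le_right fun heq => ?_, fun M hM hM' => ?_⟩
  · -- properness
    obtain ⟨g, hg⟩ := hsurj (GeomClasses.formTv (Cfsg.sympForm m F) (TensorTools.coord e P (pl k u)) (-1 / c))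
    have hgT : g ∈ S.T := hTinv g (hg.symm ▸ heq.symm ▸ Symp.formTv_mem_spGL m _ _)
    have hga : ∀ x, ap g x = x + S.B (pl k u) x • pl k u := fun x => by
      refine (TensorTools.coord e P).injective ?_
      rw [← hom_coord, ← hΨ, hg, Symp.formTv_mulVec hs, map_add, map_smul, hB, S.B_skew (pl k u) x]
      congr 2
      field_simp
    obtain ⟨y, hy0, hy, -⟩ := S.exists_perp₁ u u
    have h1 := Data.T_fix_eq_one hgT hk0 (fun x => by rw [hga, S.B_pl, hk, mul_zero, zero_smul, add_zero]) hy0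
      fun w => by rw [hga, S.B_pl, hy, zero_mul, zero_smul, add_zero]
    have h2 := hga (pl k' u')
    rw [h1, ap_one, S.B_pl, hu', Pk.one, one_mul, one_smul, left_eq_add] at h2
    exact pl_left_ne hk0 hu h2
  set H := M.comap Ψ with hH
  have hle : H ≤ S.G := fun g hg => (hG g).1 (hM' hg)
  have hTH : S.T ≤ H := fun g hg => hM (hTmap g hg)
  by_cases hno : ∀ g ∈ H, ∀ (u : Fin a → F) (k : Fin b → F) (d : F), u ≠ 0 → k ≠ 0 → S.f₂ k k = 0 →
      (∀ x, ap g x = x + (d * S.B (pl k u) x) • pl k u) → d = 0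
  · have hO : S.Over H := ⟨hle, hTH, hno⟩
    refine Or.inl (le_antisymm (fun g' hg' => ?_) hM)
    obtain ⟨g, rfl⟩ := hsurj g'
    exact hTmap g (hO.le_T hg')
  push Not at hno
  obtain ⟨g, hg, u, k, d, hu, hk0, hk, hga, hd⟩ := hno
  obtain ⟨k', Pk⟩ := S.exists_pair hk hk0
  refine Or.inr (Symp.eq_spGL_of_centres hM' ?_)
  set f := Cfsg.sympForm m F with hf
  set X : Set (V2 F a b) := {v | TensorTools.coord e P v ∈ Symp.centres f M} with hXdef
  set p := TensorTools.coord e P (pl k u) with hp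
  have hd0 : GeomClasses.formTv f p (-d / c) ∈ M := tvx g (pl k u) d hga ▸ hg
  have hdc : -d / c ≠ 0 := div_ne_zero (neg_ne_zero.2 hd) hc
  have hsqr : ∀ s : F, GeomClasses.formTv f p (-d / c * (s * s)) ∈ M := by
    intro s
    by_cases hs0 : s = 0
    · have : GeomClasses.formTv f p (-d / c * (s * s)) = 1 := by
        refine Units.ext (Matrix.ext_iff_mulVec.2 fun y => ?_)
        rw [Symp.formTv_mulVec hs, hs0, mul_zero, mul_zero, zero_mul, zero_smul, add_zero, Units.val_one,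
          Matrix.one_mulVec]
      rw [this]; exact M.one_mem
    let L : (Fin b → F) →ₗ[F] (Fin b → F) :=
      LinearMap.id + (s - 1) • (S.f₂ k').smulRight k + (s⁻¹ - 1) • (S.f₂ k).smulRight k'
    have hL : ∀ x, L x = x + (s - 1) • S.f₂ k' x • k + (s⁻¹ - 1) • S.f₂ k x • k' := fun x => rfl
    have hiso : ∀ x y, S.f₂ (L x) (L y) = 1 * S.f₂ x y := fun x y => by
      simp only [hL, map_add, map_smul, LinearMap.add_apply, LinearMap.smul_apply, smul_eq_mul, hk, Pk.q₂,
        Pk.one, Pk.one', S.symm x k, S.symm x k']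
      field_simp
      ring
    set G : GL (Fin b) F := glMk L (Data.inj_of_f₂ (S := S) one_ne_zero hiso)
    have hGT : kr ((1 : GL (Fin a) F), G) ∈ S.T := S.krR_mem fun x y => by
      simp only [G, ap_glMk, hiso, one_mul]
    have hv : ap (kr ((1 : GL (Fin a) F), G)) (pl k u) = s • pl k u := by
      have hLk : L k = s • k := by
        rw [hL, hk, Pk.one']; module
      rw [ap_kr, ap_one, show ap G k = L k by simp only [G, ap_glMk], hLk]
      ext; simp [pl]; ring
    have hm := M.mul_mem (M.mul_mem (hTH hGT : Ψ _ ∈ M) hd0) (M.inv_mem (hTH hGT : Ψ _ ∈ M))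
    rw [Symp.conj_formTv hs (hM' (hTH hGT)), hp, hΨ, hom_coord, hv, map_smul, Symp.formTv_smul hs] at hm
    rw [hp, mul_comm]
    exact hm
  have hp' : pl k u ∈ X := by
    intro t
    obtain ⟨s, r, hsr⟩ := CfsgLib.TensorSympMax.exists_binary (F := F) S.two one_ne_zero one_ne_zero (t / (-d / c))
    have : t = -d / c * (s * s) + -d / c * (r * r) := by
      rw [eq_div_iff hdc] at hsr
      linear_combination -hsr
    rw [this, ← Symp.formTv_mul hs]
    exact M.mul_mem (hsqr s) (hsqr r)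
  have hX : S.Ct X := by
    refine ⟨fun x hx t => ?_, fun x hx y hy hxy t => ?_, fun g hg x hx => ?_⟩
    · show TensorTools.coord e P (t • x) ∈ Symp.centres f M
      rw [map_smul]
      exact Symp.centres_smul hs hx t
    · show TensorTools.coord e P (x + t • y) ∈ Symp.centres f M
      rw [map_add, map_smul]
      exact Symp.centres_step hs hx hy (by show Cfsg.sympForm m F _ _ ≠ 0; rw [show Cfsg.sympForm m F (TensorTools.coord e P x) (TensorTools.coord e P y) = c * S.B x y from hB x y]; exact mul_ne_zero hc hxy) t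
    · show TensorTools.coord e P (ap g x) ∈ Symp.centres f M
      rw [← hom_coord, ← hΨ]
      exact Symp.centres_invariant_spGL hM' (hTH hg) hx
  intro v
  obtain ⟨x, rfl⟩ := (TensorTools.coord e P).surjective v
  exact hX.all hk hk0 hu hp' x

end CfsgLib.TensorSymp93
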